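import Groth.Agent.Deform.K681.AffLift
import Groth.Agent.Deform.K681.AlgDef2
import Mathlib.LinearAlgebra.TensorProduct.Basis
import Mathlib.LinearAlgebra.Basis.VectorSpace

/-!
# Extensions of a deformation of an algebra along a semismall extension: the kernel is `B₀ ⊗ J`
-/

set_option autoImplicit false

universe u

open TensorProduct CategoryTheory

noncomputable section

namespace K694.AffExt

open ArtFun ArtFun.Art K681 K681.AffRep

variable {k : Type u} [Field k] {B₀ : Type u} [CommRing B₀] [Algebra k B₀]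
variable {C' C : Art k k} (p : C' ⟶ C)

/-- the kernel of `p` -/
abbrev J : Ideal C' := RingHom.ker p.toAlgHom

variable {p} in
lemma mul_eq_zero_of_mem (hp : IsSemismallExt p) {a j : C'} (ha : a ∈ IsLocalRing.maximalIdeal C') (hj : j ∈ J p) :
    a * j = 0 := by
  have h : a * j ∈ IsLocalRing.maximalIdeal C' * RingHom.ker p.toAlgHom := Ideal.mul_mem_mul ha hj
  rw [hp.2] at h
  exact h

variable (D' : AlgDef k B₀ C')

variable {p} in
lemma smul_eq_of_pi (hp : IsSemismallExt p) {j : C'} (hj : j ∈ J p) {d d' : D'.carrier} (h : D'.π d = D'.π d') :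
    j • d = j • d' := by
  rw [← sub_eq_zero, ← smul_sub]
  have h1 : D'.π (d - d') = 0 := by rw [map_sub, h, sub_self]
  rw [mem_smul_top_iff_π] at h1
  generalize d - d' = e at h1
  induction h1 using Submodule.smul_induction_on' with
  | smul a ha y _ => rw [smul_smul, mul_comm, mul_eq_zero_of_mem hp ha hj, zero_smul]
  | add x _ y _ hx hy => rw [smul_add, hx, hy, add_zero]

/-- a section of `π` -/
def sec (b : B₀) : D'.carrier := Function.surjInv D'.surj b

@[simp] lemma pi_sec (b : B₀) : D'.π (sec D' b) = b := Function.surjInv_eq D'.surj b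

variable {p} (hp : IsSemismallExt p)

/-- the map `B₀ ⊗ J → D'` -/
def mu : B₀ ⊗[k] ↥(J p) →+ D'.carrier :=
  TensorProduct.liftAddHom
    { toFun := fun b =>
        { toFun := fun j => (j : C') • sec D' b
          map_zero' := by rw [Submodule.coe_zero, zero_smul]
          map_add' := fun j j' => by rw [Submodule.coe_add, add_smul] }
      map_zero' := AddMonoidHom.ext fun j => by
        change (j : C') • sec D' 0 = 0
        rw [smul_eq_of_pi D' hp j.2 (d' := 0) (by rw [pi_sec, map_zero]), smul_zero]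
      map_add' := fun b b' => AddMonoidHom.ext fun j => by
        change (j : C') • sec D' (b + b') = (j : C') • sec D' b + (j : C') • sec D' b'
        rw [← smul_add]
        exact smul_eq_of_pi D' hp j.2 (by rw [pi_sec, map_add, pi_sec, pi_sec]) }
    (fun c b j => by
      change (j : C') • sec D' (c • b) = ((c • j : ↥(J p)) : C') • sec D' b
      have h1 : ((c • j : ↥(J p)) : C') = algebraMap k C' c * j := by
        rw [← Algebra.smul_def]; rfl
      rw [h1, mul_comm, mul_smul]
      refine smul_eq_of_pi D' hp j.2 ?_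
      have h2 : D'.π (algebraMap k C' c • sec D' b) = algebraMap k B₀ (C'.res (algebraMap k C' c)) * b := by
        rw [Algebra.smul_def, map_mul, D'.comp, pi_sec]
      rw [pi_sec, h2, C'.res.commutes, Algebra.smul_def]
      rfl)

lemma mu_tmul' (b : B₀) (j : ↥(J p)) : mu D' hp (b ⊗ₜ j) = (j : C') • sec D' b := rfl

lemma mu_tmul (d : D'.carrier) (j : ↥(J p)) : mu D' hp (D'.π d ⊗ₜ j) = (j : C') • d := by
  rw [mu_tmul']
  exact smul_eq_of_pi D' hp j.2 (pi_sec D' _)

lemma mu_smul (d : D'.carrier) (m : B₀ ⊗[k] ↥(J p)) : mu D' hp (D'.π d • m) = d * mu D' hp m := by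
  induction m using TensorProduct.induction_on with
  | zero => rw [smul_zero, map_zero, mul_zero]
  | add x y hx hy => rw [smul_add, map_add, hx, hy, map_add, mul_add]
  | tmul b j =>
    obtain ⟨e, rfl⟩ := D'.surj b
    rw [TensorProduct.smul_tmul', smul_eq_mul, ← map_mul, mu_tmul, mu_tmul, mul_smul_comm]

lemma mu_injective : Function.Injective (mu D' hp) := by
  classical
  rw [injective_iff_map_eq_zero]
  intro m hm
  let b := Module.Basis.ofVectorSpace k B₀
  choose β hβ using fun i => D'.surj (b i)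
  let e := TensorProduct.equivFinsuppOfBasisLeft (N := ↥(J p)) b
  obtain ⟨v, rfl⟩ := e.symm.surjective m
  have h1 : e.symm v = v.sum fun i j => b i ⊗ₜ[k] j := TensorProduct.equivFinsuppOfBasisLeft_symm_apply _ _
  have h2 : Finsupp.linearCombination C' β (v.mapRange (fun j : ↥(J p) => (j : C')) rfl) = 0 := by
    rw [Finsupp.linearCombination_apply, Finsupp.sum_mapRange_index (by simp)]
    rw [h1, map_finsuppSum] at hm
    rw [← hm]
    refine Finsupp.sum_congr fun i _ => ?_
    rw [← hβ i, mu_tmul]
  have h3 := (bijective_of_basis D' b β hβ).1 (h2.trans (map_zero _).symm)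
  have h4 : v = 0 := by
    ext i
    have h5 := DFunLike.congr_fun h3 i
    rw [Finsupp.mapRange_apply] at h5
    exact h5
  rw [h4, map_zero]

lemma pi_mu (m : B₀ ⊗[k] ↥(J p)) : D'.π (mu D' hp m) = 0 := by
  induction m using TensorProduct.induction_on with
  | zero => rw [map_zero, map_zero]
  | add x y hx hy => rw [map_add, map_add, hx, hy, add_zero]
  | tmul b j =>
    obtain ⟨e, rfl⟩ := D'.surj b
    rw [mu_tmul, Algebra.smul_def, map_mul, D'.comp]
    have h1 : (j : C') ∈ IsLocalRing.maximalIdeal C' := by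
      have hj : p j = 0 := j.2
      rw [mem_maximalIdeal_iff, ← res_app p, hj, map_zero]
    rw [(mem_maximalIdeal_iff C' _).mp h1, map_zero, zero_mul]

lemma mu_mul_mu (m m' : B₀ ⊗[k] ↥(J p)) : mu D' hp m * mu D' hp m' = 0 := by
  rw [← mu_smul, pi_mu, zero_smul, map_zero]

/-- an extension of the deformation `D` along `p` -/
structure AExt (p : C' ⟶ C) (D : AlgDef k B₀ C) where
  /-- the deformation over the source of `p` -/
  D' : AlgDef k B₀ C'
  /-- the restriction map -/
  φ : D'.carrier →+* D.carrier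
  hφ : ∀ a : C', φ (algebraMap C' D'.carrier a) = algebraMap C D.carrier (p a)
  hπ : ∀ d, D.π (φ d) = D'.π d

namespace AExt

variable {D : AlgDef k B₀ C} (E : AExt p D)

lemma φ_smul (a : C') (d : E.D'.carrier) : E.φ (a • d) = p a • E.φ d := by
  rw [Algebra.smul_def, map_mul, E.hφ, ← Algebra.smul_def]

include hp in
lemma φ_surjective : Function.Surjective E.φ :=
  (AlgDef.surjective_and_ker_of_map p hp.1 E.D' D E.φ E.hφ E.hπ).1

lemma φ_mu (m : B₀ ⊗[k] ↥(J p)) : E.φ (mu E.D' hp m) = 0 := by
  induction m using TensorProduct.induction_on with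
  | zero => rw [map_zero, map_zero]
  | add x y hx hy => rw [map_add, map_add, hx, hy, add_zero]
  | tmul b j =>
    obtain ⟨e, rfl⟩ := E.D'.surj b
    have hj : p j = 0 := j.2
    rw [mu_tmul, φ_smul, hj, zero_smul]

lemma φ_eq_zero_iff (x : E.D'.carrier) : E.φ x = 0 ↔ ∃ m, mu E.D' hp m = x := by
  constructor
  · intro hx
    have h1 : x ∈ (J p) • (⊤ : Submodule C' E.D'.carrier) := by
      rw [Ideal.smul_top_eq_map]
      have h2 := (AlgDef.surjective_and_ker_of_map p hp.1 E.D' D E.φ E.hφ E.hπ).2
      have h3 : x ∈ RingHom.ker E.φ := hx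
      rw [h2] at h3
      exact h3
    clear hx
    induction h1 using Submodule.smul_induction_on' with
    | smul a ha y _ => exact ⟨E.D'.π y ⊗ₜ ⟨a, ha⟩, mu_tmul _ _ _ _⟩
    | add x _ y _ hx hy =>
      obtain ⟨m, rfl⟩ := hx
      obtain ⟨m', rfl⟩ := hy
      exact ⟨m + m', map_add _ _ _⟩
  · rintro ⟨m, rfl⟩
    exact E.φ_mu hp m

end AExt

end K694.AffExt
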