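import Groth.Agent.DefT.K694.Semi

/-!
# `B`-linear maps out of `L₂` and `L₁` as semilinear maps out of the relation module and `F`
-/

universe u v w t u' v' w' t' m m'

open TensorProduct

noncomputable section

namespace K694.Hat

open CotT K694.Basic

variable {A : Type u} {B : Type v} {ι : Type w} {σ : Type t}
variable [CommRing A] [CommRing B] [Algebra A B]
variable (P : Algebra.Presentation A B ι σ)
variable {M : Type m} [AddCommGroup M] [Module B M]

/-- the class of a relation in `L₂` -/
def toL2 : relKer P →ₛₗ[algebraMap P.toExtension.Ring B] L2 P :=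
  Semi.restr (Submodule.mkQ (LinearMap.range ((trivRelKer P).subtype.baseChange B)))

lemma toL2_apply (q : relKer P) : toL2 P q = Submodule.Quotient.mk ((1 : B) ⊗ₜ q) := rfl

lemma mk_tmul (b : B) (q : relKer P) :
    (Submodule.Quotient.mk (b ⊗ₜ q) : L2 P) = b • toL2 P q := by
  rw [toL2_apply, ← Submodule.Quotient.mk_smul, TensorProduct.smul_tmul', smul_eq_mul, mul_one]

lemma toL2_surjective : Function.Surjective (toL2 P) := by
  intro z
  obtain ⟨z, rfl⟩ := Submodule.Quotient.mk_surjective _ z
  obtain ⟨q, rfl⟩ := exists_one_tmul (algebraMap_surj P) z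
  exact ⟨q, rfl⟩

lemma smul_mem_trivRel (r : P.toExtension.Ring) (hr : algebraMap P.toExtension.Ring B r = 0)
    (q : relKer P) : r • (q : relMod P) ∈ trivRel P := by
  have : r ∈ LinearMap.range (jmap P) := by rw [range_jmap]; exact hr
  obtain ⟨f, rfl⟩ := this
  have h2 : jmap P f • (q : relMod P) = jmap P f • (q : relMod P) - jmap P (q : relMod P) • f := by
    rw [show jmap P (q : relMod P) = 0 from q.2, zero_smul, sub_zero]
  rw [h2]
  exact Submodule.subset_span ⟨f, q, rfl⟩

/-- the image of a relation in `L₂` vanishes only for trivial relations -/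
lemma toL2_eq_zero_iff (q : relKer P) : toL2 P q = 0 ↔ (q : relMod P) ∈ trivRel P := by
  rw [toL2_apply, Submodule.Quotient.mk_eq_zero]
  constructor
  · intro h
    exact Semi.mem_of_one_tmul_mem_range' (Q := relMod P) (algebraMap_surj P) (relKer P) (trivRel P)
      (fun r hr q hq => smul_mem_trivRel P r hr ⟨q, hq⟩) q h
  · intro hq
    exact ⟨(1 : B) ⊗ₜ ⟨q, hq⟩, by rw [LinearMap.baseChange_tmul]; rfl⟩

lemma toL2_eq_iff (q q' : relKer P) :
    toL2 P q = toL2 P q' ↔ (q : relMod P) - q' ∈ trivRel P := by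
  rw [← sub_eq_zero, ← map_sub, toL2_eq_zero_iff]
  rfl

lemma d2_toL2 (q : relKer P) : d2 P (toL2 P q) = (1 : B) ⊗ₜ (q : relMod P) := d2_mk_tmul P 1 q

variable {P}

/-- the semilinear map out of the relation module attached to a `B`-linear map out of `L₂` -/
def hat (ψ : L2 P →ₗ[B] M) : relKer P →ₛₗ[algebraMap P.toExtension.Ring B] M :=
  ψ.comp (toL2 P)

@[simp] lemma hat_apply (ψ : L2 P →ₗ[B] M) (q : relKer P) : hat ψ q = ψ (toL2 P q) := rfl

lemma apply_toL2_eq_zero (ψ : L2 P →ₗ[B] M) {q : relKer P} (hq : (q : relMod P) ∈ trivRel P) :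
    ψ (toL2 P q) = 0 := by
  rw [(toL2_eq_zero_iff P q).mpr hq, map_zero]

lemma hat_ext {ψ ψ' : L2 P →ₗ[B] M} (h : ∀ q, ψ (toL2 P q) = ψ' (toL2 P q)) : ψ = ψ' := by
  refine LinearMap.ext fun z => ?_
  obtain ⟨q, rfl⟩ := toL2_surjective P z
  exact h q

/-- a semilinear map out of the relation module killing the trivial relations, as a `B`-linear map
out of `L₂` -/
def ofHat (f : relKer P →ₛₗ[algebraMap P.toExtension.Ring B] M)
    (hf : ∀ q : relKer P, (q : relMod P) ∈ trivRel P → f q = 0) : L2 P →ₗ[B] M :=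
  Submodule.liftQ _ (Semi.lift f)
    (by
      rintro _ ⟨z, rfl⟩
      rw [LinearMap.mem_ker]
      induction z using TensorProduct.induction_on with
      | zero => simp
      | add x y hx hy => rw [map_add, map_add, hx, hy, add_zero]
      | tmul b k =>
        rw [LinearMap.baseChange_tmul, Semi.lift_tmul]
        change b • f (k : relKer P) = 0
        rw [hf _ k.2, smul_zero])

@[simp] lemma ofHat_toL2 (f : relKer P →ₛₗ[algebraMap P.toExtension.Ring B] M)
    (hf : ∀ q : relKer P, (q : relMod P) ∈ trivRel P → f q = 0) (q : relKer P) :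
    ofHat f hf (toL2 P q) = f q := by
  change (1 : B) • f q = f q
  rw [one_smul]

variable (P M) in
/-- vanishing of a class in `T²` -/
lemma toT2_eq_zero_iff (ψ : L2 P →ₗ[B] M) :
    toT2 P M ψ = 0 ↔ ∃ f : relMod P →ₛₗ[algebraMap P.toExtension.Ring B] M,
      ∀ q : relKer P, f q = ψ (toL2 P q) := by
  change Submodule.Quotient.mk _ = _ ↔ _
  rw [Submodule.Quotient.mk_eq_zero]
  constructor
  · rintro ⟨χ, rfl⟩
    refine ⟨Semi.restr χ, fun q => ?_⟩
    rw [Semi.restr_apply, d2Star_apply, LinearMap.comp_apply, d2_toL2]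
  · rintro ⟨f, hf⟩
    refine ⟨Semi.lift f, ?_⟩
    rw [d2Star_apply]
    apply hat_ext
    intro q
    rw [LinearMap.comp_apply, d2_toL2, Semi.lift_tmul, hf, one_smul]

variable (P M) in
lemma toT2_surjective : Function.Surjective (toT2 P M) := Submodule.mkQ_surjective _

variable (P M) in
lemma toT2_eq_iff (ψ ψ' : L2 P →ₗ[B] M) :
    toT2 P M ψ = toT2 P M ψ' ↔ ∃ f : relMod P →ₛₗ[algebraMap P.toExtension.Ring B] M,
      ∀ q : relKer P, f q = ψ (toL2 P q) - ψ' (toL2 P q) := by
  rw [← sub_eq_zero, ← map_sub, toT2_eq_zero_iff]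
  rfl

/-- semilinear maps out of the free module `F` are determined by the values on the basis -/
def freeSemi (c : σ → M) : relMod P →ₛₗ[algebraMap P.toExtension.Ring B] M where
  toFun f := f.sum fun s r => algebraMap P.toExtension.Ring B r • c s
  map_add' f g := by
    classical
    rw [Finsupp.sum_add_index]
    · intros; rw [map_zero, zero_smul]
    · intros; rw [map_add, add_smul]
  map_smul' r f := by
    rw [Finsupp.sum_smul_index', Finsupp.smul_sum]
    · refine Finsupp.sum_congr fun s _ => ?_
      rw [smul_eq_mul, map_mul, mul_smul]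
    · intros; rw [map_zero, zero_smul]

lemma freeSemi_apply (c : σ → M) (f : relMod P) :
    freeSemi (P := P) c f = f.sum fun s r => algebraMap P.toExtension.Ring B r • c s := rfl

@[simp] lemma freeSemi_single (c : σ → M) (s : σ) (r : P.toExtension.Ring) :
    freeSemi (P := P) c (Finsupp.single s r) = algebraMap P.toExtension.Ring B r • c s := by
  rw [freeSemi_apply, Finsupp.sum_single_index]
  rw [map_zero, zero_smul]

end K694.Hat
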