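import Groth.Agent.DefT.K694.ExalGen
import Groth.Agent.DefT.K694.Hat

/-!
# Extensions and `T¹`
-/

universe u v w t m

open TensorProduct

noncomputable section

namespace K694.ExalT1

open CotT K694.Basic K694.Hat Exal

section General

variable {A : Type u} {B M : Type v} {ι : Type w} {σ : Type t} [CommRing A] [CommRing B]
  [Algebra A B] [AddCommGroup M] [Module B M]
variable (P : Algebra.Presentation A B ι σ)

/-- `B`-linear maps out of `I/I²` from semilinear maps out of `I` -/
lemma exists_cot (g : P.toExtension.ker →ₛₗ[algebraMap P.toExtension.Ring B] M) :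
    ∃ φ : P.toExtension.Cotangent →ₗ[B] M, ∀ x, φ (Algebra.Extension.Cotangent.mk x) = g x := by
  let c : L1 P →ₗ[B] M := Semi.lift (g.comp (jker P))
  have hc : c ∘ₗ d2 P = 0 := by
    apply hat_ext
    intro q
    rw [LinearMap.comp_apply, d2_toL2, LinearMap.zero_apply]
    change (1 : B) • g (jker P (q : relMod P)) = 0
    have : jker P (q : relMod P) = 0 := Subtype.ext q.2
    rw [this, map_zero, smul_zero]
  obtain ⟨φ, hφ⟩ := exists_of_cocycle P M c hc
  refine ⟨φ, fun x => ?_⟩
  obtain ⟨f, rfl⟩ := exists_jker P x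
  rw [← toCot_one_tmul, ← LinearMap.comp_apply, hφ]
  change (1 : B) • g (jker P f) = _
  rw [one_smul]

variable {P}

lemma cot_smul (φ : P.toExtension.Cotangent →ₗ[B] M) (r : P.toExtension.Ring) (x : P.toExtension.ker) :
    φ (Algebra.Extension.Cotangent.mk (r • x)) =
      algebraMap _ B r • φ (Algebra.Extension.Cotangent.mk x) := by
  rw [map_smul, ← algebraMap_smul B r (Algebra.Extension.Cotangent.mk x), map_smul]

lemma cot_ext {φ φ' : P.toExtension.Cotangent →ₗ[B] M}
    (h : ∀ x, φ (Algebra.Extension.Cotangent.mk x) = φ' (Algebra.Extension.Cotangent.mk x)) :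
    φ = φ' := by
  refine LinearMap.ext fun y => ?_
  obtain ⟨x, rfl⟩ := Algebra.Extension.Cotangent.mk_surjective y
  exact h x

/-- `X` is induced by `φ : I/I² → M` through the lift `f` of `R → B` -/
structure Real (X : Ext A B M) (φ : P.toExtension.Cotangent →ₗ[B] M)
    (f : P.toExtension.Ring →ₐ[A] X.E) : Prop where
  proj : ∀ r, X.proj (f r) = algebraMap _ B r
  mem : ∀ x : P.toExtension.ker, f x = X.incl (φ (Algebra.Extension.Cotangent.mk x))

variable (P) in
/-- every extension is induced by some `φ` -/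
lemma exists_lift (X : Ext A B M) : ∃ f : P.toExtension.Ring →ₐ[A] X.E,
    ∀ r, X.proj (f r) = algebraMap _ B r := by
  have h : ∀ i, ∃ e, X.proj e = P.val i := fun i => X.isExtension.proj_surjective _
  choose e he using h
  let f : MvPolynomial ι A →ₐ[A] X.E := MvPolynomial.aeval e
  have hf : X.proj.comp f = MvPolynomial.aeval P.val := by
    apply MvPolynomial.algHom_ext
    intro i
    simp [f, he]
  exact ⟨f, fun r => (DFunLike.congr_fun hf r).trans (algebraMap_toExtension P r).symm⟩

lemma exists_real_of_lift (X : Ext A B M) (f : P.toExtension.Ring →ₐ[A] X.E)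
    (hf : ∀ r, X.proj (f r) = algebraMap _ B r) : ∃ φ, Real X φ f := by
  have h : ∀ x : P.toExtension.ker, ∃ m, X.incl m = f x := fun x =>
    ExalGen.exists_incl X (by rw [hf]; exact x.2)
  choose g hg using h
  obtain ⟨φ, hφ⟩ := exists_cot P (M := M)
    { toFun := g
      map_add' := fun x y => X.isExtension.incl_injective (by
        rw [map_add, hg, hg, hg]; exact map_add f _ _)
      map_smul' := fun r x => X.isExtension.incl_injective (by
        rw [← hf, ← ExalGen.mul_incl, hg, hg]; exact map_mul f _ _) }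
  exact ⟨φ, hf, fun x => by rw [hφ]; exact (hg x).symm⟩

variable (P) in
lemma exists_real (X : Ext A B M) : ∃ φ f, Real (P := P) X φ f := by
  obtain ⟨f, hf⟩ := exists_lift P X
  obtain ⟨φ, h⟩ := exists_real_of_lift X f hf
  exact ⟨φ, f, h⟩

lemma D_mul (ψ : L0 P →ₗ[B] M) (r s : P.toExtension.Ring) :
    ψ ((1 : B) ⊗ₜ KaehlerDifferential.D A P.toExtension.Ring (r * s)) =
      algebraMap _ B r • ψ ((1 : B) ⊗ₜ KaehlerDifferential.D A P.toExtension.Ring s) +
      algebraMap _ B s • ψ ((1 : B) ⊗ₜ KaehlerDifferential.D A P.toExtension.Ring r) := by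
  rw [Derivation.leibniz, TensorProduct.tmul_add, map_add]
  have h : ∀ (a : P.toExtension.Ring) (z : Ω[P.toExtension.Ring⁄A]),
      ψ ((1 : B) ⊗ₜ[P.toExtension.Ring] (a • z)) = algebraMap _ B a • ψ ((1 : B) ⊗ₜ z) := by
    intro a z
    rw [← TensorProduct.smul_tmul, Algebra.smul_def, mul_one, ← map_smul, TensorProduct.smul_tmul',
      smul_eq_mul, mul_one]
  rw [h, h]

/-- changing the lift by a derivation -/
def addDer (X : Ext A B M) (f : P.toExtension.Ring →ₐ[A] X.E)
    (hf : ∀ r, X.proj (f r) = algebraMap _ B r) (ψ : L0 P →ₗ[B] M) :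
    P.toExtension.Ring →ₐ[A] X.E where
  toFun r := f r + X.incl (ψ ((1 : B) ⊗ₜ KaehlerDifferential.D A P.toExtension.Ring r))
  map_one' := by
    rw [map_one, Derivation.map_one_eq_zero, TensorProduct.tmul_zero, map_zero, map_zero, add_zero]
  map_mul' r s := by
    rw [D_mul, map_mul, map_add, ← hf, ← hf, ← ExalGen.mul_incl, ← ExalGen.mul_incl]
    have := ExalGen.incl_mul_incl X (ψ ((1 : B) ⊗ₜ KaehlerDifferential.D A P.toExtension.Ring r))
      (ψ ((1 : B) ⊗ₜ KaehlerDifferential.D A P.toExtension.Ring s))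
    linear_combination (-1 : X.E) * this
  map_zero' := by
    rw [map_zero, map_zero, TensorProduct.tmul_zero, map_zero, map_zero, add_zero]
  map_add' r s := by
    rw [map_add, map_add, TensorProduct.tmul_add, map_add, map_add]
    ring
  commutes' a := by
    rw [AlgHom.commutes, Derivation.map_algebraMap, TensorProduct.tmul_zero, map_zero, map_zero,
      add_zero]

lemma addDer_apply (X : Ext A B M) (f : P.toExtension.Ring →ₐ[A] X.E)
    (hf : ∀ r, X.proj (f r) = algebraMap _ B r) (ψ : L0 P →ₗ[B] M) (r) :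
    addDer X f hf ψ r = f r + X.incl (ψ ((1 : B) ⊗ₜ KaehlerDifferential.D A P.toExtension.Ring r)) :=
  rfl

lemma real_addDer {X : Ext A B M} {φ} {f : P.toExtension.Ring →ₐ[A] X.E} (h : Real X φ f)
    (ψ : L0 P →ₗ[B] M) :
    Real X (φ + ψ ∘ₗ P.toExtension.cotangentComplex) (addDer X f h.proj ψ) where
  proj r := by
    rw [addDer_apply, map_add, h.proj, ExalGen.proj_incl, add_zero]
  mem x := by
    rw [addDer_apply, h.mem, LinearMap.add_apply, map_add, LinearMap.comp_apply,
      Algebra.Extension.cotangentComplex_mk]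

/-- two lifts differ by a derivation -/
lemma exists_addDer (X : Ext A B M) (f f' : P.toExtension.Ring →ₐ[A] X.E)
    (hf : ∀ r, X.proj (f r) = algebraMap _ B r) (hf' : ∀ r, X.proj (f' r) = algebraMap _ B r) :
    ∃ ψ : L0 P →ₗ[B] M, f' = addDer X f hf ψ := by
  have h : ∀ i, ∃ m, X.incl m = f' (MvPolynomial.X i) - f (MvPolynomial.X i) := fun i =>
    ExalGen.exists_incl X (by rw [map_sub, hf, hf', sub_self])
  choose d hd using h
  refine ⟨P.cotangentSpaceBasis.constr ℕ d, ?_⟩
  apply MvPolynomial.algHom_ext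
  intro i
  change f' (MvPolynomial.X i) = f (MvPolynomial.X i) + X.incl ((P.cotangentSpaceBasis.constr ℕ d)
    ((1 : B) ⊗ₜ KaehlerDifferential.D A P.toExtension.Ring (MvPolynomial.X i)))
  have h1 : (P.cotangentSpaceBasis.constr ℕ d) ((1 : B) ⊗ₜ KaehlerDifferential.D A
      P.toExtension.Ring (MvPolynomial.X i)) = d i := by
    have := P.cotangentSpaceBasis.constr_basis ℕ d i
    rwa [Algebra.Generators.cotangentSpaceBasis_apply] at this
  rw [h1, hd]
  abel

/-- uniqueness of `φ` up to coboundaries -/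
lemma real_unique {X : Ext A B M} {φ φ'} {f f' : P.toExtension.Ring →ₐ[A] X.E} (h : Real X φ f)
    (h' : Real X φ' f') : ∃ ψ : L0 P →ₗ[B] M, φ' = φ + ψ ∘ₗ P.toExtension.cotangentComplex := by
  obtain ⟨ψ, rfl⟩ := exists_addDer X f f' h.proj h'.proj
  refine ⟨ψ, cot_ext fun x => X.isExtension.incl_injective ?_⟩
  rw [← h'.mem, (real_addDer h ψ).mem]

/-- transport along equivalences -/
lemma real_equiv {X Y : Ext A B M} (e : Ext.Equiv X Y) {φ} {f : P.toExtension.Ring →ₐ[A] X.E}
    (h : Real X φ f) : Real Y φ (e.toAlgEquiv.toAlgHom.comp f) where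
  proj r := (e.proj_apply _).trans (h.proj r)
  mem x := by
    change e.toAlgEquiv (f x) = _
    rw [h.mem, e.apply_incl]

lemma real_T1_eq {X Y : Ext A B M} (e : Nonempty (Ext.Equiv X Y)) {φ φ'}
    {f : P.toExtension.Ring →ₐ[A] X.E} {f' : P.toExtension.Ring →ₐ[A] Y.E} (h : Real X φ f)
    (h' : Real Y φ' f') : homToT1 P M φ = homToT1 P M φ' := by
  obtain ⟨e⟩ := e
  obtain ⟨ψ, rfl⟩ := real_unique (real_equiv e h) h'
  rw [map_add, left_eq_add, homToT1_eq_zero_iff]
  exact ⟨ψ, rfl⟩

lemma real_of_T1_eq {X : Ext A B M} {φ φ'} {f : P.toExtension.Ring →ₐ[A] X.E} (h : Real X φ f)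
    (hT : homToT1 P M φ = homToT1 P M φ') : ∃ f' : P.toExtension.Ring →ₐ[A] X.E, Real X φ' f' := by
  rw [eq_comm, ← sub_eq_zero, ← map_sub, homToT1_eq_zero_iff] at hT
  obtain ⟨ψ, hψ⟩ := hT
  refine ⟨addDer X f h.proj ψ, ?_⟩
  have := real_addDer h ψ
  rw [hψ, add_sub_cancel] at this
  exact this

attribute [local instance] Exal.opModule Exal.isCentralScalar_opModule in
/-- the trivial extension is induced by `0` -/
lemma real_trivial : ∃ f : P.toExtension.Ring →ₐ[A] (Ext.trivial A B M).E,
    Real (Ext.trivial A B M) 0 f := by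
  let s : B →ₐ[A] (Ext.trivial A B M).E :=
    { TrivSqZeroExt.inlHom B M with commutes' := fun _ => rfl }
  refine ⟨s.comp (IsScalarTower.toAlgHom A P.toExtension.Ring B), fun r => rfl, fun x => ?_⟩
  rw [LinearMap.zero_apply, map_zero]
  change s (algebraMap P.toExtension.Ring B x) = 0
  rw [show algebraMap P.toExtension.Ring B x = 0 from x.2, map_zero]

end General

section Same

variable {A B M : Type u} {ι : Type u} {σ : Type t} [CommRing A] [CommRing B]
  [Algebra A B] [AddCommGroup M] [Module B M]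
variable (P : Algebra.Presentation A B ι σ)

/-- every `φ` induces an extension -/
theorem exists_ext (φ : P.toExtension.Cotangent →ₗ[B] M) : ∃ (X : Ext A B M) (f : _), Real X φ f := by
  let _ : Module P.toExtension.Ring M := Module.compHom M (algebraMap P.toExtension.Ring B)
  have _ : IsScalarTower P.toExtension.Ring B M := IsScalarTower.of_compHom P.toExtension.Ring B M
  let g : RingHom.ker (algebraMap P.toExtension.Ring B) →ₗ[P.toExtension.Ring] M :=
    { toFun := fun x => φ (Algebra.Extension.Cotangent.mk x)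
      map_add' := fun x y => by rw [map_add, map_add]
      map_smul' := fun r x => cot_smul φ r x }
  exact ⟨ExalGen.push g (algebraMap_surj P), ExalGen.pushLift g (algebraMap_surj P),
    fun r => rfl, fun x => ExalGen.pushLift_mem g (algebraMap_surj P) x⟩

variable {P} in
/-- the extension is determined by `φ` -/
theorem equiv_of_real {X Y : Ext A B M} {φ} {f : P.toExtension.Ring →ₐ[A] X.E}
    {f' : P.toExtension.Ring →ₐ[A] Y.E} (h : Real X φ f) (h' : Real Y φ f') :
    Nonempty (Ext.Equiv X Y) := by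
  let _ : Module P.toExtension.Ring M := Module.compHom M (algebraMap P.toExtension.Ring B)
  have _ : IsScalarTower P.toExtension.Ring B M := IsScalarTower.of_compHom P.toExtension.Ring B M
  let g : RingHom.ker (algebraMap P.toExtension.Ring B) →ₗ[P.toExtension.Ring] M :=
    { toFun := fun x => φ (Algebra.Extension.Cotangent.mk x)
      map_add' := fun x y => by rw [map_add, map_add]
      map_smul' := fun r x => cot_smul φ r x }
  exact ExalGen.nonempty_equiv g f (algebraMap_surj P) h.proj h.mem f' h'.proj h'.mem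

variable {P} in
/-- `X ≅ Y` iff the classes in `T¹` agree -/
theorem equiv_iff {X Y : Ext A B M} {φ φ'} {f : P.toExtension.Ring →ₐ[A] X.E}
    {f' : P.toExtension.Ring →ₐ[A] Y.E} (h : Real X φ f) (h' : Real Y φ' f') :
    Nonempty (Ext.Equiv X Y) ↔ homToT1 P M φ = homToT1 P M φ' := by
  constructor
  · intro e
    exact real_T1_eq e h h'
  · intro hT
    obtain ⟨f'', h''⟩ := real_of_T1_eq h hT
    exact equiv_of_real h'' h'

/-- the class in `T¹` of an extension -/
def cls (X : Ext A B M) : T1 P M := homToT1 P M (exists_real P X).choose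

variable {P} in
lemma cls_eq {X : Ext A B M} {φ} {f : P.toExtension.Ring →ₐ[A] X.E} (h : Real X φ f) :
    cls P X = homToT1 P M φ :=
  real_T1_eq ⟨Ext.Equiv.refl X⟩ (exists_real P X).choose_spec.choose_spec h

lemma cls_eq_iff (X Y : Ext A B M) : cls P X = cls P Y ↔ Nonempty (Ext.Equiv X Y) :=
  (equiv_iff (exists_real P X).choose_spec.choose_spec
    (exists_real P Y).choose_spec.choose_spec).symm

lemma cls_surjective : Function.Surjective (cls P (M := M)) := by
  intro t
  obtain ⟨φ, rfl⟩ := homToT1_surjective P M t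
  obtain ⟨X, f, h⟩ := exists_ext P φ
  exact ⟨X, cls_eq h⟩

lemma cls_trivial : cls P (Ext.trivial A B M) = 0 := by
  obtain ⟨f, h⟩ := real_trivial (P := P) (M := M)
  rw [cls_eq h, map_zero]

/-- extensions of `B` by `M` are classified by `T¹(B/A, M)` -/
def exalcomEquiv : Exalcom A B M ≃ T1 P M :=
  Equiv.ofBijective (Quotient.lift (cls P) fun X Y h => (cls_eq_iff P X Y).mpr h) (by
    constructor
    · intro x y
      obtain ⟨X, rfl⟩ := Quotient.exists_rep x
      obtain ⟨Y, rfl⟩ := Quotient.exists_rep y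
      intro h
      exact Quotient.sound ((cls_eq_iff P X Y).mp h)
    · intro t
      obtain ⟨X, rfl⟩ := cls_surjective P t
      exact ⟨X.cl, rfl⟩)

@[simp] lemma exalcomEquiv_cl (X : Ext A B M) : exalcomEquiv P X.cl = cls P X := rfl

lemma exalcomEquiv_zero : exalcomEquiv P (0 : Exalcom A B M) = 0 := cls_trivial P

end Same

end K694.ExalT1
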