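import Groth.Agent.DefT.K694.AffExt1
import Groth.Agent.DefT.K694.ExalT1

/-!
# Extensions of a deformation of an algebra and functions on the ideal of the presentation
-/

set_option autoImplicit false

universe u

open TensorProduct CategoryTheory

noncomputable section

namespace K694.AffExt

open ArtFun ArtFun.Art K681 K681.AffRep CotT

variable {k : Type u} [Field k] {B₀ : Type u} [CommRing B₀] [Algebra k B₀]
variable {C' C : Art k k} {p : C' ⟶ C} (hp : IsSemismallExt p)
variable {ι σ : Type u} (P : Algebra.Presentation k B₀ ι σ)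
variable {D : AlgDef k B₀ C} (θ : MvPolynomial ι C →ₐ[C] D.carrier)

/-- functions on the preimage in `C'[x]` of the ideal of `D`, additive, semilinear and prescribed on `J C'[x]` -/
structure IsU (u : MvPolynomial ι C' → B₀ ⊗[k] ↥(J p)) : Prop where
  add : ∀ z w, θ (mp p z) = 0 → θ (mp p w) = 0 → u (z + w) = u z + u w
  mul : ∀ r z, θ (mp p z) = 0 → u (r * z) = evB P (red C' r) • u z
  nrm : ∀ (j : ↥(J p)) z, u (MvPolynomial.C (j : C') * z) = evB P (red C' z) ⊗ₜ j

/-- the function of an extension with a lift of the presentation -/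
structure IsN (E : AExt p D) (θ' : MvPolynomial ι C' →ₐ[C'] E.D'.carrier)
    (u : MvPolynomial ι C' → B₀ ⊗[k] ↥(J p)) : Prop where
  lift : ∀ z, E.φ (θ' z) = θ (mp p z)
  mu : ∀ z, θ (mp p z) = 0 → mu E.D' hp (u z) = θ' z

section A

variable {P θ}
variable (hθ : ∀ z, D.π (θ z) = evB P (red C z))

include hp in
omit hθ in
variable (θ) in
lemma exists_lift_θ (E : AExt p D) : ∃ θ' : MvPolynomial ι C' →ₐ[C'] E.D'.carrier,
    ∀ z, E.φ (θ' z) = θ (mp p z) := by
  choose b hb using fun i => E.φ_surjective hp (θ (MvPolynomial.X i))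
  refine ⟨MvPolynomial.aeval b, fun z => ?_⟩
  have : E.φ.comp (MvPolynomial.aeval b : MvPolynomial ι C' →ₐ[C'] E.D'.carrier).toRingHom =
      θ.toRingHom.comp (mp p) := by
    refine MvPolynomial.ringHom_ext ?_ ?_
    · intro a
      change E.φ ((MvPolynomial.aeval b : MvPolynomial ι C' →ₐ[C'] E.D'.carrier) (MvPolynomial.C a)) =
        θ (mp p (MvPolynomial.C a))
      rw [MvPolynomial.aeval_C, E.hφ, mp, MvPolynomial.map_C]
      exact (θ.commutes _).symm
    · intro i
      change E.φ ((MvPolynomial.aeval b : MvPolynomial ι C' →ₐ[C'] E.D'.carrier) (MvPolynomial.X i)) =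
        θ (mp p (MvPolynomial.X i))
      rw [MvPolynomial.aeval_X, hb, mp, MvPolynomial.map_X]
  exact RingHom.congr_fun this z

include hθ in
lemma pi_lift {E : AExt p D} {θ' : MvPolynomial ι C' →ₐ[C'] E.D'.carrier}
    (h : ∀ z, E.φ (θ' z) = θ (mp p z)) (z : MvPolynomial ι C') : E.D'.π (θ' z) = evB P (red C' z) := by
  rw [← E.hπ, h, hθ, red_mp]

lemma mp_C_mul (j : ↥(J p)) (z : MvPolynomial ι C') : mp p (MvPolynomial.C (j : C') * z) = 0 := by
  have hj : p.toAlgHom (j : C') = 0 := j.2
  rw [map_mul, mp, MvPolynomial.map_C]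
  change MvPolynomial.C (p.toAlgHom (j : C')) * _ = 0
  rw [hj, map_zero, zero_mul]

include hθ in
theorem exists_isU (E : AExt p D) {θ' : MvPolynomial ι C' →ₐ[C'] E.D'.carrier}
    (h : ∀ z, E.φ (θ' z) = θ (mp p z)) : ∃ u, IsU P θ u ∧ IsN hp θ E θ' u := by
  classical
  have h1 : ∀ z, ∃ m, θ (mp p z) = 0 → mu E.D' hp m = θ' z := by
    intro z
    by_cases hz : θ (mp p z) = 0
    · obtain ⟨m, hm⟩ := (E.φ_eq_zero_iff hp (θ' z)).mp ((h z).trans hz)
      exact ⟨m, fun _ => hm⟩
    · exact ⟨0, fun hz' => absurd hz' hz⟩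
  choose u hu using h1
  have hadd : ∀ z w, θ (mp p z) = 0 → θ (mp p w) = 0 → θ (mp p (z + w)) = 0 := by
    intro z w hz hw
    rw [map_add, map_add, hz, hw, add_zero]
  have hmul : ∀ r z, θ (mp p z) = 0 → θ (mp p (r * z)) = 0 := by
    intro r z hz
    rw [map_mul, map_mul, hz, mul_zero]
  refine ⟨u, ⟨?_, ?_, ?_⟩, ⟨h, hu⟩⟩
  · intro z w hz hw
    apply mu_injective E.D' hp
    rw [map_add, hu _ (hadd z w hz hw), hu _ hz, hu _ hw, map_add]
  · intro r z hz
    apply mu_injective E.D' hp
    rw [hu _ (hmul r z hz), ← pi_lift hθ h, mu_smul, hu _ hz, map_mul]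
  · intro j z
    apply mu_injective E.D' hp
    rw [hu _ (by rw [mp_C_mul, map_zero]), ← pi_lift hθ h, mu_tmul, map_mul, Algebra.smul_def]
    congr 1
    exact θ'.commutes _

end A

section C

variable {P θ}
variable (hθ : ∀ z, D.π (θ z) = evB P (red C z))

variable {M : Type u} [AddCommGroup M] [Module B₀ M]

/-- the differential with values in `L₀` of a polynomial -/
def dd (P : Algebra.Presentation k B₀ ι σ) (r : MvPolynomial ι k) : L0 P :=
  (1 : B₀) ⊗ₜ[P.toExtension.Ring] (KaehlerDifferential.D k P.toExtension.Ring r)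

lemma dd_eq (x : P.toExtension.ker) :
    P.toExtension.cotangentComplex (Algebra.Extension.Cotangent.mk x) = dd P (x : P.toExtension.Ring) := by
  rw [Algebra.Extension.cotangentComplex_mk]
  rfl

lemma dd_aux_add (r s : P.toExtension.Ring) :
    (1 : B₀) ⊗ₜ[P.toExtension.Ring] (KaehlerDifferential.D k P.toExtension.Ring (r + s)) =
      (1 : B₀) ⊗ₜ[P.toExtension.Ring] (KaehlerDifferential.D k P.toExtension.Ring r) +
      (1 : B₀) ⊗ₜ[P.toExtension.Ring] (KaehlerDifferential.D k P.toExtension.Ring s) := by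
  rw [map_add, TensorProduct.tmul_add]

lemma dd_add (r s : MvPolynomial ι k) : dd P (r + s) = dd P r + dd P s := dd_aux_add r s

lemma dd_aux_mul (r s : P.toExtension.Ring) :
    (1 : B₀) ⊗ₜ[P.toExtension.Ring] (KaehlerDifferential.D k P.toExtension.Ring (r * s)) =
      algebraMap P.toExtension.Ring B₀ r •
        ((1 : B₀) ⊗ₜ[P.toExtension.Ring] (KaehlerDifferential.D k P.toExtension.Ring s)) +
      algebraMap P.toExtension.Ring B₀ s •
        ((1 : B₀) ⊗ₜ[P.toExtension.Ring] (KaehlerDifferential.D k P.toExtension.Ring r)) := by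
  rw [Derivation.leibniz, TensorProduct.tmul_add, algebraMap_smul, algebraMap_smul,
    TensorProduct.tmul_smul, TensorProduct.tmul_smul]

lemma dd_mul (r s : MvPolynomial ι k) : dd P (r * s) = evB P r • dd P s + evB P s • dd P r := by
  have h := dd_aux_mul (P := P) r s
  rw [algebraMap_toExtension, algebraMap_toExtension] at h
  exact h

lemma dd_C (a : k) : dd P (MvPolynomial.C a) = 0 := by
  have h : KaehlerDifferential.D k P.toExtension.Ring (algebraMap k P.toExtension.Ring a) = 0 :=
    (KaehlerDifferential.D k P.toExtension.Ring).map_algebraMap _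
  exact (congrArg (fun x => (1 : B₀) ⊗ₜ[P.toExtension.Ring] x) h).trans (TensorProduct.tmul_zero _ _)

lemma exists_dd (δ : ι → M) : ∃ ψ : L0 P →ₗ[B₀] M, ∀ i, ψ (dd P (MvPolynomial.X i)) = δ i := by
  refine ⟨P.cotangentSpaceBasis.constr B₀ δ, fun i => ?_⟩
  have h : dd P (MvPolynomial.X i) = P.cotangentSpaceBasis i := by
    rw [Algebra.Generators.cotangentSpaceBasis_apply]
    rfl
  rw [h, Module.Basis.constr_basis]

end C

end K694.AffExt
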