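import Groth.Agent.DefT.K694.AffExt2

/-!
# Isomorphisms of extensions, differences of the functions
-/

set_option autoImplicit false

universe u

open TensorProduct CategoryTheory

noncomputable section

namespace K694.AffExt

open ArtFun ArtFun.Art K681 K681.AffRep CotT

variable {k : Type u} [Field k] {B₀ : Type u} [CommRing B₀] [Algebra k B₀]
variable {C' C : Art k k} {p : C' ⟶ C} (hp : IsSemismallExt p)
variable {ι σ : Type u} {P : Algebra.Presentation k B₀ ι σ}
variable {D : AlgDef k B₀ C} {θ : MvPolynomial ι C →ₐ[C] D.carrier}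
variable (hθ : ∀ z, D.π (θ z) = evB P (red C z))

/-- isomorphic extensions -/
def Rel (E E' : AExt p D) : Prop := ∃ e : E.D'.carrier →ₐ[C'] E'.D'.carrier, ∀ d, E'.φ (e d) = E.φ d

lemma pi_of_rel {E E' : AExt p D} {e : E.D'.carrier →ₐ[C'] E'.D'.carrier} (he : ∀ d, E'.φ (e d) = E.φ d)
    (d : E.D'.carrier) : E'.D'.π (e d) = E.D'.π d := by
  rw [← E'.hπ, he, E.hπ]

lemma rel_mu {E E' : AExt p D} {e : E.D'.carrier →ₐ[C'] E'.D'.carrier} (he : ∀ d, E'.φ (e d) = E.φ d)
    (m : B₀ ⊗[k] ↥(J p)) : e (mu E.D' hp m) = mu E'.D' hp m := by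
  induction m using TensorProduct.induction_on with
  | zero => rw [map_zero, map_zero, map_zero]
  | add x y hx hy => rw [map_add, map_add, map_add, hx, hy]
  | tmul b j =>
    obtain ⟨d, rfl⟩ := E.D'.surj b
    rw [mu_tmul, map_smul, ← pi_of_rel he, mu_tmul]

/-- infinitesimal change of variables -/
lemma subst (D' : AlgDef k B₀ C') {θ₂ χ : MvPolynomial ι C' →ₐ[C'] D'.carrier}
    (hθ₂ : ∀ z, D'.π (θ₂ z) = evB P (red C' z)) (ψ : L0 P →ₗ[B₀] (B₀ ⊗[k] ↥(J p)))
    (hχ : ∀ i, χ (MvPolynomial.X i) = θ₂ (MvPolynomial.X i) + mu D' hp (ψ (dd P (MvPolynomial.X i))))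
    (z : MvPolynomial ι C') : χ z = θ₂ z + mu D' hp (ψ (dd P (red C' z))) := by
  induction z using MvPolynomial.induction_on with
  | C a =>
    have h1 : red C' (MvPolynomial.C a : MvPolynomial ι C') = MvPolynomial.C (C'.res a) := by
      rw [red, MvPolynomial.map_C]; rfl
    rw [h1, dd_C, map_zero, map_zero, add_zero]
    exact (χ.commutes a).trans (θ₂.commutes a).symm
  | add x y hx hy =>
    rw [map_add, hx, hy, map_add, map_add, dd_add, map_add, map_add]
    abel
  | mul_X x i hx =>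
    have h1 : red C' (MvPolynomial.X i : MvPolynomial ι C') = MvPolynomial.X i := by
      rw [red, MvPolynomial.map_X]
    have h2 : evB P (MvPolynomial.X i) = D'.π (θ₂ (MvPolynomial.X i)) := by rw [hθ₂, h1]
    have h3 := mu_mul_mu D' hp (ψ (dd P (red C' x))) (ψ (dd P (MvPolynomial.X i)))
    have h4 : mu D' hp (ψ (dd P (red C' (x * MvPolynomial.X i)))) =
        θ₂ x * mu D' hp (ψ (dd P (MvPolynomial.X i))) +
          θ₂ (MvPolynomial.X i) * mu D' hp (ψ (dd P (red C' x))) := by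
      rw [map_mul (red C'), h1, dd_mul, map_add ψ, map_smul ψ, map_smul ψ, map_add (mu D' hp), ← hθ₂, h2,
        mu_smul, mu_smul]
    rw [h4, map_mul, hx, hχ, map_mul]
    linear_combination h3

variable {E E' : AExt p D} {θ₁ : MvPolynomial ι C' →ₐ[C'] E.D'.carrier}
  {θ₂ : MvPolynomial ι C' →ₐ[C'] E'.D'.carrier} {u₁ u₂ : MvPolynomial ι C' → B₀ ⊗[k] ↥(J p)}

include hθ in
theorem exists_psi_of_rel (h₁ : IsN hp θ E θ₁ u₁) (h₂ : IsN hp θ E' θ₂ u₂) (h : Rel E E') :
    ∃ ψ : L0 P →ₗ[B₀] (B₀ ⊗[k] ↥(J p)), ∀ z, θ (mp p z) = 0 → u₁ z = u₂ z + ψ (dd P (red C' z)) := by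
  obtain ⟨e, he⟩ := h
  have h1 : ∀ i, ∃ m, mu E'.D' hp m = e (θ₁ (MvPolynomial.X i)) - θ₂ (MvPolynomial.X i) := by
    intro i
    rw [← E'.φ_eq_zero_iff hp, map_sub, he, h₁.lift, h₂.lift, sub_self]
  choose δ hδ using h1
  obtain ⟨ψ, hψ⟩ := exists_dd (P := P) δ
  refine ⟨ψ, fun z hz => mu_injective E'.D' hp ?_⟩
  have h2 := subst hp E'.D' (θ₂ := θ₂) (χ := e.comp θ₁) (pi_lift hθ h₂.lift) ψ (fun i => by
    rw [hψ, hδ, AlgHom.comp_apply, add_sub_cancel]) z
  rw [map_add, h₂.mu z hz, ← h2, ← rel_mu hp he, h₁.mu z hz]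
  rfl

include hθ in
theorem rel_of_psi (h₁ : IsN hp θ E θ₁ u₁) (h₂ : IsN hp θ E' θ₂ u₂)
    (ψ : L0 P →ₗ[B₀] (B₀ ⊗[k] ↥(J p))) (hψ : ∀ z, θ (mp p z) = 0 → u₁ z = u₂ z + ψ (dd P (red C' z))) :
    Rel E E' := by
  let χ : MvPolynomial ι C' →ₐ[C'] E'.D'.carrier := MvPolynomial.aeval fun i =>
    θ₂ (MvPolynomial.X i) + mu E'.D' hp (ψ (dd P (MvPolynomial.X i)))
  have hχ := subst hp E'.D' (θ₂ := θ₂) (χ := χ) (pi_lift hθ h₂.lift) ψ (fun i => MvPolynomial.aeval_X _ _)
  have hker : RingHom.ker θ₁.toRingHom ≤ RingHom.ker χ.toRingHom := by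
    intro z hz
    have hz' : θ₁ z = 0 := hz
    have hz2 : θ (mp p z) = 0 := by rw [← h₁.lift, hz', map_zero]
    have hu : u₁ z = 0 := mu_injective E.D' hp (by rw [h₁.mu z hz2, hz', map_zero])
    change χ z = 0
    rw [hχ, ← h₂.mu z hz2, ← map_add, ← hψ z hz2, hu, map_zero]
  have hs := θ_surjective (P := P) E.D' θ₁ (pi_lift hθ h₁.lift)
  refine ⟨AlgHom.liftOfSurjective θ₁ hs χ hker, fun d => ?_⟩
  obtain ⟨z, rfl⟩ := hs d
  rw [AlgHom.liftOfSurjective_apply, hχ, map_add, E'.φ_mu, add_zero, h₂.lift, h₁.lift]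

section Diff

variable {M : Type u} [AddCommGroup M] [Module B₀ M] {w : MvPolynomial ι C' → M}

/-- differences of functions -/
structure IsW (P : Algebra.Presentation k B₀ ι σ) (θ : MvPolynomial ι C →ₐ[C] D.carrier) (p : C' ⟶ C)
    (w : MvPolynomial ι C' → M) : Prop where
  add : ∀ z w', θ (mp p z) = 0 → θ (mp p w') = 0 → w (z + w') = w z + w w'
  mul : ∀ r z, θ (mp p z) = 0 → w (r * z) = evB P (red C' r) • w z
  nrm : ∀ (j : ↥(J p)) z, w (MvPolynomial.C (j : C') * z) = 0

lemma IsW.zero (hw : IsW P θ p w) : w 0 = 0 := by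
  have h := hw.add 0 0 (by rw [map_zero, map_zero]) (by rw [map_zero, map_zero])
  rw [add_zero] at h
  exact left_eq_add.mp h

lemma IsW.eq_zero_of_mp (hw : IsW P θ p w) {z : MvPolynomial ι C'} (hz : mp p z = 0) : w z = 0 := by
  have h1 : z ∈ Ideal.map (MvPolynomial.C : C' →+* MvPolynomial ι C') (RingHom.ker p.toAlgHom.toRingHom) := by
    rw [← MvPolynomial.ker_map]
    exact hz
  have h2 : ∀ y ∈ Ideal.map (MvPolynomial.C : C' →+* MvPolynomial ι C') (RingHom.ker p.toAlgHom.toRingHom),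
      θ (mp p y) = 0 ∧ w y = 0 := by
    intro y hy
    induction hy using Submodule.span_induction with
    | mem y hy =>
      obtain ⟨j, hj, rfl⟩ := hy
      have h3 := mp_C_mul (p := p) ⟨j, hj⟩ (1 : MvPolynomial ι C')
      have h4 := hw.nrm ⟨j, hj⟩ 1
      rw [mul_one] at h3 h4
      exact ⟨by rw [h3, map_zero], h4⟩
    | zero => exact ⟨by rw [map_zero, map_zero], hw.zero⟩
    | add x y _ _ hx hy =>
      exact ⟨by rw [map_add, map_add, hx.1, hy.1, add_zero], by rw [hw.add x y hx.1 hy.1, hx.2, hy.2, add_zero]⟩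
    | smul r x _ hx =>
      exact ⟨by rw [smul_eq_mul, map_mul, map_mul, hx.1, mul_zero],
        by rw [smul_eq_mul, hw.mul r x hx.1, hx.2, smul_zero]⟩
  exact (h2 z h1).2

include hp hθ in
lemma IsW.eq_zero_of_red (hw : IsW P θ p w) {z : MvPolynomial ι C'} (hz : θ (mp p z) = 0)
    (hz' : red C' z = 0) : w z = 0 := by
  have h1 : mp p z ∈ IsLocalRing.maximalIdeal C • LinearMap.ker θ.toLinearMap := by
    refine FlatNil.mem_smul_ker (IsLocalRing.maximalIdeal C) θ.toLinearMap (θ_surjective D θ hθ) hz ?_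
    rw [← red_eq_zero_iff, red_mp, hz']
  have h2 : ∀ y ∈ IsLocalRing.maximalIdeal C • LinearMap.ker θ.toLinearMap,
      ∃ z', mp p z' = y ∧ θ (mp p z') = 0 ∧ w z' = 0 := by
    intro y hy
    induction hy using Submodule.smul_induction_on' with
    | smul a ha y hy =>
      obtain ⟨a', ha'⟩ := hp.1 a
      obtain ⟨y', rfl⟩ := mp_surjective p hp.1 y
      refine ⟨MvPolynomial.C a' * y', ?_, ?_, ?_⟩
      · rw [map_mul, mp, MvPolynomial.map_C]
        change MvPolynomial.C (p a') * _ = _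
        rw [ha', ← MvPolynomial.smul_eq_C_mul]
      · rw [map_mul, map_mul]
        have : θ (mp p y') = 0 := hy
        rw [this, mul_zero]
      · rw [hw.mul _ _ hy]
        have h3 : red C' (MvPolynomial.C a' : MvPolynomial ι C') = 0 := by
          rw [red, MvPolynomial.map_C]
          change MvPolynomial.C (C'.res a') = 0
          rw [← res_app p, ha', (mem_maximalIdeal_iff C a).mp ha, map_zero]
        rw [h3, map_zero, zero_smul]
    | add x _ y _ hx hy =>
      obtain ⟨x', rfl, hx1, hx2⟩ := hx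
      obtain ⟨y', rfl, hy1, hy2⟩ := hy
      exact ⟨x' + y', map_add _ _ _, by rw [map_add, map_add, hx1, hy1, add_zero],
        by rw [hw.add _ _ hx1 hy1, hx2, hy2, add_zero]⟩
  obtain ⟨z', h3, h4, h5⟩ := h2 _ h1
  have h6 : mp p (z - z') = 0 := by rw [map_sub, h3, sub_self]
  have h7 := hw.add (z - z') z' (by rw [h6, map_zero]) h4
  rw [sub_add_cancel, hw.eq_zero_of_mp h6, h5, add_zero] at h7
  exact h7

include hp hθ in
lemma exists_lift_red (x : P.toExtension.ker) : ∃ z : MvPolynomial ι C', θ (mp p z) = 0 ∧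
    red C' z = (x : P.toExtension.Ring) := by
  have hx : evB P (x : P.toExtension.Ring) = 0 := by
    rw [← algebraMap_eq_evB]
    exact x.2
  obtain ⟨z, hz, hz'⟩ := exists_lift_kernel D θ hθ _ hx
  obtain ⟨z, rfl⟩ := mp_surjective p hp.1 z
  exact ⟨z, hz, by rw [← red_mp p]; exact hz'⟩

include hθ in
lemma red_mem {z : MvPolynomial ι C'} (hz : θ (mp p z) = 0) :
    (red C' z : P.toExtension.Ring) ∈ P.toExtension.ker := by
  change algebraMap P.toExtension.Ring B₀ _ = 0
  rw [algebraMap_eq_evB, ← red_mp p, ← hθ, hz, map_zero]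

include hp hθ in
/-- differences of functions come from the conormal module -/
theorem IsW.exists_cot (hw : IsW P θ p w) : ∃ v : P.toExtension.Cotangent →ₗ[B₀] M,
    ∀ z (hz : θ (mp p z) = 0), w z = v (Algebra.Extension.Cotangent.mk ⟨red C' z, red_mem hθ hz⟩) := by
  choose l hl hl' using exists_lift_red (P := P) hp hθ
  have hneg : ∀ z, θ (mp p z) = 0 → w (-z) = - w z := by
    intro z hz
    have h := hw.mul (-1) z hz
    rw [neg_one_mul, map_neg, map_one, map_neg, map_one, neg_one_smul] at h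
    exact h
  have key : ∀ z z', θ (mp p z) = 0 → θ (mp p z') = 0 → red C' z = red C' z' → w z = w z' := by
    intro z z' hz hz' h
    have hz'' : θ (mp p (-z')) = 0 := by rw [map_neg, map_neg, hz', neg_zero]
    have h1 := hw.eq_zero_of_red hp hθ (z := z + -z') (by rw [map_add, map_add, hz, hz'', add_zero])
      (by rw [map_add, map_neg, h, add_neg_cancel])
    rw [hw.add _ _ hz hz'', hneg _ hz'] at h1
    exact sub_eq_zero.mp (by rw [sub_eq_add_neg]; exact h1)
  obtain ⟨v, hv⟩ := ExalT1.exists_cot P (M := M)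
    { toFun := fun x => w (l x)
      map_add' := fun x y => by
        rw [← hw.add _ _ (hl x) (hl y)]
        refine key _ _ (hl _) (by rw [map_add, map_add, hl, hl, add_zero]) ?_
        rw [hl', map_add, hl', hl']
        rfl
      map_smul' := fun r x => by
        obtain ⟨r', hr'⟩ := red_surjective C' (r : MvPolynomial ι k)
        have h1 : algebraMap P.toExtension.Ring B₀ r = evB P (red C' r') := by
          rw [algebraMap_eq_evB, hr']
        rw [h1, ← hw.mul _ _ (hl x)]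
        refine key _ _ (hl _) (by rw [map_mul, map_mul, hl, mul_zero]) ?_
        rw [hl', map_mul, hl', hr']
        rfl }
  refine ⟨v, fun z hz => ?_⟩
  rw [hv]
  exact key _ _ hz (hl _) (hl' ⟨red C' z, red_mem hθ hz⟩).symm

end Diff

end K694.AffExt
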