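import Groth.Agent.DefT.K694.AffExt3

/-!
# Construction of an extension from a function; classification
-/

set_option autoImplicit false

universe u

open TensorProduct CategoryTheory

noncomputable section

namespace K694.AffExt

open ArtFun ArtFun.Art K681 K681.AffRep CotT

variable {k : Type u} [Field k] {B₀ : Type u} [CommRing B₀] [Algebra k B₀]
variable {C' C : Art k k} {p : C' ⟶ C} (hp : IsSemismallExt p)
variable {ι σ : Type u} {P : Algebra.Presentation k B₀ ι σ}
variable {D : AlgDef k B₀ C} {θ : MvPolynomial ι C →ₐ[C] D.carrier}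
variable (hθ : ∀ z, D.π (θ z) = evB P (red C z))
variable {u : MvPolynomial ι C' → B₀ ⊗[k] ↥(J p)}

lemma IsU.zero (hu : IsU P θ u) : u 0 = 0 := by
  have h := hu.add 0 0 (by rw [map_zero, map_zero]) (by rw [map_zero, map_zero])
  rw [add_zero] at h
  exact left_eq_add.mp h

lemma IsU.neg (hu : IsU P θ u) {w : MvPolynomial ι C'} (hw : θ (mp p w) = 0) : u (-w) = - u w := by
  have h := hu.add w (-w) hw (by rw [map_neg, map_neg, hw, neg_zero])
  rw [add_neg_cancel, hu.zero] at h
  exact (neg_eq_of_add_eq_zero_right h.symm).symm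

/-- the ideal of the extension -/
def idl (hu : IsU P θ u) : Ideal (MvPolynomial ι C') where
  carrier := {z | θ (mp p z) = 0 ∧ u z = 0}
  add_mem' := fun {z w} hz hw => ⟨by rw [map_add, map_add, hz.1, hw.1, add_zero],
    by rw [hu.add _ _ hz.1 hw.1, hz.2, hw.2, add_zero]⟩
  zero_mem' := ⟨by rw [map_zero, map_zero], hu.zero⟩
  smul_mem' := fun r z hz => ⟨by rw [smul_eq_mul, map_mul, map_mul, hz.1, mul_zero],
    by rw [smul_eq_mul, hu.mul _ _ hz.1, hz.2, smul_zero]⟩

lemma mem_idl (hu : IsU P θ u) (z : MvPolynomial ι C') : z ∈ idl hu ↔ θ (mp p z) = 0 ∧ u z = 0 := Iff.rfl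

/-- the total ring of the extension -/
abbrev Tot (hu : IsU P θ u) : Type u := MvPolynomial ι C' ⧸ idl hu

variable (hu : IsU P θ u)

/-- its reduction -/
def totπ : Tot hu →+* B₀ :=
  Ideal.Quotient.lift _ ((evB P).toRingHom.comp (red C')) (fun z hz => by
    change evB P (red C' z) = 0
    rw [← red_mp p, ← hθ, hz.1, map_zero])

lemma totπ_mk (z : MvPolynomial ι C') : totπ hθ hu (Ideal.Quotient.mk _ z) = evB P (red C' z) := rfl

/-- the restriction to `D` -/
def totφ : Tot hu →+* D.carrier :=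
  Ideal.Quotient.lift _ (θ.toRingHom.comp (mp p)) (fun _ hz => hz.1)

lemma totφ_mk (z : MvPolynomial ι C') : totφ hu (Ideal.Quotient.mk _ z) = θ (mp p z) := rfl

include hu in
/-- all values are attained on `J C'[x]` -/
lemma exists_u_eq (m : B₀ ⊗[k] ↥(J p)) : ∃ w : MvPolynomial ι C', mp p w = 0 ∧ red C' w = 0 ∧ u w = m := by
  induction m using TensorProduct.induction_on with
  | zero => exact ⟨0, map_zero _, map_zero _, hu.zero⟩
  | add x y hx hy =>
    obtain ⟨w, h1, h2, rfl⟩ := hx
    obtain ⟨w', h1', h2', rfl⟩ := hy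
    exact ⟨w + w', by rw [map_add, h1, h1', add_zero], by rw [map_add, h2, h2', add_zero],
      hu.add _ _ (by rw [h1, map_zero]) (by rw [h1', map_zero])⟩
  | tmul b j =>
    obtain ⟨r, rfl⟩ := evB_surjective P b
    obtain ⟨r', rfl⟩ := red_surjective C' r
    refine ⟨MvPolynomial.C (j : C') * r', mp_C_mul j r', ?_, hu.nrm j r'⟩
    rw [← red_mp p, mp_C_mul, map_zero]

include hp hθ in
lemma totπ_eq_zero_iff (y : Tot hu) :
    totπ hθ hu y = 0 ↔ y ∈ IsLocalRing.maximalIdeal C' • (⊤ : Submodule C' (Tot hu)) := by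
  constructor
  · intro hy
    obtain ⟨z, rfl⟩ := Ideal.Quotient.mk_surjective y
    rw [totπ_mk] at hy
    obtain ⟨z₂, hz₂, hz₂'⟩ : ∃ z₂ : MvPolynomial ι C', θ (mp p z₂) = 0 ∧ red C' z₂ = red C' z := by
      obtain ⟨z₁, h1, h2⟩ := exists_lift_kernel D θ hθ _ hy
      obtain ⟨z₂, rfl⟩ := mp_surjective p hp.1 z₁
      exact ⟨z₂, h1, by rw [← h2, red_mp]⟩
    obtain ⟨w, hw1, hw2, hw3⟩ := exists_u_eq hu (u z₂)
    have h1 : z₂ - w ∈ idl hu := by
      have hw' : θ (mp p (-w)) = 0 := by rw [map_neg, map_neg, hw1, map_zero, neg_zero]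
      have hneg : u (-w) = - u w := hu.neg (by rw [hw1, map_zero])
      refine ⟨?_, ?_⟩
      · rw [map_sub, hw1, sub_zero, hz₂]
      · rw [sub_eq_add_neg, hu.add _ _ hz₂ hw', hneg, hw3, add_neg_cancel]
    have h2 : red C' (z - (z₂ - w)) = 0 := by
      rw [map_sub, map_sub, hz₂', hw2, sub_zero, sub_self]
    rw [red_eq_zero_iff] at h2
    have h3 : Ideal.Quotient.mk (idl hu) z = Ideal.Quotient.mk _ (z - (z₂ - w)) := by
      rw [Ideal.Quotient.mk_eq_mk_iff_sub_mem, sub_sub_cancel]
      exact h1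
    rw [h3]
    have h4 : (IsLocalRing.maximalIdeal C' • (⊤ : Submodule C' (MvPolynomial ι C'))).map
        (Ideal.Quotient.mkₐ C' (idl hu)).toLinearMap ≤
        IsLocalRing.maximalIdeal C' • (⊤ : Submodule C' (Tot hu)) := by
      rw [Submodule.map_smul'']
      exact Submodule.smul_mono le_rfl le_top
    exact h4 ⟨_, h2, rfl⟩
  · intro hy
    induction hy using Submodule.smul_induction_on' with
    | smul a ha y _ =>
      obtain ⟨z, rfl⟩ := Ideal.Quotient.mk_surjective y
      have h1 : a • (Ideal.Quotient.mk (idl hu) z) = Ideal.Quotient.mk _ (a • z) := rfl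
      rw [h1, totπ_mk, red_smul, (mem_maximalIdeal_iff C' a).1 ha, zero_smul, map_zero]
    | add x _ y _ hx hy => rw [map_add, hx, hy, add_zero]

include hu in
lemma u_sum {κ : Type*} (s : Finset κ) (f : κ → MvPolynomial ι C') (hf : ∀ i ∈ s, θ (mp p (f i)) = 0) :
    θ (mp p (∑ i ∈ s, f i)) = 0 ∧ u (∑ i ∈ s, f i) = ∑ i ∈ s, u (f i) := by
  classical
  induction s using Finset.induction_on with
  | empty => rw [Finset.sum_empty, Finset.sum_empty, map_zero, map_zero]; exact ⟨rfl, hu.zero⟩
  | insert i s hi ih =>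
    obtain ⟨h1, h2⟩ := ih fun j hj => hf j (Finset.mem_insert_of_mem hj)
    have h3 := hf i (Finset.mem_insert_self _ _)
    rw [Finset.sum_insert hi, Finset.sum_insert hi, hu.add _ _ h3 h1, h2]
    exact ⟨by rw [map_add, map_add, h3, h1, add_zero], rfl⟩

include hp hθ in
theorem flat_tot : Module.Flat C' (Tot hu) := by
  classical
  let b := Module.Basis.ofVectorSpace k B₀
  choose β₀ hβ₀ using fun i => evB_surjective P (b i)
  choose β hβ using fun i => red_surjective (ι := ι) C' (β₀ i)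
  have hβ' : ∀ i, evB P (red C' (β i)) = b i := fun i => by rw [hβ, hβ₀]
  let Ψ := Finsupp.linearCombination C' (fun i => (Ideal.Quotient.mk (idl hu) (β i) : Tot hu))
  have hΨ : ∀ v, Ψ v = Ideal.Quotient.mk _ (Finsupp.linearCombination C' β v) := by
    intro v
    have : Ψ = (Ideal.Quotient.mkₐ C' (idl hu)).toLinearMap ∘ₗ Finsupp.linearCombination C' β := by
      ext i
      simp only [Ψ, LinearMap.coe_comp, Function.comp_apply, Finsupp.lsingle_apply, Finsupp.linearCombination_single,
        one_smul]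
      rfl
    rw [this]
    rfl
  have hbij : Function.Bijective Ψ := by
    constructor
    · rw [injective_iff_map_eq_zero]
      intro v hv
      rw [hΨ, Ideal.Quotient.eq_zero_iff_mem] at hv
      -- reduction to `D`
      have h1 : ∀ i, p (v i) = 0 := by
        have hb := bijective_of_basis D b (fun i => θ (mp p (β i))) (fun i => by rw [hθ, red_mp, hβ'])
        have h2 : Finsupp.linearCombination C (fun i => θ (mp p (β i))) (v.mapRange p.toAlgHom (map_zero _)) = 0 := by
          have h3 : Finsupp.linearCombination C (fun i => θ (mp p (β i))) (v.mapRange p.toAlgHom (map_zero _)) =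
              θ (mp p (Finsupp.linearCombination C' β v)) := by
            rw [Finsupp.linearCombination_apply, Finsupp.linearCombination_apply, Finsupp.sum_mapRange_index (by simp),
              Finsupp.sum, Finsupp.sum, map_sum, map_sum]
            refine Finset.sum_congr rfl fun i _ => ?_
            rw [mp_smul, map_smul]
          rw [h3]
          exact hv.1
        have h4 := hb.1 (h2.trans (map_zero _).symm)
        intro i
        have := DFunLike.congr_fun h4 i
        rwa [Finsupp.mapRange_apply] at this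
      let v' : Module.Basis.ofVectorSpaceIndex k B₀ →₀ ↥(J p) := Finsupp.mk v.support (fun i => ⟨v i, h1 i⟩) (by
        intro i
        rw [Finsupp.mem_support_iff, not_iff_not]
        constructor
        · intro h; exact Subtype.ext h
        · intro h; exact congrArg Subtype.val h)
      have h5 : (TensorProduct.equivFinsuppOfBasisLeft (N := ↥(J p)) b).symm v' = 0 := by
        rw [TensorProduct.equivFinsuppOfBasisLeft_symm_apply, ← hv.2, Finsupp.linearCombination_apply]
        have h6 : ∀ i ∈ v.support, θ (mp p (v i • β i)) = 0 := fun i _ => by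
          rw [mp_smul, h1, zero_smul, map_zero]
        rw [Finsupp.sum, Finsupp.sum, (u_sum hu v.support (fun i => v i • β i) h6).2]
        refine Finset.sum_congr rfl fun i _ => ?_
        rw [← hβ' i, ← hu.nrm, MvPolynomial.smul_eq_C_mul]
        rfl
      have h7 : v' = 0 := (LinearEquiv.map_eq_zero_iff _).mp h5
      ext i
      exact congrArg Subtype.val (DFunLike.congr_fun h7 i)
    · refine FlatNil.surjective_of_nilpotent (IsLocalRing.maximalIdeal C') (isNilpotent_maximalIdeal C') _ ?_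
      intro y
      obtain ⟨v, hv⟩ := Finsupp.mapRange_surjective C'.res (map_zero _) C'.res_surjective
        (b.repr (totπ hθ hu y))
      refine ⟨v, (totπ_eq_zero_iff hp hθ hu _).1 ?_⟩
      rw [map_sub, hΨ, totπ_mk, sub_eq_zero]
      have h3 : evB P (red C' (Finsupp.linearCombination C' β v)) =
          Finsupp.linearCombination k b (v.mapRange C'.res (map_zero _)) := by
        rw [Finsupp.linearCombination_apply, Finsupp.linearCombination_apply, Finsupp.sum_mapRange_index (by simp),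
          Finsupp.sum, Finsupp.sum, map_sum, map_sum]
        refine Finset.sum_congr rfl fun i _ => ?_
        rw [red_smul, map_smul, hβ']
      rw [h3, hv, b.linearCombination_repr]
  exact Module.Flat.of_linearEquiv (LinearEquiv.ofBijective Ψ hbij).symm

/-- the deformation attached to a function -/
def totDef : AlgDef k B₀ C' where
  carrier := Tot hu
  flat := flat_tot hp hθ hu
  π := totπ hθ hu
  comp a := by
    have h1 : algebraMap C' (Tot hu) a = Ideal.Quotient.mk _ (MvPolynomial.C a) := rfl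
    rw [h1, totπ_mk, red, MvPolynomial.map_C]
    exact (evB P).commutes _
  surj b := by
    obtain ⟨r, hr⟩ := evB_surjective P b
    obtain ⟨z, rfl⟩ := red_surjective (ι := ι) C' r
    exact ⟨Ideal.Quotient.mk _ z, hr⟩
  ker := by
    ext y
    rw [RingHom.mem_ker, totπ_eq_zero_iff hp, Ideal.smul_top_eq_map]
    rfl

/-- the extension attached to a function -/
def totExt : AExt p D where
  D' := totDef hp hθ hu
  φ := totφ hu
  hφ a := by
    change totφ hu (Ideal.Quotient.mk _ (MvPolynomial.C a)) = _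
    rw [totφ_mk, mp, MvPolynomial.map_C]
    exact θ.commutes _
  hπ y := by
    obtain ⟨z, rfl⟩ := Ideal.Quotient.mk_surjective y
    change D.π (totφ hu (Ideal.Quotient.mk _ z)) = totπ hθ hu (Ideal.Quotient.mk _ z)
    rw [totφ_mk, totπ_mk, hθ, red_mp]

include hθ hu in
theorem exists_ext : ∃ (E : AExt p D) (θ' : MvPolynomial ι C' →ₐ[C'] E.D'.carrier), IsN hp θ E θ' u := by
  let q : MvPolynomial ι C' →ₐ[C'] (totExt hp hθ hu).D'.carrier := Ideal.Quotient.mkₐ C' (idl hu)
  have hq : ∀ z w, z - w ∈ idl hu → q z = q w := fun z w h => (Ideal.Quotient.mk_eq_mk_iff_sub_mem _ _).mpr h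
  have hπ : ∀ z, (totExt hp hθ hu).D'.π (q z) = evB P (red C' z) := fun z => rfl
  refine ⟨totExt hp hθ hu, q, fun z => rfl, fun z hz => ?_⟩
  have h1 : ∀ m : B₀ ⊗[k] ↥(J p), ∃ w : MvPolynomial ι C', mp p w = 0 ∧ u w = m ∧
      mu (totExt hp hθ hu).D' hp m = q w := by
    intro m
    induction m using TensorProduct.induction_on with
    | zero => exact ⟨0, map_zero _, hu.zero, by rw [map_zero, map_zero]⟩
    | add x y hx hy =>
      obtain ⟨w, h1, rfl, h2⟩ := hx
      obtain ⟨w', h1', rfl, h2'⟩ := hy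
      exact ⟨w + w', by rw [map_add, h1, h1', add_zero],
        hu.add _ _ (by rw [h1, map_zero]) (by rw [h1', map_zero]), by rw [map_add, h2, h2', map_add]⟩
    | tmul b j =>
      obtain ⟨r, rfl⟩ := evB_surjective P b
      obtain ⟨r', rfl⟩ := red_surjective C' r
      refine ⟨MvPolynomial.C (j : C') * r', mp_C_mul j r', hu.nrm j r', ?_⟩
      rw [← hπ, mu_tmul, map_mul, Algebra.smul_def]
      congr 1
  obtain ⟨w, h2, h3, h4⟩ := h1 (u z)
  rw [h4]
  apply hq
  have hz' : θ (mp p (-z)) = 0 := by rw [map_neg, map_neg, hz, neg_zero]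
  refine ⟨by rw [map_sub, map_sub, hz, h2, map_zero, sub_zero], ?_⟩
  rw [sub_eq_add_neg, hu.add _ _ (by rw [h2, map_zero]) hz', hu.neg hz, h3, add_neg_cancel]

include hp in
/-- Extensions of `D` along `p`, if there is one, are classified by `T¹(B₀/k, B₀ ⊗ J)`. -/
theorem classification (P : Algebra.Presentation k B₀ ι σ) (E₀ : AExt p D) :
    ∃ N : AExt p D → T1 P (B₀ ⊗[k] ↥(J p)) → Prop, (∀ E, ∃ t, N E t) ∧ (∀ t, ∃ E, N E t) ∧
      ∀ E E' t t', N E t → N E' t' → (Rel E E' ↔ t = t') := by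
  classical
  obtain ⟨θ, hθ⟩ : ∃ θ : MvPolynomial ι C →ₐ[C] D.carrier, ∀ z, D.π (θ z) = evB P (red C z) := by
    obtain ⟨ρ, hρ⟩ := exists_rep (P := P) D
    rw [← hρ]
    exact ⟨ρ.θ, ρ.hθ⟩
  obtain ⟨θ₀, hθ₀⟩ := exists_lift_θ hp θ E₀
  obtain ⟨u₀, hu₀, -⟩ := exists_isU hp hθ E₀ hθ₀
  let N : AExt p D → T1 P (B₀ ⊗[k] ↥(J p)) → Prop := fun E t =>
    ∃ (θ' : MvPolynomial ι C' →ₐ[C'] E.D'.carrier) (u : MvPolynomial ι C' → B₀ ⊗[k] ↥(J p))
      (v : P.toExtension.Cotangent →ₗ[B₀] (B₀ ⊗[k] ↥(J p))), IsN hp θ E θ' u ∧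
      (∀ z (hz : θ (mp p z) = 0), u z = u₀ z + v (Algebra.Extension.Cotangent.mk ⟨red C' z, red_mem hθ hz⟩)) ∧
      homToT1 P _ v = t
  refine ⟨N, ?_, ?_, ?_⟩
  · intro E
    obtain ⟨θ', hθ'⟩ := exists_lift_θ hp θ E
    obtain ⟨u, hu, hN⟩ := exists_isU hp hθ E hθ'
    have hw : IsW P θ p (fun z => u z - u₀ z) := by
      refine ⟨fun z w hz hw => ?_, fun r z hz => ?_, fun j z => ?_⟩
      · change u (z + w) - u₀ (z + w) = (u z - u₀ z) + (u w - u₀ w)
        rw [hu.add _ _ hz hw, hu₀.add _ _ hz hw]; abel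
      · change u (r * z) - u₀ (r * z) = evB P (red C' r) • (u z - u₀ z)
        rw [hu.mul _ _ hz, hu₀.mul _ _ hz, smul_sub]
      · change u (MvPolynomial.C (j : C') * z) - u₀ (MvPolynomial.C (j : C') * z) = 0
        rw [hu.nrm, hu₀.nrm, sub_self]
    obtain ⟨v, hv⟩ := hw.exists_cot hp hθ
    exact ⟨_, θ', u, v, hN, fun z hz => by rw [← hv z hz]; abel, rfl⟩
  · intro t
    obtain ⟨v, rfl⟩ := Basic.homToT1_surjective P _ t
    let u : MvPolynomial ι C' → B₀ ⊗[k] ↥(J p) := fun z =>
      if hz : θ (mp p z) = 0 then u₀ z + v (Algebra.Extension.Cotangent.mk ⟨red C' z, red_mem hθ hz⟩) else 0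
    have hu : ∀ z (hz : θ (mp p z) = 0),
        u z = u₀ z + v (Algebra.Extension.Cotangent.mk ⟨red C' z, red_mem hθ hz⟩) := fun z hz => dif_pos hz
    have hU : IsU P θ u := by
      refine ⟨fun z w hz hw => ?_, fun r z hz => ?_, fun j z => ?_⟩
      · have hzw : θ (mp p (z + w)) = 0 := by rw [map_add, map_add, hz, hw, add_zero]
        have h1 : (⟨red C' (z + w), red_mem hθ hzw⟩ : P.toExtension.ker) =
            ⟨red C' z, red_mem hθ hz⟩ + ⟨red C' w, red_mem hθ hw⟩ := Subtype.ext (map_add _ _ _)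
        rw [hu _ hzw, hu _ hz, hu _ hw, hu₀.add _ _ hz hw, h1, map_add, map_add]
        abel
      · have hrz : θ (mp p (r * z)) = 0 := by rw [map_mul, map_mul, hz, mul_zero]
        obtain ⟨r', hr'⟩ : ∃ r' : P.toExtension.Ring, r' = red C' r := ⟨_, rfl⟩
        have h1 : (⟨red C' (r * z), red_mem hθ hrz⟩ : P.toExtension.ker) =
            r' • ⟨red C' z, red_mem hθ hz⟩ := Subtype.ext (by rw [hr']; exact map_mul _ _ _)
        have h2 : evB P (red C' r) = algebraMap P.toExtension.Ring B₀ r' := by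
          rw [algebraMap_eq_evB, hr']
        have h3 : v (Algebra.Extension.Cotangent.mk (r' • ⟨red C' z, red_mem hθ hz⟩)) =
            algebraMap P.toExtension.Ring B₀ r' •
              v (Algebra.Extension.Cotangent.mk ⟨red C' z, red_mem hθ hz⟩) := by
          rw [map_smul, ← map_smul v, algebraMap_smul]
        rw [hu _ hrz, hu _ hz, hu₀.mul _ _ hz, h1, h3, smul_add, h2]
      · have hz : θ (mp p (MvPolynomial.C (j : C') * z)) = 0 := by rw [mp_C_mul, map_zero]
        have h1 : (⟨red C' (MvPolynomial.C (j : C') * z), red_mem hθ hz⟩ : P.toExtension.ker) = 0 :=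
          Subtype.ext (by
            change red C' _ = 0
            rw [← red_mp p, mp_C_mul, map_zero])
        rw [hu _ hz, h1, map_zero, map_zero, add_zero, hu₀.nrm]
    obtain ⟨E, θ', hN⟩ := exists_ext hp hθ hU
    exact ⟨E, θ', u, v, hN, hu, rfl⟩
  · rintro E E' _ _ ⟨θ₁, u₁, v₁, hN₁, hv₁, rfl⟩ ⟨θ₂, u₂, v₂, hN₂, hv₂, rfl⟩
    rw [← sub_eq_zero (a := homToT1 P _ v₁), ← map_sub, Basic.homToT1_eq_zero_iff]
    constructor
    · intro h
      obtain ⟨ψ, hψ⟩ := exists_psi_of_rel hp hθ hN₁ hN₂ h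
      refine ⟨ψ, ExalT1.cot_ext fun x => ?_⟩
      obtain ⟨z, hz, hzx⟩ := exists_lift_red hp hθ x
      have h1 : (⟨red C' z, red_mem hθ hz⟩ : P.toExtension.ker) = x := Subtype.ext hzx
      have h2 := hψ z hz
      rw [hv₁ z hz, hv₂ z hz, h1] at h2
      rw [LinearMap.comp_apply, dd_eq, LinearMap.sub_apply, ← hzx]
      have h3 : v₁ (Algebra.Extension.Cotangent.mk x) = v₂ (Algebra.Extension.Cotangent.mk x) +
          ψ (dd P (red C' z)) := by
        have h4 := congrArg (fun t => t - u₀ z) h2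
        simp only [add_sub_cancel_left] at h4
        rw [h4]; abel
      rw [h3]; abel
    · rintro ⟨ψ, hψ⟩
      refine rel_of_psi hp hθ hN₁ hN₂ ψ fun z hz => ?_
      have h1 := LinearMap.congr_fun hψ (Algebra.Extension.Cotangent.mk ⟨red C' z, red_mem hθ hz⟩)
      rw [LinearMap.comp_apply, dd_eq, LinearMap.sub_apply] at h1
      rw [hv₁ z hz, hv₂ z hz]
      have h2 : ψ (dd P (red C' z)) = v₁ (Algebra.Extension.Cotangent.mk ⟨red C' z, red_mem hθ hz⟩) -
        v₂ (Algebra.Extension.Cotangent.mk ⟨red C' z, red_mem hθ hz⟩) := h1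
      rw [h2]; abel

end K694.AffExt
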