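import Groth.Agent.DefT.K694.AffExt4

/-!
# Extensions of a deformation of an affine scheme: dictionary with algebras
-/

set_option autoImplicit false

universe u v w

open CategoryTheory CategoryTheory.Limits AlgebraicGeometry TensorProduct

noncomputable section

namespace K694.AffExt

open ArtFun ArtFun.Art K681 K681.AffRep K681.AlgDef CotT

lemma quot_equiv {X : Type v} {r : X → X → Prop} {T : Type w} (N : X → T → Prop) (h1 : ∀ x, ∃ t, N x t)
    (h2 : ∀ t, ∃ x, N x t) (h3 : ∀ x y t t', N x t → N y t' → (r x y ↔ t = t')) : Nonempty (Quot r ≃ T) := by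
  choose f hf using h1
  refine ⟨Equiv.ofBijective (Quot.lift f fun x y h => (h3 x y _ _ (hf x) (hf y)).mp h) ⟨?_, ?_⟩⟩
  · intro a b
    induction a using Quot.ind with
    | mk x =>
      induction b using Quot.ind with
      | mk y => exact fun h => Quot.sound ((h3 x y _ _ (hf x) (hf y)).mpr h)
  · intro t
    obtain ⟨x, hx⟩ := h2 t
    exact ⟨Quot.mk _ x, (h3 x x _ _ (hf x) hx).mp ((h3 x x _ _ hx hx).mpr rfl)⟩

variable {k : Type u} [Field k] {B₀ : Type u} [CommRing B₀] [Algebra k B₀]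
variable {C' C : Art k k} {p : C' ⟶ C} (hp : IsSemismallExt p)

section Geo

variable {X : Scheme.{u}} {x₀ : X ⟶ specPt k} {𝒳 : DefSch X x₀ C}

/-- extensions of `𝒳` -/
abbrev GExt (p : C' ⟶ C) (𝒳 : DefSch X x₀ C) : Type (u + 1) := Σ 𝒳' : DefSch X x₀ C', (𝒳'.baseChange p).Iso 𝒳

/-- the map of an extension -/
def hx (x : GExt p 𝒳) : 𝒳.total ⟶ x.1.total := x.2.iso.inv ≫ pullback.fst x.1.f (specMap p)

lemma hx_f (x : GExt p 𝒳) : hx x ≫ x.1.f = 𝒳.f ≫ specMap p := by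
  have h1 : x.2.iso.inv ≫ (x.1.baseChange p).f = 𝒳.f := x.2.symm.hom_f
  rw [hx, Category.assoc, pullback.condition, ← Category.assoc]
  exact congrArg (fun t => t ≫ specMap p) h1

lemma i_hx (x : GExt p 𝒳) : 𝒳.i ≫ hx x = x.1.i := by
  have h1 : 𝒳.i ≫ x.2.iso.inv = (x.1.baseChange p).i := x.2.symm.i_hom
  rw [hx, ← Category.assoc, h1]
  exact DefSch.baseChange_i_fst x.1 p

/-- isomorphic extensions -/
def GRel (x y : GExt p 𝒳) : Prop := ∃ ψ : x.1.Iso y.1, ((ψ.baseChange p).trans y.2).iso = x.2.iso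

lemma gRel_iff (x y : GExt p 𝒳) : GRel x y ↔ ∃ ψ : x.1.Iso y.1, hx x ≫ ψ.iso.hom = hx y := by
  constructor
  · rintro ⟨ψ, hψ⟩
    refine ⟨ψ, ?_⟩
    have h1 : x.2.iso.inv = y.2.iso.inv ≫ (ψ.baseChange p).iso.inv := by rw [← hψ]; rfl
    have h2 : (ψ.baseChange p).iso.inv ≫ pullback.fst x.1.f (specMap p) =
        pullback.fst y.1.f (specMap p) ≫ ψ.iso.inv := DefSch.pullMap_fst _ ψ.symm.hom_f _
    rw [hx, hx, h1, Category.assoc, Category.assoc, ← Category.assoc (ψ.baseChange p).iso.inv, h2,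
      Category.assoc, Iso.inv_hom_id, Category.comp_id]
  · rintro ⟨ψ, hψ⟩
    refine ⟨ψ, ?_⟩
    apply CategoryTheory.Iso.ext
    rw [← Iso.inv_eq_inv]
    have h2 : (ψ.baseChange p).iso.inv ≫ pullback.fst x.1.f (specMap p) =
        pullback.fst y.1.f (specMap p) ≫ ψ.iso.inv := DefSch.pullMap_fst _ ψ.symm.hom_f _
    have h3 : (ψ.baseChange p).iso.inv ≫ pullback.snd x.1.f (specMap p) =
        pullback.snd y.1.f (specMap p) := DefSch.pullMap_snd _ ψ.symm.hom_f _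
    change y.2.iso.inv ≫ (ψ.baseChange p).iso.inv = x.2.iso.inv
    apply pullback.hom_ext
    · rw [Category.assoc, h2, ← Category.assoc]
      change hx y ≫ ψ.iso.inv = hx x
      rw [← hψ, Category.assoc, Iso.hom_inv_id, Category.comp_id]
    · rw [Category.assoc, h3]
      have h4 : y.2.iso.inv ≫ (y.1.baseChange p).f = 𝒳.f := y.2.symm.hom_f
      have h5 : x.2.iso.inv ≫ (x.1.baseChange p).f = 𝒳.f := x.2.symm.hom_f
      exact h4.trans h5.symm

/-- a cartesian square gives an extension -/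
lemma exists_iso_of_isPullback {ξ : DefSch X x₀ C} {ξ' : DefSch X x₀ C'} (h : ξ.total ⟶ ξ'.total)
    (hp' : IsPullback h ξ.f ξ'.f (specMap p)) (hi : ξ.i ≫ h = ξ'.i) :
    ∃ e : (ξ'.baseChange p).Iso ξ, e.iso.hom ≫ h = pullback.fst ξ'.f (specMap p) := by
  let e := (IsPullback.of_hasPullback ξ'.f (specMap p)).isoIsPullback _ _ hp'
  have h1 : e.hom ≫ h = pullback.fst ξ'.f (specMap p) := IsPullback.isoIsPullback_hom_fst _ _ _ hp'
  have h2 : e.hom ≫ ξ.f = pullback.snd ξ'.f (specMap p) := IsPullback.isoIsPullback_hom_snd _ _ _ hp'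
  refine ⟨⟨e, h2, ?_⟩, h1⟩
  apply hp'.hom_ext
  · rw [Category.assoc, h1, hi]
    exact pullback.lift_fst _ _ _
  · rw [Category.assoc, h2, ξ.i_f]
    exact pullback.lift_snd _ _ _

end Geo

section Spm

/-- the morphism of total spaces of a ring map -/
def spm {A B : Art k k} {D' : AlgDef k B₀ A} {D : AlgDef k B₀ B} (φ : D'.carrier →+* D.carrier) :
    D.toDefSch.total ⟶ D'.toDefSch.total := Spec.map (CommRingCat.ofHom φ)

lemma spm_comp {A₁ A₂ A₃ : Art k k} {D₁ : AlgDef k B₀ A₁} {D₂ : AlgDef k B₀ A₂} {D₃ : AlgDef k B₀ A₃}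
    (φ : D₁.carrier →+* D₂.carrier) (ψ : D₂.carrier →+* D₃.carrier) :
    spm (ψ.comp φ) = spm ψ ≫ spm φ := by
  change Spec.map _ = Spec.map _ ≫ Spec.map _
  rw [← Spec.map_comp, ← CommRingCat.ofHom_comp]

lemma spm_id {A₁ : Art k k} {D₁ : AlgDef k B₀ A₁} : spm (RingHom.id D₁.carrier) = 𝟙 D₁.toDefSch.total := by
  change Spec.map (CommRingCat.ofHom (RingHom.id D₁.carrier)) = _
  rw [CommRingCat.ofHom_id]
  exact Spec.map_id _

lemma spm_injective {A₁ A₂ : Art k k} {D₁ : AlgDef k B₀ A₁} {D₂ : AlgDef k B₀ A₂}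
    {φ ψ : D₁.carrier →+* D₂.carrier} (h : spm φ = spm ψ) : φ = ψ := by
  have h1 := Spec.map_injective (show Spec.map (CommRingCat.ofHom φ) = Spec.map (CommRingCat.ofHom ψ) from h)
  exact congrArg (fun t => t.hom) h1

lemma spm_f {A : Art k k} {D₁ D₂ : AlgDef k B₀ A} (e : D₁.carrier →ₐ[A] D₂.carrier) :
    spm (e : D₁.carrier →+* D₂.carrier) ≫ D₁.toDefSch.f = D₂.toDefSch.f := by
  change Spec.map _ ≫ Spec.map _ = Spec.map _
  rw [← Spec.map_comp, ← CommRingCat.ofHom_comp]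
  congr 2
  ext a
  exact e.commutes a

lemma i_spm {A B : Art k k} {D' : AlgDef k B₀ A} {D : AlgDef k B₀ B} (φ : D'.carrier →+* D.carrier)
    (h : ∀ d, D.π (φ d) = D'.π d) : D.toDefSch.i ≫ spm φ = D'.toDefSch.i := by
  change Spec.map _ ≫ Spec.map _ = Spec.map _
  rw [← Spec.map_comp, ← CommRingCat.ofHom_comp]
  congr 2
  ext d
  exact h d

lemma exists_spm {D' : AlgDef k B₀ C'} {D : AlgDef k B₀ C} (h : D.toDefSch.total ⟶ D'.toDefSch.total)
    (hf : h ≫ D'.toDefSch.f = D.toDefSch.f ≫ specMap p) (hi : D.toDefSch.i ≫ h = D'.toDefSch.i) :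
    ∃ E : AExt p D, ∃ ε' : D'.toDefSch.Iso E.D'.toDefSch, h ≫ ε'.iso.hom = spm E.φ := by
  let h' : Spec (CommRingCat.of D.carrier) ⟶ Spec (CommRingCat.of D'.carrier) := h
  let φ : CommRingCat.of D'.carrier ⟶ CommRingCat.of D.carrier := Spec.preimage h'
  have hφ : Spec.map φ = h' := Spec.map_preimage _
  have h1 : CommRingCat.ofHom (algebraMap C' D'.carrier) ≫ φ =
      CommRingCat.ofHom p.toAlgHom.toRingHom ≫ CommRingCat.ofHom (algebraMap C D.carrier) := by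
    apply Spec.map_injective
    rw [Spec.map_comp, Spec.map_comp, hφ]
    exact hf
  have h2 : φ ≫ CommRingCat.ofHom D.π = CommRingCat.ofHom D'.π := by
    apply Spec.map_injective
    rw [Spec.map_comp, hφ]
    exact hi
  refine ⟨⟨D', φ.hom, fun a => congrArg (fun t => t.hom a) h1, fun d => congrArg (fun t => t.hom d) h2⟩,
    DefSch.Iso.refl _, ?_⟩
  exact (Category.comp_id _).trans hφ.symm

/-- the isomorphism of deformations attached to an isomorphism of algebras -/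
def isoOfAlgEquiv {A : Art k k} {D₁ D₂ : AlgDef k B₀ A} (e : D₁.carrier ≃ₐ[A] D₂.carrier)
    (he : ∀ d, D₂.π (e d) = D₁.π d) : D₂.toDefSch.Iso D₁.toDefSch where
  iso :=
    { hom := spm (e.toAlgHom : D₁.carrier →+* D₂.carrier)
      inv := spm (e.symm.toAlgHom : D₂.carrier →+* D₁.carrier)
      hom_inv_id := by
        rw [← spm_comp, ← spm_id]
        congr 1
        ext d
        exact e.apply_symm_apply d
      inv_hom_id := by
        rw [← spm_comp, ← spm_id]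
        congr 1
        ext d
        exact e.symm_apply_apply d }
  hom_f := spm_f e.toAlgHom
  i_hom := i_spm _ he

end Spm

variable {𝒳 : DefSch (Spec (CommRingCat.of B₀)) (str k B₀) C} {D : AlgDef k B₀ C} (ε : 𝒳.Iso D.toDefSch)

/-- an extension of schemes is presented by an extension of algebras -/
def IsM (x : GExt p 𝒳) (E : AExt p D) : Prop :=
  ∃ ε' : x.1.Iso E.D'.toDefSch, hx x ≫ ε'.iso.hom = ε.iso.hom ≫ spm E.φ

lemma exists_isM (x : GExt p 𝒳) : ∃ E, IsM ε x E := by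
  obtain ⟨D', ⟨ε'⟩⟩ := exists_iso_toDefSch x.1
  obtain ⟨E, ε'', h⟩ := exists_spm (p := p) (D' := D') (D := D) (ε.iso.inv ≫ hx x ≫ ε'.iso.hom)
    (by
      rw [Category.assoc, Category.assoc, ε'.hom_f, hx_f, ← Category.assoc]
      exact congrArg (fun t => t ≫ specMap p) ε.symm.hom_f)
    (by
      have h3 : D.toDefSch.i ≫ ε.iso.inv = 𝒳.i := ε.symm.i_hom
      rw [← Category.assoc, h3, ← Category.assoc, i_hx, ε'.i_hom])
  refine ⟨E, ε'.trans ε'', ?_⟩
  change hx x ≫ (ε'.iso.hom ≫ ε''.iso.hom) = _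
  rw [← h, Category.assoc, Category.assoc, Iso.hom_inv_id_assoc]

lemma exists_isM' (E : AExt p D) : ∃ x, IsM ε x E := by
  have hp' : IsPullback (spm E.φ) D.toDefSch.f E.D'.toDefSch.f (specMap p) :=
    isPullback_SpecMap_of_isPushout _ _ _ _ (isPushout_of_map p E.D' D E.φ E.hφ E.hπ).flip
  obtain ⟨e, he⟩ := exists_iso_of_isPullback (spm E.φ) hp' (i_spm _ E.hπ)
  refine ⟨⟨E.D'.toDefSch, e.trans ε.symm⟩, DefSch.Iso.refl _, ?_⟩
  change ((ε.iso.hom ≫ e.iso.inv) ≫ pullback.fst _ _) ≫ 𝟙 _ = _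
  rw [Category.comp_id, Category.assoc, ← he, Iso.inv_hom_id_assoc]

variable {ε} {x y : GExt p 𝒳} {E E' : AExt p D}

lemma rel_of_gRel (hE : IsM ε x E) (hE' : IsM ε y E') (h : GRel x y) : Rel E E' := by
  obtain ⟨ε₁, h1⟩ := hE
  obtain ⟨ε₂, h2⟩ := hE'
  obtain ⟨ψ, hψ⟩ := (gRel_iff x y).mp h
  obtain ⟨φ, hφ, hφ'⟩ := exists_algEquiv_of_iso E.D' E'.D' (ε₁.symm.trans (ψ.trans ε₂))
  have h3 : spm (φ.toAlgHom : E'.D'.carrier →+* E.D'.carrier) = ε₁.iso.inv ≫ ψ.iso.hom ≫ ε₂.iso.hom := hφ'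
  have h4 : spm (E.φ.comp (φ.toAlgHom : E'.D'.carrier →+* E.D'.carrier)) = spm E'.φ := by
    rw [← cancel_epi ε.iso.hom, ← h2, spm_comp, ← Category.assoc, ← h1, h3, Category.assoc, Iso.hom_inv_id_assoc,
      ← Category.assoc, hψ]
  have h5 := spm_injective h4
  refine ⟨φ.symm.toAlgHom, fun d => ?_⟩
  have h6 : E.φ (φ (φ.symm d)) = E'.φ (φ.symm d) := RingHom.congr_fun h5 (φ.symm d)
  rw [φ.apply_symm_apply] at h6
  exact h6.symm

lemma bijective_of_rel {e : E.D'.carrier →ₐ[C'] E'.D'.carrier} (he : ∀ d, E'.φ (e d) = E.φ d) :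
    Function.Bijective e := by
  have hpi := pi_of_rel he
  refine FlatNil.bijective_of_nilpotent (IsLocalRing.maximalIdeal C') (isNilpotent_maximalIdeal C')
    e.toLinearMap ?_ ?_
  · intro n
    obtain ⟨m, hm⟩ := E.D'.surj (E'.D'.π n)
    refine ⟨m, ?_⟩
    rw [← mem_smul_top_iff_π]
    change E'.D'.π (n - e m) = 0
    rw [map_sub, hpi, hm, sub_self]
  · intro m hm
    rw [← mem_smul_top_iff_π] at hm ⊢
    rw [← hpi]
    exact hm

lemma gRel_of_rel (hE : IsM ε x E) (hE' : IsM ε y E') (h : Rel E E') : GRel x y := by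
  obtain ⟨ε₁, h1⟩ := hE
  obtain ⟨ε₂, h2⟩ := hE'
  obtain ⟨e, he⟩ := h
  let e' := AlgEquiv.ofBijective e (bijective_of_rel he)
  let κ := isoOfAlgEquiv e' (pi_of_rel he)
  have hκ : κ.iso.hom = spm (e : E.D'.carrier →+* E'.D'.carrier) := rfl
  have h3 : spm E.φ = spm E'.φ ≫ κ.iso.hom := by
    rw [hκ, ← spm_comp]
    congr 1
    ext d
    exact (he d).symm
  rw [gRel_iff]
  refine ⟨ε₁.trans (κ.symm.trans ε₂.symm), ?_⟩
  change hx x ≫ (ε₁.iso.hom ≫ κ.iso.inv ≫ ε₂.iso.inv) = hx y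
  rw [← Category.assoc, h1, h3, Category.assoc, Category.assoc, Iso.hom_inv_id_assoc, ← Category.assoc, ← h2,
    Category.assoc, Iso.hom_inv_id, Category.comp_id]

include hp in
/-- The equivalence classes of extensions are in bijection with `T¹(B₀/k, B₀ ⊗ J)`. -/
theorem nonempty_equiv {ι σ : Type u} (P : Algebra.Presentation k B₀ ι σ) (𝒳 : DefSch (Spec (CommRingCat.of B₀)) (str k B₀) C)
    (x₀ : GExt p 𝒳) : Nonempty (Quot (GRel (p := p) (𝒳 := 𝒳)) ≃ T1 P (B₀ ⊗[k] ↥(J p))) := by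
  obtain ⟨D, ⟨ε⟩⟩ := exists_iso_toDefSch 𝒳
  obtain ⟨E₀, -⟩ := exists_isM ε x₀
  obtain ⟨N, h1, h2, h3⟩ := classification hp P E₀
  refine quot_equiv (fun x t => ∃ E, IsM ε x E ∧ N E t) ?_ ?_ ?_
  · intro x
    obtain ⟨E, hE⟩ := exists_isM ε x
    obtain ⟨t, ht⟩ := h1 E
    exact ⟨t, E, hE, ht⟩
  · intro t
    obtain ⟨E, hE⟩ := h2 t
    obtain ⟨x, hx⟩ := exists_isM' ε E
    exact ⟨x, E, hx, hE⟩
  · rintro x y t t' ⟨E, hE, ht⟩ ⟨E', hE', ht'⟩
    rw [← h3 E E' t t' ht ht']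
    exact ⟨rel_of_gRel hE hE', gRel_of_rel hE hE'⟩

end K694.AffExt
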