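import Mathlib.RingTheory.Ideal.Cotangent
import Mathlib.RingTheory.Filtration
import Mathlib.RingTheory.MvPolynomial.Homogeneous
import Mathlib.Algebra.MvPolynomial.Funext
import Mathlib.Algebra.Polynomial.AlgebraMap
import Mathlib.RingTheory.Polynomial.Quotient
import Mathlib.RingTheory.LocalRing.ResidueField.Basic
import Mathlib.LinearAlgebra.Basis.VectorSpace
import Mathlib.RingTheory.RegularLocalRing.Defs

/-!
# Arcs: a local ring, presented as `P/J` with `J ≤ 𝔫²`, all of whose jets lift, has `J = 0`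
-/

set_option autoImplicit false

universe u v w

open Polynomial

noncomputable section

namespace K694.Arc

/-- truncated polynomial rings -/
abbrev T (k : Type u) [Field k] (l : ℕ) : Type u := k[X] ⧸ Ideal.span {(X : k[X]) ^ l}

section Trunc

variable (k : Type u) [Field k]

/-- the class of the variable -/
abbrev ex (l : ℕ) : T k l := Ideal.Quotient.mk _ X

lemma ex_pow_self (l : ℕ) : ex k l ^ l = 0 := by
  rw [← map_pow, Ideal.Quotient.eq_zero_iff_mem]
  exact Ideal.subset_span rfl

lemma span_le {l l' : ℕ} (h : l ≤ l') :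
    Ideal.span {(X : k[X]) ^ l'} ≤ Ideal.span {(X : k[X]) ^ l} :=
  Ideal.span_singleton_le_span_singleton.mpr (pow_dvd_pow (X : k[X]) h)

/-- truncation -/
abbrev tr {l l' : ℕ} (h : l ≤ l') : T k l' →ₐ[k] T k l := Ideal.Quotient.factorₐ k (span_le k h)

lemma tr_mk {l l' : ℕ} (h : l ≤ l') (p : k[X]) :
    tr k h (Ideal.Quotient.mk _ p) = Ideal.Quotient.mk _ p := rfl

lemma tr_comp {l l' l'' : ℕ} (h : l ≤ l') (h' : l' ≤ l'') :
    (tr k h).comp (tr k h') = tr k (h.trans h') := by
  refine AlgHom.ext fun x => ?_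
  obtain ⟨p, rfl⟩ := Ideal.Quotient.mk_surjective x
  rfl

lemma tr_surjective {l l' : ℕ} (h : l ≤ l') : Function.Surjective (tr k h) := by
  intro x
  obtain ⟨p, rfl⟩ := Ideal.Quotient.mk_surjective x
  exact ⟨Ideal.Quotient.mk _ p, rfl⟩

lemma exists_of_tr_eq_zero {l l' : ℕ} (h : l ≤ l') (x : T k l') (hx : tr k h x = 0) :
    ∃ y, x = ex k l' ^ l * y := by
  obtain ⟨p, rfl⟩ := Ideal.Quotient.mk_surjective x
  rw [tr_mk, Ideal.Quotient.eq_zero_iff_mem, Ideal.mem_span_singleton] at hx
  obtain ⟨q, rfl⟩ := hx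
  exact ⟨Ideal.Quotient.mk _ q, by rw [map_mul, map_pow]⟩

lemma tr_ex_pow {l l' : ℕ} (h : l ≤ l') (y : T k l') : tr k h (ex k l' ^ l * y) = 0 := by
  rw [map_mul, map_pow, tr_mk, ex_pow_self, zero_mul]

/-- evaluation at `0` -/
def ev0 {l : ℕ} (hl : 1 ≤ l) : T k l →ₐ[k] k :=
  Ideal.Quotient.liftₐ _ (Polynomial.aeval (0 : k)) (by
    intro a ha
    rw [Ideal.mem_span_singleton] at ha
    obtain ⟨b, rfl⟩ := ha
    rw [map_mul, map_pow, aeval_X, zero_pow (by omega), zero_mul])

lemma ev0_mk {l : ℕ} (hl : 1 ≤ l) (p : k[X]) : ev0 k hl (Ideal.Quotient.mk _ p) = p.coeff 0 := by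
  change Polynomial.aeval (0 : k) p = _
  rw [← Polynomial.coeff_zero_eq_aeval_zero]

lemma exists_of_ev0_eq_zero {l : ℕ} (hl : 1 ≤ l) (x : T k l) (hx : ev0 k hl x = 0) :
    ∃ y, x = ex k l * y := by
  obtain ⟨p, rfl⟩ := Ideal.Quotient.mk_surjective x
  rw [ev0_mk, ← Polynomial.X_dvd_iff] at hx
  obtain ⟨q, rfl⟩ := hx
  exact ⟨Ideal.Quotient.mk _ q, by rw [map_mul]⟩

lemma isNilpotent_ex_mul {l : ℕ} (y : T k l) : IsNilpotent (ex k l * y) :=
  ⟨l, by rw [mul_pow, ex_pow_self, zero_mul]⟩

lemma isNilpotent_iff {l : ℕ} (hl : 1 ≤ l) (x : T k l) : IsNilpotent x ↔ ev0 k hl x = 0 := by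
  constructor
  · intro h
    exact (h.map (ev0 k hl)).eq_zero
  · intro h
    obtain ⟨y, rfl⟩ := exists_of_ev0_eq_zero k hl x h
    exact isNilpotent_ex_mul k y

lemma algebraMap_mul_ex_pow_eq_zero {d : ℕ} (a : k)
    (h : algebraMap k (T k (d + 1)) a * ex k (d + 1) ^ d = 0) : a = 0 := by
  have h1 : (Ideal.Quotient.mk (Ideal.span {(X : k[X]) ^ (d + 1)}) (C a * X ^ d)) = 0 := by
    rw [map_mul, map_pow]
    exact h
  rw [Ideal.Quotient.eq_zero_iff_mem, Ideal.mem_span_singleton, Polynomial.X_pow_dvd_iff] at h1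
  have h2 := h1 d (Nat.lt_succ_self d)
  rwa [Polynomial.coeff_C_mul, Polynomial.coeff_X_pow_self, mul_one] at h2

end Trunc

section Tangent

variable {k : Type u} [Field k] {P : Type v} [CommRing P] [IsLocalRing P] [Algebra k P]
  (c : P →ₐ[k] k)

open IsLocalRing

lemma mem_maximalIdeal_iff (p : P) : p ∈ maximalIdeal P ↔ c p = 0 := by
  have h1 : Function.Surjective c := fun a => ⟨algebraMap k P a, by rw [c.commutes]; rfl⟩
  have h2 : (RingHom.ker (c : P →+* k)).IsMaximal := RingHom.ker_isMaximal_of_surjective _ h1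
  rw [← IsLocalRing.eq_maximalIdeal h2]
  rfl

/-- the projection `P → 𝔫` -/
def proj (p : P) : maximalIdeal P := ⟨p - algebraMap k P (c p), by
  rw [mem_maximalIdeal_iff c, map_sub, c.commutes]
  exact sub_self _⟩

lemma toCot_smul (a : P) (y : (maximalIdeal P).Cotangent) : a • y = c a • y := by
  have h : (a - algebraMap k P (c a)) • y = 0 :=
    Ideal.Cotangent.smul_eq_zero_of_mem (proj c a).2 y
  rw [sub_smul, sub_eq_zero, algebraMap_smul] at h
  exact h

/-- the class of `p - p(0)` in the cotangent space -/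
def dd (p : P) : (maximalIdeal P).Cotangent := (maximalIdeal P).toCotangent (proj c p)

lemma dd_add (p q : P) : dd c (p + q) = dd c p + dd c q := by
  rw [dd, dd, dd, ← map_add]
  congr 1
  apply Subtype.ext
  simp only [proj, Submodule.coe_add, map_add]
  ring

lemma dd_mul (p q : P) : dd c (p * q) = c p • dd c q + c q • dd c p := by
  rw [dd, ← toCot_smul c p, show c q • dd c p = algebraMap k P (c q) • dd c p from
    (algebraMap_smul P (c q) _).symm, dd, dd, ← map_smul, ← map_smul, ← map_add]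
  congr 1
  apply Subtype.ext
  simp only [proj, Submodule.coe_add, Submodule.coe_smul, smul_eq_mul, map_mul]
  ring

lemma dd_algebraMap (a : k) : dd c (algebraMap k P a) = 0 := by
  have : proj c (algebraMap k P a) = 0 := by
    apply Subtype.ext
    simp only [proj, c.commutes]
    exact sub_self _
  rw [dd, this, map_zero]

lemma dd_of_mem {p : P} (hp : p ∈ maximalIdeal P) : dd c p = (maximalIdeal P).toCotangent ⟨p, hp⟩ := by
  rw [dd]
  congr 1
  apply Subtype.ext
  simp only [proj]
  rw [(mem_maximalIdeal_iff c p).mp hp, map_zero, sub_zero]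

/-- the homomorphism attached to a tangent vector -/
def homOf (lam : (maximalIdeal P).Cotangent →ₗ[k] k) {S : Type w} [CommRing S] [Algebra k S] (e : S)
    (he : e * e = 0) : P →ₐ[k] S where
  toFun p := algebraMap k S (c p) + lam (dd c p) • e
  map_one' := by
    have h := dd_algebraMap c 1
    rw [map_one] at h
    rw [h, map_one, map_one, map_zero, zero_smul, add_zero]
  map_mul' p q := by
    rw [dd_mul, map_mul, map_add, map_mul, map_smul, map_smul]
    simp only [Algebra.smul_def, map_add, map_mul]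
    linear_combination (- algebraMap k S (lam (dd c p)) * algebraMap k S (lam (dd c q))) * he
  map_zero' := by
    have h := dd_algebraMap c 0
    rw [map_zero] at h
    rw [h, map_zero, map_zero, map_zero, zero_smul, add_zero]
  map_add' p q := by
    rw [dd_add, map_add, map_add, map_add, add_smul]
    ring
  commutes' a := by
    rw [dd_algebraMap, map_zero, zero_smul, add_zero, c.commutes]
    rfl

lemma homOf_apply (lam : (maximalIdeal P).Cotangent →ₗ[k] k) {S : Type w} [CommRing S] [Algebra k S] (e : S)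
    (he : e * e = 0) (p : P) : homOf c lam e he p = algebraMap k S (c p) + lam (dd c p) • e := rfl

lemma homOf_of_mem_sq (lam : (maximalIdeal P).Cotangent →ₗ[k] k) {S : Type w} [CommRing S] [Algebra k S]
    (e : S) (he : e * e = 0) {p : P} (hp : p ∈ maximalIdeal P ^ 2) : homOf c lam e he p = 0 := by
  have hp1 : p ∈ maximalIdeal P := Ideal.pow_le_self two_ne_zero hp
  rw [homOf_apply, dd_of_mem c hp1, (Ideal.toCotangent_eq_zero _ _).mpr hp,
    (mem_maximalIdeal_iff c p).mp hp1, map_zero, map_zero, zero_smul, add_zero]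

section Forms

variable {ι : Type w} (b : Module.Basis ι k (maximalIdeal P).Cotangent)

include b in
lemma exists_lifts : ∃ x : ι → P, ∀ i, ∃ h : x i ∈ maximalIdeal P,
    (maximalIdeal P).toCotangent ⟨x i, h⟩ = b i := by
  have : ∀ i, ∃ y : maximalIdeal P, (maximalIdeal P).toCotangent y = b i :=
    fun i => Ideal.toCotangent_surjective _ _
  choose y hy using this
  exact ⟨fun i => y i, fun i => ⟨(y i).2, hy i⟩⟩

variable (x : ι → P) (hx : ∀ i, ∃ h : x i ∈ maximalIdeal P,
    (maximalIdeal P).toCotangent ⟨x i, h⟩ = b i)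

include hx in
/-- every element of `𝔫` is a linear form in the `x_i` modulo `𝔫²` -/
lemma exists_linear {p : P} (hp : p ∈ maximalIdeal P) :
    ∃ F : MvPolynomial ι k, F.IsHomogeneous 1 ∧ p - MvPolynomial.aeval x F ∈ maximalIdeal P ^ 2 := by
  choose hx1 hx2 using hx
  let r := b.repr ((maximalIdeal P).toCotangent ⟨p, hp⟩)
  refine ⟨r.sum fun i a => MvPolynomial.C a * MvPolynomial.X i, ?_, ?_⟩
  · rw [Finsupp.sum]
    refine MvPolynomial.IsHomogeneous.sum _ _ _ fun i _ => ?_
    exact MvPolynomial.isHomogeneous_C_mul_X _ _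
  · have h1 : (maximalIdeal P).toCotangent ⟨p, hp⟩ =
        (maximalIdeal P).toCotangent (r.sum fun i a => algebraMap k P a • ⟨x i, hx1 i⟩) := by
      rw [map_finsuppSum]
      conv_lhs => rw [← b.linearCombination_repr ((maximalIdeal P).toCotangent ⟨p, hp⟩),
        Finsupp.linearCombination_apply]
      refine Finsupp.sum_congr fun i _ => ?_
      rw [map_smul, hx2, algebraMap_smul]
    rw [Ideal.toCotangent_eq] at h1
    convert h1 using 2
    rw [Finsupp.sum, Finsupp.sum, map_sum, AddSubmonoidClass.coe_finsetSum]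
    refine Finset.sum_congr rfl fun i _ => ?_
    rw [map_mul, MvPolynomial.aeval_C, MvPolynomial.aeval_X]
    rfl

include hx c in
/-- every element of `𝔫^d` is a form of degree `d` in the `x_i` modulo `𝔫^{d+1}` -/
lemma exists_form (d : ℕ) {p : P} (hp : p ∈ maximalIdeal P ^ d) :
    ∃ F : MvPolynomial ι k, F.IsHomogeneous d ∧ p - MvPolynomial.aeval x F ∈ maximalIdeal P ^ (d + 1) := by
  have hmem : ∀ (e : ℕ) (F : MvPolynomial ι k), F.IsHomogeneous e →
      MvPolynomial.aeval x F ∈ maximalIdeal P ^ e := by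
    intro e F hF
    rw [MvPolynomial.aeval_def, MvPolynomial.eval₂_eq]
    refine Submodule.sum_mem _ fun m hm => ?_
    apply Ideal.mul_mem_left
    have h1 : ∑ i ∈ m.support, m i = e := by
      have := hF (MvPolynomial.mem_support_iff.mp hm)
      rw [Finsupp.weight_apply, Finsupp.sum] at this
      simpa using this
    rw [← h1, ← Finset.prod_pow_eq_pow_sum]
    exact Ideal.prod_mem_prod fun i _ => Ideal.pow_mem_pow (hx i).1 _
  induction d generalizing p with
  | zero =>
    refine ⟨MvPolynomial.C (c p), MvPolynomial.isHomogeneous_C _ _, ?_⟩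
    rw [zero_add, pow_one, MvPolynomial.aeval_C]
    exact (proj c p).2
  | succ d ih =>
    rw [pow_succ] at hp
    induction hp using Submodule.mul_induction_on' with
    | mem_mul_mem a ha b' hb =>
      obtain ⟨F, hF, hF'⟩ := ih ha
      obtain ⟨G, hG, hG'⟩ := exists_linear b x hx hb
      refine ⟨F * G, hF.mul hG, ?_⟩
      have h1 : a * b' - MvPolynomial.aeval x (F * G) =
          (a - MvPolynomial.aeval x F) * b' +
            MvPolynomial.aeval x F * (b' - MvPolynomial.aeval x G) := by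
        rw [map_mul]; ring
      rw [h1]
      refine Ideal.add_mem _ ?_ ?_
      · rw [pow_succ]
        exact Ideal.mul_mem_mul hF' hb
      · rw [add_assoc, pow_add]
        exact Ideal.mul_mem_mul (hmem d F hF) hG'
    | add a _ b' _ ha hb =>
      obtain ⟨F, hF, hF'⟩ := ha
      obtain ⟨G, hG, hG'⟩ := hb
      refine ⟨F + G, hF.add hG, ?_⟩
      rw [map_add, add_sub_add_comm]
      exact Ideal.add_mem _ hF' hG'

end Forms

end Tangent

section Main

open IsLocalRing

variable {k : Type u} [Field k] {P : Type v} [CommRing P] [IsLocalRing P] [Algebra k P]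

lemma map_mem {l : ℕ} (hl : 1 ≤ l) (Φ : P →ₐ[k] T k l) (e : ℕ) {p : P} (hp : p ∈ maximalIdeal P ^ e) :
    ∃ y, Φ p = ex k l ^ e * y := by
  have h1 : (maximalIdeal P).map (Φ : P →+* T k l) ≤ Ideal.span {ex k l} := by
    rw [Ideal.map_le_iff_le_comap]
    intro q hq
    rw [mem_maximalIdeal_iff ((ev0 k hl).comp Φ)] at hq
    obtain ⟨y, hy⟩ := exists_of_ev0_eq_zero k hl _ hq
    rw [Ideal.mem_comap, Ideal.mem_span_singleton]
    exact ⟨y, hy⟩
  have h2 : (Φ p : T k l) ∈ Ideal.span {ex k l} ^ e := by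
    refine Ideal.pow_right_mono h1 e ?_
    rw [← Ideal.map_pow]
    exact Ideal.mem_map_of_mem (Φ : P →+* T k l) hp
  rw [Ideal.span_singleton_pow, Ideal.mem_span_singleton] at h2
  exact h2

lemma aeval_homog {ι : Type w} {S : Type v} [CommRing S] [Algebra k S] {F : MvPolynomial ι k} {d : ℕ}
    (hF : F.IsHomogeneous d) (e : S) (y : ι → S) :
    MvPolynomial.aeval (fun i => e * y i) F = e ^ d * MvPolynomial.aeval y F := by
  rw [MvPolynomial.aeval_def, MvPolynomial.eval₂_eq, MvPolynomial.aeval_def, MvPolynomial.eval₂_eq,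
    Finset.mul_sum]
  refine Finset.sum_congr rfl fun m hm => ?_
  have h1 : ∑ i ∈ m.support, m i = d := by
    have := hF (MvPolynomial.mem_support_iff.mp hm)
    rw [Finsupp.weight_apply, Finsupp.sum] at this
    simpa using this
  rw [← h1, ← Finset.prod_pow_eq_pow_sum]
  simp only [mul_pow, Finset.prod_mul_distrib]
  ring

lemma aeval_add_mul {ι : Type w} {S : Type v} [CommRing S] [Algebra k S] (F : MvPolynomial ι k)
    (v : ι → k) (e : S) (y : ι → S) :
    ∃ z, MvPolynomial.aeval (fun i => algebraMap k S (v i) + e * y i) F =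
      algebraMap k S (MvPolynomial.eval v F) + e * z := by
  induction F using MvPolynomial.induction_on with
  | C a => exact ⟨0, by rw [MvPolynomial.aeval_C, MvPolynomial.eval_C, mul_zero, add_zero]⟩
  | add F G hF hG =>
    obtain ⟨z, hz⟩ := hF
    obtain ⟨z', hz'⟩ := hG
    refine ⟨z + z', ?_⟩
    rw [map_add, map_add, map_add, hz, hz']
    ring
  | mul_X F i hF =>
    obtain ⟨z, hz⟩ := hF
    refine ⟨z * (algebraMap k S (v i) + e * y i) + algebraMap k S (MvPolynomial.eval v F) * y i, ?_⟩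
    rw [map_mul, map_mul, MvPolynomial.aeval_X, MvPolynomial.eval_X, hz, map_mul]
    ring

variable {R : Type w} [CommRing R] [Algebra k R]

lemma exists_lift
    (hlift : ∀ (l : ℕ), 1 ≤ l → ∀ (φ : R →ₐ[k] T k l), ∃ ψ : R →ₐ[k] T k (l + 1),
      (tr k (Nat.le_succ l)).comp ψ = φ) {l l' : ℕ} (hl : 1 ≤ l) (h : l ≤ l') (φ : R →ₐ[k] T k l) :
    ∃ ψ : R →ₐ[k] T k l', (tr k h).comp ψ = φ := by
  induction l', h using Nat.le_induction with
  | base =>
    refine ⟨φ, ?_⟩
    refine AlgHom.ext fun x => ?_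
    obtain ⟨p, hp⟩ := Ideal.Quotient.mk_surjective (φ x)
    rw [AlgHom.comp_apply, ← hp, tr_mk]
  | succ l' h ih =>
    obtain ⟨ψ, rfl⟩ := ih
    obtain ⟨ψ', rfl⟩ := hlift l' (hl.trans h) ψ
    exact ⟨ψ', by rw [← AlgHom.comp_assoc, tr_comp]⟩

/-- A quotient `R = P/J` of a Noetherian local `k`-algebra with residue field `k` infinite and `J ≤ 𝔫²`, all
of whose jets lift, is `P`. -/
theorem injective_of_lift [IsNoetherianRing P] [Infinite k] (c : P →ₐ[k] k) (f : P →ₐ[k] R)
    (hf : Function.Surjective f) (hker : ∀ p, f p = 0 → p ∈ maximalIdeal P ^ 2)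
    (hlift : ∀ (l : ℕ), 1 ≤ l → ∀ (φ : R →ₐ[k] T k l), ∃ ψ : R →ₐ[k] T k (l + 1),
      (tr k (Nat.le_succ l)).comp ψ = φ) : Function.Injective f := by
  let b := Module.Basis.ofVectorSpace k (maximalIdeal P).Cotangent
  obtain ⟨x, hx⟩ := exists_lifts b
  have key : ∀ d, 2 ≤ d → ∀ p, f p = 0 → p ∈ maximalIdeal P ^ d := by
    intro d hd
    induction d, hd using Nat.le_induction with
    | base => exact hker
    | succ d hd ih =>
      intro p hp
      obtain ⟨F, hF, hF'⟩ := exists_form c b x hx d (ih p hp)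
      suffices F = 0 by
        rw [this, map_zero, sub_zero] at hF'
        exact hF'
      apply MvPolynomial.funext
      intro v
      rw [map_zero]
      have he : ex k 2 * ex k 2 = 0 := by
        rw [← pow_two]; exact ex_pow_self k 2
      let φ0 : P →ₐ[k] T k 2 := homOf c (b.constr k v) (ex k 2) he
      have hφ0 : RingHom.ker (f : P →+* R) ≤ RingHom.ker (φ0 : P →+* T k 2) := by
        intro q hq
        exact homOf_of_mem_sq c _ _ he (hker q hq)
      let φ : R →ₐ[k] T k 2 := AlgHom.liftOfSurjective f hf φ0 hφ0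
      have hφ : ∀ q, φ (f q) = φ0 q := fun q => AlgHom.liftOfSurjective_apply f hf φ0 hφ0 q
      obtain ⟨ψ, hψ⟩ := exists_lift hlift (by norm_num : 1 ≤ 2) (by omega : 2 ≤ d + 1) φ
      let Φ : P →ₐ[k] T k (d + 1) := ψ.comp f
      have hΦ : ∀ q, tr k (by omega : 2 ≤ d + 1) (Φ q) = φ0 q := fun q => by
        rw [← hφ, ← hψ]; rfl
      have h1 : ∀ i, ∃ y, Φ (x i) = ex k (d + 1) * (algebraMap k _ (v i) + ex k (d + 1) * y) := by
        intro i
        obtain ⟨hi1, hi2⟩ := hx i
        have h2 : tr k (by omega : 2 ≤ d + 1) (Φ (x i) - algebraMap k _ (v i) * ex k (d + 1)) = 0 := by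
          rw [map_sub, hΦ, homOf_apply, dd_of_mem c hi1, hi2, b.constr_basis,
            (mem_maximalIdeal_iff c _).mp hi1, map_zero, zero_add, map_mul, AlgHom.commutes, tr_mk,
            Algebra.smul_def, sub_self]
        obtain ⟨y, hy⟩ := exists_of_tr_eq_zero k _ _ h2
        refine ⟨y, ?_⟩
        rw [sub_eq_iff_eq_add] at hy
        rw [hy]
        ring
      choose y hy using h1
      have h3 : Φ (MvPolynomial.aeval x F) = ex k (d + 1) ^ d *
          MvPolynomial.aeval (fun i => algebraMap k _ (v i) + ex k (d + 1) * y i) F := by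
        rw [← aeval_homog hF, MvPolynomial.comp_aeval_apply]
        congr 2
        exact funext hy
      obtain ⟨z, hz⟩ := aeval_add_mul F v (ex k (d + 1)) y
      have h4 : Φ (MvPolynomial.aeval x F) = 0 := by
        obtain ⟨z, hz⟩ := map_mem (by omega) Φ (d + 1) hF'
        rw [ex_pow_self, zero_mul, map_sub, show Φ p = 0 by
          change ψ (f p) = 0; rw [hp, map_zero], zero_sub, neg_eq_zero] at hz
        exact hz
      rw [h3, hz, mul_add, ← mul_assoc, ← pow_succ, ex_pow_self, zero_mul, add_zero, mul_comm] at h4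
      exact algebraMap_mul_ex_pow_eq_zero k _ h4
  rw [injective_iff_map_eq_zero]
  intro p hp
  have h1 : p ∈ ⨅ i : ℕ, maximalIdeal P ^ i := by
    rw [Ideal.mem_iInf]
    intro i
    exact Ideal.pow_le_pow_right (by omega : i ≤ i + 2) (key (i + 2) (by omega) p hp)
  rw [Ideal.iInf_pow_eq_bot_of_isLocalRing _ Ideal.IsPrime.ne_top'] at h1
  exact h1

end Main

end K694.Arc
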