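import Groth.Agent.DefT.K694.Arc
import Groth.Agent.CalgC.RegSmooth
import Mathlib.FieldTheory.IsAlgClosed.Basic
import Mathlib.RingTheory.Jacobson.Ring

/-!
# Smoothness and lifting of jets
-/

set_option autoImplicit false

universe u v w

open Polynomial IsLocalRing

noncomputable section

namespace K694.Arc2

open Arc

/-- a quotient of a regular local ring is a quotient of another one by an ideal inside `𝔫²` -/
lemma exists_good {k : Type u} [CommRing k] {P : Type v} [CommRing P] [IsRegularLocalRing P] [Algebra k P]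
    {R : Type w} [CommRing R] [IsLocalRing R] [Algebra k R] (f : P →ₐ[k] R) (hf : Function.Surjective f) :
    ∃ (P' : Type v) (_ : CommRing P') (_ : Algebra k P') (_ : IsRegularLocalRing P') (f' : P' →ₐ[k] R),
      Function.Surjective f' ∧ ∀ p, f' p = 0 → p ∈ maximalIdeal P' ^ 2 := by
  let J : Ideal P := RingHom.ker f
  obtain ⟨J', hJ, hcot, hlen⟩ := Groth.Agent.CalgC.RegLocal.exists_le_imCot_eq J
  have hJm : J ≤ maximalIdeal P := le_maximalIdeal (RingHom.ker_ne_top _)
  have hJ'top : J' ≠ ⊤ := fun h => (RingHom.ker_ne_top (f : P →+* R)) (top_le_iff.mp (h ▸ hJ))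
  have : Nontrivial (P ⧸ J') := Ideal.Quotient.nontrivial_iff.mpr hJ'top
  have : IsLocalRing (P ⧸ J') := IsLocalRing.of_surjective' (Ideal.Quotient.mk J')
    Ideal.Quotient.mk_surjective
  have hreg : IsRegularLocalRing (P ⧸ J') := by
    apply Groth.Agent.CalgC.RegLocal.isRegularLocalRing_of_spanFinrank_le (R := P)
      Ideal.Quotient.mk_surjective
    have h1 : RingHom.ker (algebraMap P (P ⧸ J')) = J' := Ideal.mk_ker
    rw [h1, hcot]
    exact hlen
  let f' : P ⧸ J' →ₐ[k] R := Ideal.Quotient.liftₐ J' f (fun a ha => hJ ha)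
  have hf' : ∀ p, f' (Ideal.Quotient.mk J' p) = f p := fun p => rfl
  refine ⟨P ⧸ J', inferInstance, inferInstance, hreg, f', ?_, ?_⟩
  · intro r
    obtain ⟨p, rfl⟩ := hf r
    exact ⟨Ideal.Quotient.mk J' p, rfl⟩
  · intro p hp
    obtain ⟨p, rfl⟩ := Ideal.Quotient.mk_surjective p
    rw [hf'] at hp
    have h1 : (maximalIdeal P).toCotangent ⟨p, hJm hp⟩ ∈ Groth.Agent.CalgC.RegLocal.imCot J' := by
      rw [hcot]
      exact ⟨⟨p, hJm hp⟩, hp, rfl⟩
    obtain ⟨q, hq, hqp⟩ := h1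
    rw [Ideal.toCotangent_eq] at hqp
    have h2 : Ideal.Quotient.mk J' p = - Ideal.Quotient.mk J' ((q : P) - p) := by
      rw [map_sub, show Ideal.Quotient.mk J' (q : P) = 0 from Ideal.Quotient.eq_zero_iff_mem.mpr hq]
      ring
    rw [h2]
    refine Submodule.neg_mem _ ?_
    have h3 := Ideal.mem_map_of_mem (Ideal.Quotient.mk J') hqp
    rw [Ideal.map_pow] at h3
    refine Ideal.pow_right_mono ?_ 2 h3
    rw [Ideal.map_le_iff_le_comap]
    have hloc : IsLocalHom (Ideal.Quotient.mk J') :=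
      IsLocalHom.of_surjective _ Ideal.Quotient.mk_surjective
    exact (IsLocalRing.maximalIdeal_comap (Ideal.Quotient.mk J')).ge

section Local

variable {k : Type u} [Field k] {A : Type v} [CommRing A] [Algebra k A] (m : Ideal A) [hm : m.IsMaximal]

lemma isUnit_of_notMem {S : Type w} [CommRing S] [Algebra k S] (ψ : A →ₐ[k] S)
    (h : ∀ a ∈ m, IsNilpotent (ψ a)) {a : A} (ha : a ∉ m) : IsUnit (ψ a) := by
  obtain ⟨b, hb⟩ := hm.exists_inv ha
  obtain ⟨y, hy, hby⟩ := hb
  have h1 : ψ b * ψ a = 1 - ψ y := by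
    rw [← map_mul, ← map_one ψ, ← map_sub, ← hby]
    congr 1
    ring
  have h2 : IsUnit (ψ b * ψ a) := by
    rw [h1]
    exact (h y hy).isUnit_one_sub
  exact isUnit_of_mul_isUnit_right h2

/-- extension to the local ring -/
def ext' {S : Type w} [CommRing S] [Algebra k S] (ψ : A →ₐ[k] S)
    (h : ∀ a ∈ m, IsNilpotent (ψ a)) : Localization.AtPrime m →ₐ[k] S :=
  IsLocalization.liftAlgHom (M := m.primeCompl) (f := ψ) fun y => isUnit_of_notMem m ψ h y.2

lemma ext'_algebraMap {S : Type w} [CommRing S] [Algebra k S] (ψ : A →ₐ[k] S)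
    (h : ∀ a ∈ m, IsNilpotent (ψ a)) (a : A) : ext' m ψ h (algebraMap A _ a) = ψ a :=
  IsLocalization.lift_eq _ _

lemma algHom_ext {S : Type w} [CommRing S] [Algebra k S] {φ ψ : Localization.AtPrime m →ₐ[k] S}
    (h : ∀ a : A, φ (algebraMap A _ a) = ψ (algebraMap A _ a)) : φ = ψ := by
  apply IsLocalization.algHom_ext m.primeCompl (A := A)
  exact AlgHom.ext h

lemma nilp {l : ℕ} (hl : 1 ≤ l) (φ : Localization.AtPrime m →ₐ[k] T k l) {a : A} (ha : a ∈ m) :
    IsNilpotent (φ (algebraMap A _ a)) := by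
  rw [isNilpotent_iff k hl]
  change ((ev0 k hl).comp φ) (algebraMap A _ a) = 0
  rw [← mem_maximalIdeal_iff, IsLocalization.AtPrime.to_map_mem_maximal_iff _ m]
  exact ha

lemma nilp_of_tr {l : ℕ} (hl : 1 ≤ l) (x : T k (l + 1)) (hx : IsNilpotent (tr k (Nat.le_succ l) x)) :
    IsNilpotent x := by
  rw [isNilpotent_iff k (by omega)]
  rw [isNilpotent_iff k hl] at hx
  obtain ⟨p, rfl⟩ := Ideal.Quotient.mk_surjective x
  rw [tr_mk, ev0_mk] at hx
  rw [ev0_mk, hx]

/-- lifting property for `A` gives the lifting property for `A_m` -/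
lemma lift_local
    (hlift : ∀ (l : ℕ), 1 ≤ l → ∀ (φ : A →ₐ[k] T k l), (∀ a ∈ m, IsNilpotent (φ a)) →
      ∃ ψ : A →ₐ[k] T k (l + 1), (tr k (Nat.le_succ l)).comp ψ = φ)
    (l : ℕ) (hl : 1 ≤ l) (φ : Localization.AtPrime m →ₐ[k] T k l) :
    ∃ ψ : Localization.AtPrime m →ₐ[k] T k (l + 1), (tr k (Nat.le_succ l)).comp ψ = φ := by
  obtain ⟨ψ, hψ⟩ := hlift l hl (φ.comp (IsScalarTower.toAlgHom k A _)) (fun a ha => nilp m hl φ ha)
  have hψ' : ∀ a, tr k (Nat.le_succ l) (ψ a) = φ (algebraMap A _ a) := fun a => by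
    rw [← AlgHom.comp_apply, hψ]; rfl
  refine ⟨ext' m ψ (fun a ha => nilp_of_tr hl _ ?_), algHom_ext m fun a => ?_⟩
  · rw [hψ']
    exact nilp m hl φ ha
  · rw [AlgHom.comp_apply, ext'_algebraMap, hψ']

lemma pow_mem_span {S : Type*} [CommRing S] (e y : S) {l : ℕ} (hl : 1 ≤ l) :
    e ^ l * y ∈ Ideal.span {e} := by
  rw [Ideal.mem_span_singleton]
  exact Dvd.dvd.mul_right (dvd_pow_self e (by omega)) y

lemma isNilpotent_ker (k : Type u) [Field k] (l : ℕ) (hl : 1 ≤ l) :
    IsNilpotent (RingHom.ker (tr k (Nat.le_succ l) : T k (l + 1) →+* T k l)) := by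
  have h1 : RingHom.ker (tr k (Nat.le_succ l) : T k (l + 1) →+* T k l) ≤ Ideal.span {ex k (l + 1)} := by
    intro x hx
    obtain ⟨y, hy⟩ := exists_of_tr_eq_zero k (Nat.le_succ l) x hx
    rw [hy]
    exact pow_mem_span _ _ hl
  refine ⟨l + 1, ?_⟩
  have h2 := Ideal.pow_right_mono h1 (l + 1)
  rw [Ideal.span_singleton_pow, ex_pow_self, Ideal.span_singleton_eq_bot.mpr rfl] at h2
  exact le_bot_iff.mp h2

/-- formally smooth local rings have the lifting property -/
lemma lift_of_formallySmooth [Algebra.FormallySmooth k (Localization.AtPrime m)]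
    (l : ℕ) (hl : 1 ≤ l) (φ : A →ₐ[k] T k l) (hφ : ∀ a ∈ m, IsNilpotent (φ a)) :
      ∃ ψ : A →ₐ[k] T k (l + 1), (tr k (Nat.le_succ l)).comp ψ = φ := by
  have hnil := isNilpotent_ker k l hl
  let ψ := Algebra.FormallySmooth.liftOfSurjective (ext' m φ hφ) (tr k (Nat.le_succ l))
    (tr_surjective k _) hnil
  refine ⟨ψ.comp (IsScalarTower.toAlgHom k A _), AlgHom.ext fun a => ?_⟩
  have h1 : tr k (Nat.le_succ l) (ψ (algebraMap A _ a)) = ext' m φ hφ (algebraMap A _ a) :=
    Algebra.FormallySmooth.liftOfSurjective_apply _ _ _ _ _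
  rw [ext'_algebraMap] at h1
  exact h1

end Local

variable {k : Type u} [Field k] [IsAlgClosed k] {A : Type v} [CommRing A] [Algebra k A]
  [Algebra.FiniteType k A] (m : Ideal A) [hm : m.IsMaximal]

lemma exists_point : Nonempty (Localization.AtPrime m →ₐ[k] k) := by
  let _ : Field (A ⧸ m) := Ideal.Quotient.field m
  have hfin : Module.Finite k (A ⧸ m) := finite_of_finite_type_of_isJacobsonRing k (A ⧸ m)
  have hbij : Function.Bijective (algebraMap k (A ⧸ m)) :=
    IsAlgClosed.algebraMap_bijective_of_isIntegral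
  let e : k ≃ₐ[k] (A ⧸ m) := AlgEquiv.ofBijective (Algebra.ofId k (A ⧸ m)) hbij
  let c : A →ₐ[k] k := e.symm.toAlgHom.comp (Ideal.Quotient.mkₐ k m)
  refine ⟨ext' m c fun a ha => ?_⟩
  have : c a = 0 := by
    change e.symm (Ideal.Quotient.mk m a) = 0
    rw [Ideal.Quotient.eq_zero_iff_mem.mpr ha, map_zero]
  rw [this]
  exact IsNilpotent.zero

theorem regular_iff : IsRegularLocalRing (Localization.AtPrime m) ↔
    ∀ (l : ℕ), 1 ≤ l → ∀ (φ : A →ₐ[k] T k l), (∀ a ∈ m, IsNilpotent (φ a)) →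
      ∃ ψ : A →ₐ[k] T k (l + 1), (tr k (Nat.le_succ l)).comp ψ = φ := by
  constructor
  · intro h
    have : Algebra.FormallySmooth k (Localization.AtPrime m) :=
      (Groth.Agent.CalgC.RegSmooth.isSmoothAt_iff_isRegularLocalRing_of_perfectField m).mpr h
    exact fun l hl φ hφ => lift_of_formallySmooth m l hl φ hφ
  · intro h
    obtain ⟨c⟩ := exists_point (k := k) m
    obtain ⟨P, _, _, _, _, _, _, _, _, surj⟩ :=
      Groth.Agent.CalgC.RegSmooth.exists_presentation (k := k) m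
    obtain ⟨P', _, _, _, f', hf', hker⟩ :=
      exists_good (IsScalarTower.toAlgHom k P (Localization.AtPrime m)) surj
    have hinf : Infinite k := inferInstance
    have hinj := injective_of_lift (c.comp f') f' hf' hker (lift_local m h)
    exact IsRegularLocalRing.of_ringEquiv (AlgEquiv.ofBijective f' ⟨hinj, hf'⟩).toRingEquiv

end K694.Arc2
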