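import Groth.Prelude.Def_CotT2
import Mathlib.Algebra.Exact.Basic

/-!
# Basic exactness facts on the cotangent complex `L₂ → L₁ → I/I² → 0` of a presentation
-/

universe u v w t m m'

open TensorProduct

noncomputable section

namespace K694.Basic

open CotT

variable {A : Type u} {B : Type v} {ι : Type w} {σ : Type t}
variable [CommRing A] [CommRing B] [Algebra A B]
variable (P : Algebra.Presentation A B ι σ)

lemma algebraMap_surj : Function.Surjective (algebraMap P.toExtension.Ring B) :=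
  P.toExtension.algebraMap_surjective

/-- Every element of a base change along `R → B` surjective is `1 ⊗ x`. -/
lemma exists_one_tmul {R B : Type*} [CommRing R] [CommRing B] [Algebra R B]
    (h : Function.Surjective (algebraMap R B)) {N : Type*} [AddCommMonoid N] [Module R N]
    (z : B ⊗[R] N) : ∃ x : N, z = (1 : B) ⊗ₜ x := by
  induction z using TensorProduct.induction_on with
  | zero => exact ⟨0, by simp⟩
  | add x y hx hy =>
    obtain ⟨x, rfl⟩ := hx
    obtain ⟨y, rfl⟩ := hy
    exact ⟨x + y, by rw [TensorProduct.tmul_add]⟩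
  | tmul b n =>
    obtain ⟨r, rfl⟩ := h b
    exact ⟨r • n, by rw [← TensorProduct.smul_tmul, Algebra.smul_def, mul_one]⟩

lemma toCot_one_tmul (f : relMod P) :
    toCot P ((1 : B) ⊗ₜ f) = Algebra.Extension.Cotangent.mk (jker P f) := by
  rw [toCot_tmul, one_smul]

lemma exists_jker (x : P.toExtension.ker) : ∃ f, jker P f = x := by
  have : (x : P.toExtension.Ring) ∈ LinearMap.range (jmap P) := by
    rw [range_jmap]; exact x.2
  obtain ⟨f, hf⟩ := this
  exact ⟨f, Subtype.ext hf⟩

lemma toCot_surjective : Function.Surjective (toCot P) := by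
  intro y
  obtain ⟨x, rfl⟩ := Algebra.Extension.Cotangent.mk_surjective y
  obtain ⟨f, rfl⟩ := exists_jker P x
  exact ⟨(1 : B) ⊗ₜ f, toCot_one_tmul P f⟩

lemma mk_eq_zero_iff (x : P.toExtension.ker) :
    Algebra.Extension.Cotangent.mk x = 0 ↔ (x : P.toExtension.Ring) ∈ P.toExtension.ker ^ 2 :=
  Algebra.Extension.Cotangent.mk_eq_zero_iff x

/-- An element of `I²` is `Σ j(aᵢ) j(bᵢ)`; so `y ∈ I²` lifts to `f` with `j f = y` and `1 ⊗ f = 0`. -/
lemma exists_of_mem_sq {x : P.toExtension.Ring} (hx : x ∈ P.toExtension.ker ^ 2) :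
    ∃ f : relMod P, jmap P f = x ∧ (1 : B) ⊗ₜ[P.toExtension.Ring] f = (0 : L1 P) := by
  rw [pow_two] at hx
  induction hx using Submodule.mul_induction_on' with
  | mem_mul_mem a ha b hb =>
    obtain ⟨f, hf⟩ := exists_jker P ⟨b, hb⟩
    refine ⟨a • f, ?_, ?_⟩
    · rw [map_smul, show jmap P f = b from congrArg Subtype.val hf, smul_eq_mul]
    · rw [← TensorProduct.smul_tmul, Algebra.smul_def, show algebraMap _ B a = 0 from ha, zero_mul,
        TensorProduct.zero_tmul]
  | add x _ y _ hx hy =>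
    obtain ⟨f, hf, hf'⟩ := hx
    obtain ⟨g, hg, hg'⟩ := hy
    exact ⟨f + g, by rw [map_add, hf, hg], by rw [TensorProduct.tmul_add, hf', hg', add_zero]⟩

lemma toCot_eq_zero_iff (z : L1 P) : toCot P z = 0 ↔ ∃ w : L2 P, d2 P w = z := by
  constructor
  · intro hz
    obtain ⟨f, rfl⟩ := exists_one_tmul (algebraMap_surj P) z
    rw [toCot_one_tmul, mk_eq_zero_iff] at hz
    obtain ⟨g, hg, hg'⟩ := exists_of_mem_sq P hz
    have hq : f - g ∈ relKer P := by
      change jmap P (f - g) = 0
      rw [map_sub, hg]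
      change jmap P f - jmap P f = 0
      rw [sub_self]
    refine ⟨Submodule.Quotient.mk ((1 : B) ⊗ₜ ⟨f - g, hq⟩), ?_⟩
    rw [d2_mk_tmul]
    change (1 : B) ⊗ₜ[P.toExtension.Ring] (f - g) = _
    rw [TensorProduct.tmul_sub, hg', sub_zero]
  · rintro ⟨w, rfl⟩
    exact DFunLike.congr_fun (toCot_comp_d2 P) w

lemma exact_d2_toCot : Function.Exact (d2 P) (toCot P) := fun z => by
  rw [toCot_eq_zero_iff]; rfl

lemma ker_toCot : LinearMap.ker (toCot P) = LinearMap.range (d2 P) :=
  (exact_d2_toCot P).linearMap_ker_eq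

section Functors

variable (M : Type m) [AddCommGroup M] [Module B M]

/-- a 1-cocycle factors through `I/I²` -/
lemma exists_of_cocycle (c : L1 P →ₗ[B] M) (hc : c ∘ₗ d2 P = 0) :
    ∃ φ : P.toExtension.Cotangent →ₗ[B] M, φ ∘ₗ toCot P = c := by
  have hle : LinearMap.ker (toCot P) ≤ LinearMap.ker c := by
    rw [ker_toCot]
    rintro _ ⟨w, rfl⟩
    exact DFunLike.congr_fun hc w
  refine ⟨(Submodule.liftQ _ c hle) ∘ₗ
    ((toCot P).quotKerEquivOfSurjective (toCot_surjective P)).symm.toLinearMap, ?_⟩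
  refine LinearMap.ext fun z => ?_
  have : ((toCot P).quotKerEquivOfSurjective (toCot_surjective P)).symm (toCot P z) =
      Submodule.Quotient.mk z := by
    rw [LinearEquiv.symm_apply_eq]
    rfl
  rw [LinearMap.comp_apply, LinearMap.comp_apply, LinearEquiv.coe_coe, this]
  rfl

lemma comp_toCot_injective (φ ψ : P.toExtension.Cotangent →ₗ[B] M)
    (h : φ ∘ₗ toCot P = ψ ∘ₗ toCot P) : φ = ψ :=
  (LinearMap.cancel_right (toCot_surjective P)).mp h

lemma homToT1_surjective : Function.Surjective (homToT1 P M) := by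
  intro x
  obtain ⟨c, rfl⟩ := Submodule.Quotient.mk_surjective _ x
  obtain ⟨φ, hφ⟩ := exists_of_cocycle P M c.1 c.2
  refine ⟨φ, ?_⟩
  change Submodule.Quotient.mk _ = _
  congr 1
  exact Subtype.ext hφ

lemma homToT1_eq_zero_iff (φ : P.toExtension.Cotangent →ₗ[B] M) :
    homToT1 P M φ = 0 ↔ ∃ ψ : L0 P →ₗ[B] M, ψ ∘ₗ P.toExtension.cotangentComplex = φ := by
  have : homToT1 P M φ = 0 ↔ ∃ ψ : L0 P →ₗ[B] M, ψ ∘ₗ d1 P = φ ∘ₗ toCot P := by
    change Submodule.Quotient.mk _ = _ ↔ _
    rw [Submodule.Quotient.mk_eq_zero]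
    rfl
  rw [this]
  constructor
  · rintro ⟨ψ, hψ⟩
    exact ⟨ψ, comp_toCot_injective P M _ _ hψ⟩
  · rintro ⟨ψ, rfl⟩
    exact ⟨ψ, rfl⟩

lemma ker_homToT1 : LinearMap.ker (homToT1 P M) =
    LinearMap.range (LinearMap.lcomp B M P.toExtension.cotangentComplex) := by
  ext φ
  rw [LinearMap.mem_ker, homToT1_eq_zero_iff]
  rfl

lemma mem_ker_d1Star_iff (ψ : L0 P →ₗ[B] M) :
    d1Star P M ψ = 0 ↔ ψ ∘ₗ P.toExtension.cotangentComplex = 0 := by
  rw [d1Star_apply]
  constructor
  · intro h
    exact comp_toCot_injective P M _ _ h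
  · intro h
    change (ψ ∘ₗ P.toExtension.cotangentComplex) ∘ₗ toCot P = 0
    rw [h, LinearMap.zero_comp]

lemma ker_d1Star : LinearMap.ker (d1Star P M) =
    LinearMap.ker (LinearMap.lcomp B M P.toExtension.cotangentComplex) := by
  ext ψ
  rw [LinearMap.mem_ker, mem_ker_d1Star_iff]
  rfl

section Der

variable [Module A M] [IsScalarTower A B M]

lemma derToT0_injective : Function.Injective (derToT0 P M) := by
  intro D D' h
  have h1 : derLift P M D = derLift P M D' := congrArg Subtype.val h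
  ext b
  obtain ⟨r, rfl⟩ := algebraMap_surj P b
  have := DFunLike.congr_fun h1 ((1 : B) ⊗ₜ KaehlerDifferential.D A P.toExtension.Ring r)
  rwa [derLift_tmul_D, derLift_tmul_D, one_smul, one_smul] at this

omit [Module A M] [IsScalarTower A B M] in
/-- A `B`-linear map `L₀ → M` killing the image of `I/I²` comes from a `B`-linear map `Ω_{B/A} → M`. -/
lemma exists_of_T0 (ψ : L0 P →ₗ[B] M) (h : ψ ∘ₗ P.toExtension.cotangentComplex = 0) :
    ∃ θ : Ω[B⁄A] →ₗ[B] M, θ ∘ₗ P.toExtension.toKaehler = ψ := by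
  have hle : LinearMap.ker P.toExtension.toKaehler ≤ LinearMap.ker ψ := by
    rw [P.toExtension.exact_cotangentComplex_toKaehler.linearMap_ker_eq]
    rintro _ ⟨w, rfl⟩
    exact DFunLike.congr_fun h w
  refine ⟨(Submodule.liftQ _ ψ hle) ∘ₗ
    ((P.toExtension.toKaehler).quotKerEquivOfSurjective P.toExtension.toKaehler_surjective).symm.toLinearMap, ?_⟩
  refine LinearMap.ext fun z => ?_
  have : ((P.toExtension.toKaehler).quotKerEquivOfSurjective P.toExtension.toKaehler_surjective).symm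
      (P.toExtension.toKaehler z) = Submodule.Quotient.mk z := by
    rw [LinearEquiv.symm_apply_eq]
    rfl
  rw [LinearMap.comp_apply, LinearMap.comp_apply, LinearEquiv.coe_coe, this]
  rfl

lemma derToT0_surjective : Function.Surjective (derToT0 P M) := by
  rintro ⟨ψ, hψ⟩
  rw [LinearMap.mem_ker, mem_ker_d1Star_iff] at hψ
  obtain ⟨θ, rfl⟩ := exists_of_T0 P M ψ hψ
  refine ⟨(θ.compDer (KaehlerDifferential.D A B)), Subtype.ext ?_⟩
  rw [derToT0_apply]
  refine (P.cotangentSpaceBasis).ext fun i => ?_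
  rw [derLift_basis, LinearMap.comp_apply]
  rw [Algebra.Generators.toKaehler_cotangentSpaceBasis]
  rfl

lemma derToT0_bijective : Function.Bijective (derToT0 P M) :=
  ⟨derToT0_injective P M, derToT0_surjective P M⟩

end Der

end Functors

end K694.Basic
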