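import Groth.Agent.DefT.K694.Hom

/-!
# Composition of morphisms of presentations; comparison of presentations
-/

universe u v w t u' v' w' t' u'' v'' w'' t'' m m'

open TensorProduct

noncomputable section

namespace K694.Comp

open CotT K694.Basic K694.Hat K694.Hom

section Comp

variable {A : Type u} {B : Type v} {ι : Type w} {σ : Type t}
variable {A' : Type u'} {B' : Type v'} {ι' : Type w'} {σ' : Type t'}
variable {A'' : Type u''} {B'' : Type v''} {ι'' : Type w''} {σ'' : Type t''}
variable [CommRing A] [CommRing B] [Algebra A B] [CommRing A'] [CommRing B'] [Algebra A' B']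
variable [CommRing A''] [CommRing B''] [Algebra A'' B'']
variable [Algebra A A'] [Algebra B B'] [Algebra A B'] [IsScalarTower A A' B'] [IsScalarTower A B B']
variable [Algebra A' A''] [Algebra B' B''] [Algebra A' B''] [IsScalarTower A' A'' B'']
  [IsScalarTower A' B' B'']
variable [Algebra A A''] [Algebra B B''] [Algebra A B''] [IsScalarTower A A'' B'']
  [IsScalarTower A B B''] [IsScalarTower A A' A''] [IsScalarTower B B' B'']
variable {P : Algebra.Presentation A B ι σ} {P' : Algebra.Presentation A' B' ι' σ'}
  {P'' : Algebra.Presentation A'' B'' ι'' σ''}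
variable (h : PresHom P P') (h' : PresHom P' P'')

lemma comp_toRingHom (x : P.toExtension.Ring) :
    (h'.hom.comp h.hom).toExtensionHom.toRingHom x = h'.ringHom (h.ringHom x) := by
  change (h'.hom.comp h.hom).toAlgHom x = h'.hom.toAlgHom (h.hom.toAlgHom x)
  rw [Algebra.Generators.Hom.toAlgHom_comp_apply]

/-- composition -/
def comp : PresHom P P'' where
  hom := h'.hom.comp h.hom
  relVal s := h'.relModMap (h.relVal s)
  jmap_relVal s := by
    rw [h'.jmap_relModMap, h.jmap_relVal, comp_toRingHom]

lemma comp_ringHom (x : P.toExtension.Ring) :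
    (comp h h').ringHom x = h'.ringHom (h.ringHom x) := comp_toRingHom h h' x

lemma comp_relModMap (f : relMod P) :
    (comp h h').relModMap f = h'.relModMap (h.relModMap f) := by
  induction f using Finsupp.induction_linear with
  | zero => simp
  | add f g hf hg => rw [map_add, map_add, map_add, hf, hg]
  | single s r =>
    rw [PresHom.relModMap_single, PresHom.relModMap_single, LinearMap.map_smulₛₗ, comp_ringHom]
    rfl

lemma comp_L1map (x : L1 P) : (comp h h').L1map x = h'.L1map (h.L1map x) := by
  induction x using TensorProduct.induction_on with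
  | zero => simp
  | add x y hx hy => rw [map_add, map_add, map_add, hx, hy]
  | tmul b f =>
    rw [PresHom.L1map_tmul, PresHom.L1map_tmul, PresHom.L1map_tmul, comp_relModMap,
      ← IsScalarTower.algebraMap_apply]

lemma comp_L2map (x : L2 P) : (comp h h').L2map x = h'.L2map (h.L2map x) := by
  obtain ⟨q, rfl⟩ := toL2_surjective P x
  rw [L2map_toL2, L2map_toL2, L2map_toL2]
  congr 1
  apply Subtype.ext
  exact comp_relModMap h h' _

lemma comp_L0map (x : L0 P) : (comp h h').L0map x = h'.L0map (h.L0map x) := by
  induction x using TensorProduct.induction_on with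
  | zero => simp
  | add x y hx hy => rw [map_add, map_add, map_add, hx, hy]
  | tmul b y =>
    obtain ⟨y, rfl⟩ := KaehlerDifferential.tensorProductTo_surjective _ _ y
    induction y using TensorProduct.induction_on with
    | zero => simp
    | add x y hx hy => rw [map_add, TensorProduct.tmul_add, map_add, map_add, map_add, hx, hy]
    | tmul y z =>
      rw [Derivation.tensorProductTo_tmul]
      rw [TensorProduct.tmul_smul, TensorProduct.smul_tmul']
      rw [PresHom.L0map_apply, PresHom.L0map_apply, PresHom.L0map_apply]
      rw [Algebra.Extension.CotangentSpace.map_tmul, Algebra.Extension.CotangentSpace.map_tmul,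
        Algebra.Extension.CotangentSpace.map_tmul, ← IsScalarTower.algebraMap_apply]
      congr 2
      exact comp_ringHom h h' z

variable (M : Type m) [AddCommGroup M] [Module B'' M] [Module B' M] [Module B M]
  [IsScalarTower B' B'' M] [IsScalarTower B B'' M] [IsScalarTower B B' M]

lemma comp_T2pull (x : T2 P'' M) : (comp h h').T2pull M x = h.T2pull M (h'.T2pull M x) := by
  obtain ⟨ψ, rfl⟩ := toT2_surjective P'' M x
  rw [T2pull_toT2, T2pull_toT2, T2pull_toT2]
  congr 1
  refine LinearMap.ext fun z => ?_
  change ψ ((comp h h').L2map z) = ψ (h'.L2map (h.L2map z))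
  rw [comp_L2map]

lemma comp_T1pull (x : T1 P'' M) : (comp h h').T1pull M x = h.T1pull M (h'.T1pull M x) := by
  obtain ⟨c, rfl⟩ := Submodule.Quotient.mk_surjective _ x
  change Submodule.Quotient.mk _ = Submodule.Quotient.mk _
  congr 1
  apply Subtype.ext
  refine LinearMap.ext fun z => ?_
  change (c : L1 P'' →ₗ[B''] M) ((comp h h').L1map z) = (c : L1 P'' →ₗ[B''] M) (h'.L1map (h.L1map z))
  rw [comp_L1map]

lemma comp_T0pull (x : T0 P'' M) : (comp h h').T0pull M x = h.T0pull M (h'.T0pull M x) := by
  apply Subtype.ext
  refine LinearMap.ext fun z => ?_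
  change (x : L0 P'' →ₗ[B''] M) ((comp h h').L0map z) = (x : L0 P'' →ₗ[B''] M) (h'.L0map (h.L0map z))
  rw [comp_L0map]

/-- for every morphism `g` over the composed square: `T²(g) = T²(h) ∘ T²(h')` -/
lemma T2pull_comp (g : PresHom P P'') (x : T2 P'' M) :
    g.T2pull M x = h.T2pull M (h'.T2pull M x) := by
  rw [← comp_T2pull, T2pull_eq g (comp h h')]

lemma T1pull_comp (g : PresHom P P'') (x : T1 P'' M) :
    g.T1pull M x = h.T1pull M (h'.T1pull M x) := by
  rw [← comp_T1pull, T1pull_eq g (comp h h')]

lemma T0pull_comp (g : PresHom P P'') (x : T0 P'' M) :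
    g.T0pull M x = h.T0pull M (h'.T0pull M x) := by
  rw [← comp_T0pull, T0pull_eq g (comp h h')]

end Comp

section Id

variable {A : Type u} {B : Type v} {ι : Type w} {σ : Type t} {ι' : Type w'} {σ' : Type t'}
variable [CommRing A] [CommRing B] [Algebra A B]
variable {P : Algebra.Presentation A B ι σ} {P' : Algebra.Presentation A B ι' σ'}
variable (M : Type m) [AddCommGroup M] [Module B M]

lemma id_ringHom (x : P.toExtension.Ring) : (PresHom.id P).ringHom x = x := by
  change (Algebra.Generators.Hom.id P.toGenerators).toAlgHom x = x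
  rw [Algebra.Generators.Hom.toAlgHom_id]
  rfl

lemma id_relModMap (f : relMod P) : (PresHom.id P).relModMap f = f := by
  induction f using Finsupp.induction_linear with
  | zero => simp
  | add f g hf hg => rw [map_add, hf, hg]
  | single s r =>
    rw [PresHom.relModMap_single, id_ringHom]
    change r • Finsupp.single s (1 : P.toExtension.Ring) = _
    rw [Finsupp.smul_single, smul_eq_mul, mul_one]

lemma id_L1map (x : L1 P) : (PresHom.id P).L1map x = x := by
  induction x using TensorProduct.induction_on with
  | zero => simp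
  | add x y hx hy => rw [map_add, hx, hy]
  | tmul b f =>
    rw [PresHom.L1map_tmul, id_relModMap]
    rfl

lemma id_L2map (x : L2 P) : (PresHom.id P).L2map x = x := by
  obtain ⟨q, rfl⟩ := toL2_surjective P x
  rw [L2map_toL2]
  congr 1
  apply Subtype.ext
  exact id_relModMap _

lemma id_L0map (x : L0 P) : (PresHom.id P).L0map x = x := by
  induction x using TensorProduct.induction_on with
  | zero => simp
  | add x y hx hy => rw [map_add, hx, hy]
  | tmul b y =>
    obtain ⟨y, rfl⟩ := KaehlerDifferential.tensorProductTo_surjective _ _ y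
    induction y using TensorProduct.induction_on with
    | zero => simp
    | add x y hx hy => rw [map_add, TensorProduct.tmul_add, map_add, hx, hy]
    | tmul y z =>
      rw [Derivation.tensorProductTo_tmul]
      rw [TensorProduct.tmul_smul, TensorProduct.smul_tmul']
      rw [PresHom.L0map_apply]
      rw [Algebra.Extension.CotangentSpace.map_tmul]
      congr 2
      exact id_ringHom z

lemma id_T2pull (x : T2 P M) : (PresHom.id P).T2pull M x = x := by
  obtain ⟨ψ, rfl⟩ := toT2_surjective P M x
  rw [T2pull_toT2]
  congr 1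
  refine LinearMap.ext fun z => ?_
  change ψ ((PresHom.id P).L2map z) = ψ z
  rw [id_L2map]

lemma id_T1pull (x : T1 P M) : (PresHom.id P).T1pull M x = x := by
  obtain ⟨c, rfl⟩ := Submodule.Quotient.mk_surjective _ x
  change Submodule.Quotient.mk _ = Submodule.Quotient.mk _
  congr 1
  apply Subtype.ext
  refine LinearMap.ext fun z => ?_
  change (c : L1 P →ₗ[B] M) ((PresHom.id P).L1map z) = (c : L1 P →ₗ[B] M) z
  rw [id_L1map]

lemma id_T0pull (x : T0 P M) : (PresHom.id P).T0pull M x = x := by
  apply Subtype.ext
  refine LinearMap.ext fun z => ?_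
  change (x : L0 P →ₗ[B] M) ((PresHom.id P).L0map z) = (x : L0 P →ₗ[B] M) z
  rw [id_L0map]

variable (g : PresHom P P') (g' : PresHom P' P)

lemma T2pull_T2pull (x : T2 P M) : g.T2pull M (g'.T2pull M x) = x := by
  rw [← T2pull_comp g g' M (PresHom.id P), id_T2pull]

lemma T1pull_T1pull (x : T1 P M) : g.T1pull M (g'.T1pull M x) = x := by
  rw [← T1pull_comp g g' M (PresHom.id P), id_T1pull]

lemma T0pull_T0pull (x : T0 P M) : g.T0pull M (g'.T0pull M x) = x := by
  rw [← T0pull_comp g g' M (PresHom.id P), id_T0pull]

/-- comparison isomorphism on `T²` -/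
def T2equiv : T2 P' M ≃ₗ[B] T2 P M :=
  LinearEquiv.ofLinearMap (g.T2pull M) ((nonempty_presHom P' P).some.T2pull M)
    (LinearMap.ext fun x => T2pull_T2pull M g _ x)
    (LinearMap.ext fun x => T2pull_T2pull M _ g x)

/-- comparison isomorphism on `T¹` -/
def T1equiv : T1 P' M ≃ₗ[B] T1 P M :=
  LinearEquiv.ofLinearMap (g.T1pull M) ((nonempty_presHom P' P).some.T1pull M)
    (LinearMap.ext fun x => T1pull_T1pull M g _ x)
    (LinearMap.ext fun x => T1pull_T1pull M _ g x)

/-- comparison isomorphism on `T⁰` -/
def T0equiv : T0 P' M ≃ₗ[B] T0 P M :=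
  LinearEquiv.ofLinearMap (g.T0pull M) ((nonempty_presHom P' P).some.T0pull M)
    (LinearMap.ext fun x => T0pull_T0pull M g _ x)
    (LinearMap.ext fun x => T0pull_T0pull M _ g x)

@[simp] lemma T2equiv_apply (x : T2 P' M) : T2equiv M g x = g.T2pull M x := rfl
@[simp] lemma T1equiv_apply (x : T1 P' M) : T1equiv M g x = g.T1pull M x := rfl
@[simp] lemma T0equiv_apply (x : T0 P' M) : T0equiv M g x = g.T0pull M x := rfl

/-- every morphism between two presentations of the same algebra induces bijections on `Tⁱ` -/
theorem bijective_T2pull : Function.Bijective (g.T2pull M) := (T2equiv M g).bijective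
theorem bijective_T1pull : Function.Bijective (g.T1pull M) := (T1equiv M g).bijective
theorem bijective_T0pull : Function.Bijective (g.T0pull M) := (T0equiv M g).bijective

variable (P P')

/-- comparison isomorphism on `T²` -/
def T2cmp : T2 P' M ≃ₗ[B] T2 P M := T2equiv M (nonempty_presHom P P').some

/-- comparison isomorphism on `T¹` -/
def T1cmp : T1 P' M ≃ₗ[B] T1 P M := T1equiv M (nonempty_presHom P P').some

/-- comparison isomorphism on `T⁰` -/
def T0cmp : T0 P' M ≃ₗ[B] T0 P M := T0equiv M (nonempty_presHom P P').some

end Id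

end K694.Comp
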