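import Mathlib.Algebra.MvPolynomial.Eval
import Mathlib.Algebra.MvPolynomial.CommRing
import Mathlib.Algebra.Module.Submodule.Basic

/-!
# The ring `S ⋉ N` attached to a symmetric linear map `j : N → S`, and `(τ, τ')`-derivations

For a linear map `j : N → S` with `j u • v = j v • u` the group `S × N` is a commutative ring with
`(r, u) (s, v) = (r s, r v + s u + j(u) v)`; `(r, u) ↦ r` and `(r, u) ↦ r + j u` are ring maps.
Two ring maps `τ, τ'` from a polynomial ring to `S` which agree on constants and differ by elements
of the range of `j` on the variables are therefore related by a `(τ, τ')`-derivation with values in `N`.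
-/

universe u v w t

noncomputable section

namespace K694.Cross

variable {S : Type u} {N : Type v} [CommRing S] [AddCommGroup N] [Module S N]

/-- a linear map `j : N → S` with `j u • v = j v • u` -/
structure Data (S : Type u) (N : Type v) [CommRing S] [AddCommGroup N] [Module S N] where
  j : N →ₗ[S] S
  symm : ∀ u v, j u • v = j v • u

/-- the underlying additive group `S × N` -/
def Data.Carrier (_D : Data S N) : Type (max u v) := S × N

variable (D : Data S N)

instance : AddCommGroup D.Carrier := inferInstanceAs (AddCommGroup (S × N))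

/-- constructor -/
def Data.mk' (r : S) (u : N) : D.Carrier := (r, u)

variable {D} in
/-- first component -/
def Data.Carrier.fst (x : D.Carrier) : S := Prod.fst x
variable {D} in
/-- second component -/
def Data.Carrier.snd (x : D.Carrier) : N := Prod.snd x

variable {D} in
lemma carrier_ext {x y : D.Carrier} (h1 : x.fst = y.fst) (h2 : x.snd = y.snd) : x = y :=
  Prod.ext h1 h2

@[simp] lemma fst_mk' (r : S) (u : N) : (D.mk' r u).fst = r := rfl
@[simp] lemma snd_mk' (r : S) (u : N) : (D.mk' r u).snd = u := rfl
@[simp] lemma fst_add (x y : D.Carrier) : (x + y).fst = x.fst + y.fst := rfl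
@[simp] lemma snd_add (x y : D.Carrier) : (x + y).snd = x.snd + y.snd := rfl
@[simp] lemma fst_zero : (0 : D.Carrier).fst = 0 := rfl
@[simp] lemma snd_zero : (0 : D.Carrier).snd = 0 := rfl

instance : Mul D.Carrier :=
  ⟨fun x y => D.mk' (x.fst * y.fst) (x.fst • y.snd + y.fst • x.snd + D.j x.snd • y.snd)⟩

instance : One D.Carrier := ⟨D.mk' 1 0⟩

@[simp] lemma fst_mul (x y : D.Carrier) : (x * y).fst = x.fst * y.fst := rfl
@[simp] lemma snd_mul (x y : D.Carrier) :
    (x * y).snd = x.fst • y.snd + y.fst • x.snd + D.j x.snd • y.snd := rfl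
@[simp] lemma fst_one : (1 : D.Carrier).fst = 1 := rfl
@[simp] lemma snd_one : (1 : D.Carrier).snd = 0 := rfl

lemma cmul_comm (x y : D.Carrier) : x * y = y * x := by
  apply carrier_ext
  · simp [mul_comm]
  · simp only [snd_mul]
    rw [D.symm x.snd y.snd, add_comm (x.fst • y.snd)]

lemma cmul_assoc (x y z : D.Carrier) : x * y * z = x * (y * z) := by
  apply carrier_ext
  · simp [mul_assoc]
  · simp only [snd_mul, fst_mul, map_add, map_smul, smul_eq_mul, smul_add, add_smul, ← mul_smul]
    rw [mul_comm (z.fst) (x.fst), mul_comm z.fst y.fst, mul_comm (z.fst) (D.j x.snd)]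
    rw [mul_comm (y.fst) (D.j x.snd)]
    abel

lemma cone_mul (x : D.Carrier) : 1 * x = x := by
  apply carrier_ext <;> simp

lemma cleft_distrib (x y z : D.Carrier) : x * (y + z) = x * y + x * z := by
  apply carrier_ext
  · simp [mul_add]
  · simp only [snd_mul, fst_add, snd_add, smul_add, add_smul]
    abel

lemma czero_mul (x : D.Carrier) : 0 * x = 0 := by
  apply carrier_ext <;> simp

instance : CommRing D.Carrier where
  __ := (inferInstance : AddCommGroup D.Carrier)
  mul_assoc := cmul_assoc D
  one_mul := cone_mul D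
  mul_one x := by rw [cmul_comm, cone_mul]
  left_distrib := cleft_distrib D
  right_distrib x y z := by rw [cmul_comm, cleft_distrib, cmul_comm D z x, cmul_comm D z y]
  zero_mul := czero_mul D
  mul_zero x := by rw [cmul_comm, czero_mul]
  mul_comm := cmul_comm D

/-- `(r, u) ↦ r` -/
def p0 : D.Carrier →+* S where
  toFun x := x.fst
  map_one' := rfl
  map_mul' _ _ := rfl
  map_zero' := rfl
  map_add' _ _ := rfl

/-- `(r, u) ↦ r + j u` -/
def p1 : D.Carrier →+* S where
  toFun x := x.fst + D.j x.snd
  map_one' := by simp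
  map_mul' x y := by
    simp only [fst_mul, snd_mul, map_add, map_smul, smul_eq_mul]
    ring
  map_zero' := by simp
  map_add' x y := by
    simp only [fst_add, snd_add, map_add]
    ring

/-- `r ↦ (r, 0)` -/
def inc : S →+* D.Carrier where
  toFun r := D.mk' r 0
  map_one' := rfl
  map_mul' x y := by apply carrier_ext <;> simp
  map_zero' := rfl
  map_add' x y := by apply carrier_ext <;> simp

@[simp] lemma p0_apply (x : D.Carrier) : p0 D x = x.fst := rfl
@[simp] lemma p1_apply (x : D.Carrier) : p1 D x = x.fst + D.j x.snd := rfl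
@[simp] lemma fst_inc (r : S) : (inc D r).fst = r := rfl
@[simp] lemma snd_inc (r : S) : (inc D r).snd = 0 := rfl

variable {ι : Type w} {A : Type t} [CommRing A]

/-- The `(τ, τ')`-derivation attached to two ring maps out of a polynomial ring. -/
theorem exists_delta (τ τ' : MvPolynomial ι A →+* S)
    (hC : ∀ a, τ (MvPolynomial.C a) = τ' (MvPolynomial.C a))
    (hX : ∀ i, ∃ u : N, D.j u = τ (MvPolynomial.X i) - τ' (MvPolynomial.X i)) :
    ∃ δ : MvPolynomial ι A →+ N, (∀ x, D.j (δ x) = τ x - τ' x) ∧
      (∀ x y, δ (x * y) = τ x • δ y + τ' y • δ x) ∧ (∀ a, δ (MvPolynomial.C a) = 0) := by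
  choose u hu using hX
  let Φ : MvPolynomial ι A →+* D.Carrier :=
    MvPolynomial.eval₂Hom ((inc D).comp (τ'.comp MvPolynomial.C))
      (fun i => D.mk' (τ' (MvPolynomial.X i)) (u i))
  have h0 : (p0 D).comp Φ = τ' := by
    apply MvPolynomial.ringHom_ext
    · intro a
      simp [Φ]
    · intro i
      simp [Φ]
  have h1 : (p1 D).comp Φ = τ := by
    apply MvPolynomial.ringHom_ext
    · intro a
      simp [Φ, hC]
    · intro i
      simp [Φ, hu]
  have h0' : ∀ x, (Φ x).fst = τ' x := fun x => RingHom.congr_fun h0 x
  have h1' : ∀ x, D.j (Φ x).snd = τ x - τ' x := fun x => by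
    have := RingHom.congr_fun h1 x
    simp only [RingHom.comp_apply, p1_apply, h0'] at this
    rw [← this]; ring
  refine ⟨{ toFun := fun x => (Φ x).snd, map_zero' := by simp, map_add' := fun x y => by simp },
    fun x => h1' x, fun x y => ?_, fun a => ?_⟩
  · change (Φ (x * y)).snd = τ x • (Φ y).snd + τ' y • (Φ x).snd
    rw [map_mul, snd_mul, h0', h0', h1', sub_smul]
    abel
  · change (Φ (MvPolynomial.C a)).snd = 0
    simp [Φ]

end K694.Cross
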