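import Groth.Agent.DefT.K694.Koszul1
import Mathlib.RingTheory.RingHom.Flat
import Mathlib.RingTheory.Flat.EquationalCriterion
import Mathlib.Algebra.MvPolynomial.Equiv

/-!
# Degree two of the sequence of cotangent complexes of `A → B → C`, in terms of relations
-/

universe u v w t s

noncomputable section

namespace K694.Deg2

open Koszul1

variable {R : Type u} {W : Type v} {G : Type w} [CommRing R] [CommRing W] [CommRing G]
variable (i : R →+* W) (τ : W →+* G)
variable {σ : Type s} {σ' : Type t} (r : σ → R) (wr : σ' ⊕ σ → W) (g : σ' → G)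

/-- linear combination maps -/
local notation "jm" => fun g => Finsupp.linearCombination _ g

variable (hwr : ∀ s, wr (Sum.inr s) = i (r s)) (hwl : ∀ s, τ (wr (Sum.inl s)) = g s)
variable (α : ((σ' ⊕ σ) →₀ W) →ₛₗ[τ] (σ' →₀ G)) (β : (σ →₀ R) →ₛₗ[i] ((σ' ⊕ σ) →₀ W))
variable (hα1 : ∀ s, α (Finsupp.single (Sum.inl s) 1) = Finsupp.single s 1)
  (hα2 : ∀ s, α (Finsupp.single (Sum.inr s) 1) = 0)
  (hβ : ∀ s, β (Finsupp.single s 1) = Finsupp.single (Sum.inr s) 1)

/-- `F' → F' ⊕ F` -/
def inL : (σ' →₀ W) →ₗ[W] ((σ' ⊕ σ) →₀ W) := Finsupp.lmapDomain W W Sum.inl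
/-- `F → F' ⊕ F` -/
def inR : (σ →₀ W) →ₗ[W] ((σ' ⊕ σ) →₀ W) := Finsupp.lmapDomain W W Sum.inr

@[simp] lemma inL_single (s : σ') (x : W) :
    inL (σ := σ) (Finsupp.single s x) = Finsupp.single (Sum.inl s) x := by
  simp [inL]

@[simp] lemma inR_single (s : σ) (x : W) :
    inR (σ' := σ') (Finsupp.single s x) = Finsupp.single (Sum.inr s) x := by
  simp [inR]

lemma exists_split (f : (σ' ⊕ σ) →₀ W) : ∃ f1 f2, f = inL f1 + inR f2 := by
  induction f using Finsupp.induction_linear with
  | zero => exact ⟨0, 0, by simp⟩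
  | add f g hf hg =>
    obtain ⟨f1, f2, rfl⟩ := hf
    obtain ⟨g1, g2, rfl⟩ := hg
    exact ⟨f1 + g1, f2 + g2, by rw [map_add, map_add]; abel⟩
  | single s x =>
    rcases s with s | s
    · exact ⟨Finsupp.single s x, 0, by simp⟩
    · exact ⟨0, Finsupp.single s x, by simp⟩

lemma lc_inL (f : σ' →₀ W) : Finsupp.linearCombination W wr (inL f) =
    Finsupp.linearCombination W (fun s => wr (Sum.inl s)) f := by
  induction f using Finsupp.induction_linear with
  | zero => simp
  | add f g hf hg => rw [map_add, map_add, hf, hg, map_add]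
  | single s x => simp

include hwr in
lemma lc_inR (f : σ →₀ W) : Finsupp.linearCombination W wr (inR f) =
    Finsupp.linearCombination W (fun s => i (r s)) f := by
  induction f using Finsupp.induction_linear with
  | zero => simp
  | add f g hf hg => rw [map_add, map_add, hf, hg, map_add]
  | single s x => simp [hwr]

include hα1 in
lemma α_inL (f : σ' →₀ W) : α (inL f) = Finsupp.mapRange τ (map_zero τ) f := by
  induction f using Finsupp.induction_linear with
  | zero => simp
  | add f g hf hg => rw [map_add, map_add, hf, hg, Finsupp.mapRange_add (map_add τ)]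
  | single s x =>
    rw [inL_single, Finsupp.mapRange_single]
    have : (Finsupp.single (Sum.inl s) x : (σ' ⊕ σ) →₀ W) = x • Finsupp.single (Sum.inl s) 1 := by
      simp
    rw [this, LinearMap.map_smulₛₗ, hα1]
    simp

include hα2 in
lemma α_inR (f : σ →₀ W) : α (inR f) = 0 := by
  induction f using Finsupp.induction_linear with
  | zero => simp
  | add f g hf hg => rw [map_add, map_add, hf, hg, add_zero]
  | single s x =>
    rw [inR_single]
    have : (Finsupp.single (Sum.inr s) x : (σ' ⊕ σ) →₀ W) = x • Finsupp.single (Sum.inr s) 1 := by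
      simp
    rw [this, LinearMap.map_smulₛₗ, hα2, smul_zero]

include hβ in
lemma β_apply (f : σ →₀ R) : β f = inR (Finsupp.mapRange i (map_zero i) f) := by
  induction f using Finsupp.induction_linear with
  | zero => simp
  | add f g hf hg => rw [map_add, hf, hg, Finsupp.mapRange_add (map_add i), map_add]
  | single s x =>
    have : (Finsupp.single s x : σ →₀ R) = x • Finsupp.single s 1 := by simp
    rw [this, LinearMap.map_smulₛₗ, hβ]
    simp

include hwr hwl hα1 hα2 in
lemma lc_α (f : (σ' ⊕ σ) →₀ W) (hτr : ∀ s, τ (i (r s)) = 0) :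
    Finsupp.linearCombination G g (α f) = τ (Finsupp.linearCombination W wr f) := by
  obtain ⟨f1, f2, rfl⟩ := exists_split f
  rw [map_add, map_add, map_add, map_add, α_inR τ α hα2, α_inL τ α hα1, map_zero, add_zero,
    lc_inL, lc_inR i r wr hwr]
  have h1 : τ (Finsupp.linearCombination W (fun s => i (r s)) f2) = 0 := by
    induction f2 using Finsupp.induction_linear with
    | zero => simp
    | add f g hf hg => rw [map_add, map_add, hf, hg, add_zero]
    | single s x => simp [hτr]
  rw [h1, add_zero]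
  induction f1 using Finsupp.induction_linear with
  | zero => simp
  | add f g hf hg => rw [Finsupp.mapRange_add (map_add τ), map_add, map_add, map_add, hf, hg]
  | single s x => simp [hwl]

section

variable (hτ : Function.Surjective τ)
  (hker : ∀ x, τ x = 0 → x ∈ Ideal.span (Set.range fun s => i (r s)))
  (hτr : ∀ s, τ (i (r s)) = 0)

include hker in
lemma exists_of_ker (x : W) (hx : τ x = 0) : ∃ u : σ →₀ W,
    Finsupp.linearCombination W (fun s => i (r s)) u = x := by
  have := hker x hx
  rwa [Ideal.span, ← Finsupp.range_linearCombination] at this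

include hτ hα1 in
lemma α_surjective : Function.Surjective α := by
  intro f
  obtain ⟨f1, hf1⟩ := Finsupp.mapRange_surjective τ (map_zero τ) hτ f
  exact ⟨inL f1, by rw [α_inL τ α hα1, hf1]⟩

include hwr hwl hα1 hα2 hτ hker hτr in
/-- (a) relations lift -/
lemma exists_relation_lift (q' : σ' →₀ G) (hq' : Finsupp.linearCombination G g q' = 0) :
    ∃ q, Finsupp.linearCombination W wr q = 0 ∧ α q = q' := by
  obtain ⟨f, rfl⟩ := α_surjective τ α hα1 hτ q'
  rw [lc_α i τ r wr g hwr hwl α hα1 hα2 f hτr] at hq'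
  obtain ⟨u, hu⟩ := exists_of_ker i τ r hker _ hq'
  refine ⟨f - inR u, ?_, ?_⟩
  · rw [map_sub, lc_inR i r wr hwr, hu, sub_self]
  · rw [map_sub, α_inR τ α hα2, sub_zero]

include hwr hwl hα1 hα2 hτ hτr in
lemma exists_triv_lift (x : σ' →₀ G) (hx : x ∈ Triv g) : ∃ t ∈ Triv wr, α t = x := by
  induction hx using Submodule.span_induction with
  | mem x hx =>
    obtain ⟨a, b, rfl⟩ := hx
    obtain ⟨a, rfl⟩ := α_surjective τ α hα1 hτ a
    obtain ⟨b, rfl⟩ := α_surjective τ α hα1 hτ b
    refine ⟨_, mem_triv wr a b, ?_⟩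
    rw [map_sub, LinearMap.map_smulₛₗ, LinearMap.map_smulₛₗ,
      lc_α i τ r wr g hwr hwl α hα1 hα2 a hτr, lc_α i τ r wr g hwr hwl α hα1 hα2 b hτr]
  | zero => exact ⟨0, Submodule.zero_mem _, map_zero _⟩
  | add x y _ _ hx hy =>
    obtain ⟨t, ht, rfl⟩ := hx
    obtain ⟨t', ht', rfl⟩ := hy
    exact ⟨t + t', Submodule.add_mem _ ht ht', map_add _ _ _⟩
  | smul c x _ hx =>
    obtain ⟨t, ht, rfl⟩ := hx
    obtain ⟨c, rfl⟩ := hτ c
    exact ⟨c • t, Submodule.smul_mem _ _ ht, LinearMap.map_smulₛₗ _ _ _⟩

include hwr hwl hα1 hα2 hβ hτ hker hτr in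
/-- (b) exactness in the middle: a relation `q` of the big presentation whose image is a trivial
relation is, up to trivial relations, a combination of relations coming from the small one -/
theorem exists_decomp (hi : i.Flat) (q : (σ' ⊕ σ) →₀ W) (hq : Finsupp.linearCombination W wr q = 0)
    (hαq : α q ∈ Triv g) :
    ∃ t ∈ Triv wr, ∃ (n : ℕ) (y : Fin n → W) (p : Fin n → (σ →₀ R)),
      (∀ j, Finsupp.linearCombination R r (p j) = 0) ∧ q = t + ∑ j, y j • β (p j) := by
  obtain ⟨t, ht, htq⟩ := exists_triv_lift i τ r wr g hwr hwl α hα1 hα2 hτ hτr _ hαq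
  obtain ⟨f1, f2, hf⟩ := exists_split (q - t)
  have hα0 : Finsupp.mapRange τ (map_zero τ) f1 = 0 := by
    have : α (q - t) = 0 := by rw [map_sub, htq, sub_self]
    rw [hf, map_add, α_inR τ α hα2, add_zero, α_inL τ α hα1] at this
    exact this
  have hu : ∀ s, ∃ u : σ →₀ W, Finsupp.linearCombination W (fun s => i (r s)) u = f1 s := fun s =>
    exists_of_ker i τ r hker _ (by
      have := DFunLike.congr_fun hα0 s
      simpa using this)
  choose u hu using hu
  -- subtract trivial relations
  have h1 : ∃ (t' : (σ' ⊕ σ) →₀ W) (f3 : σ →₀ W), t' ∈ Triv wr ∧ inL f1 = t' + inR f3 := by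
    refine ⟨f1.sum fun s _ => (Finsupp.linearCombination W wr (inR (u s)) • Finsupp.single (Sum.inl s) 1
      - Finsupp.linearCombination W wr (Finsupp.single (Sum.inl s) 1) • inR (u s)),
      f1.sum fun s _ => wr (Sum.inl s) • u s, ?_, ?_⟩
    · exact Submodule.sum_mem _ fun s _ => mem_triv wr _ _
    · rw [Finsupp.sum, Finsupp.sum, map_sum, ← Finset.sum_add_distrib]
      have h2 : ∀ s ∈ f1.support, (Finsupp.linearCombination W wr (inR (u s)) • Finsupp.single (Sum.inl s) 1
          - Finsupp.linearCombination W wr (Finsupp.single (Sum.inl s) 1) • inR (u s)) +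
          inR (wr (Sum.inl s) • u s) = inL (Finsupp.single s (f1 s)) := by
        intro s _
        rw [map_smul, lc_inR i r wr hwr, hu, Finsupp.linearCombination_single, one_smul,
          sub_add_cancel, inL_single, Finsupp.smul_single, smul_eq_mul, mul_one]
      rw [Finset.sum_congr rfl h2, ← map_sum]
      congr 1
      exact (Finsupp.sum_single f1).symm
  obtain ⟨t', f3, ht', hf3⟩ := h1
  have hq2 : q = (t + t') + inR (f3 + f2) := by
    have := hf
    rw [hf3] at this
    rw [map_add, eq_add_of_sub_eq' this]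
    abel
  have hz : Finsupp.linearCombination W (fun s => i (r s)) (f3 + f2) = 0 := by
    rw [← lc_inR (σ' := σ') i r wr hwr]
    have h3 := hq
    rw [hq2, map_add, LinearMap.mem_ker.mp (triv_le_ker wr (Submodule.add_mem _ ht ht')),
      zero_add] at h3
    exact h3
  refine ⟨t + t', Submodule.add_mem _ ht ht', ?_⟩
  generalize f3 + f2 = f at hq2 hz
  -- flatness
  algebraize [i]
  have hflat : Module.Flat R W := hi
  have hz' : ∑ s : f.support, r s • f s = 0 := by
    rw [Finsupp.linearCombination_apply, Finsupp.sum, ← Finset.sum_coe_sort] at hz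
    rw [← hz]
    refine Finset.sum_congr rfl fun s _ => ?_
    rw [Algebra.smul_def, smul_eq_mul, mul_comm]
    rfl
  obtain ⟨n, a, y, hxy, hrel⟩ := Module.Flat.isTrivialRelation_of_sum_smul_eq_zero hz'
  have hq3 : f = ∑ j, y j • Finsupp.mapRange i (map_zero i)
      (∑ s : f.support, Finsupp.single (s : σ) (a s j)) := by
    have h4 : f = ∑ s : f.support, Finsupp.single (s : σ) (f s) := by
      conv_lhs => rw [← Finsupp.sum_single f, Finsupp.sum, ← Finset.sum_coe_sort]
    conv_lhs => rw [h4]
    have h5 : ∀ s : f.support, Finsupp.single (s : σ) (f s) =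
        ∑ j, y j • Finsupp.mapRange i (map_zero i) (Finsupp.single (s : σ) (a s j)) := by
      intro s
      have hxys : f s = ∑ j, a s j • y j := hxy s
      have h6 : Finsupp.single (s : σ) (f s) = Finsupp.single (s : σ) (∑ j, a s j • y j) :=
        congrArg _ hxys
      rw [h6, ← Finsupp.singleAddHom_apply, map_sum]
      refine Finset.sum_congr rfl fun j _ => ?_
      rw [Finsupp.singleAddHom_apply, Finsupp.mapRange_single, Finsupp.smul_single, smul_eq_mul,
        Algebra.smul_def, mul_comm]
      rfl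
    rw [Finset.sum_congr rfl fun s _ => h5 s, Finset.sum_comm]
    refine Finset.sum_congr rfl fun j _ => ?_
    rw [← Finset.smul_sum]
    congr 1
    exact (map_sum (Finsupp.mapRange.addMonoidHom (i : R →+ W))
      (fun s : f.support => Finsupp.single (s : σ) (a s j)) Finset.univ).symm
  refine ⟨n, y, fun j => ∑ s : f.support, Finsupp.single (s : σ) (a s j), fun j => ?_, ?_⟩
  · rw [map_sum, ← hrel j]
    refine Finset.sum_congr rfl fun s _ => ?_
    rw [Finsupp.linearCombination_single, smul_eq_mul, mul_comm]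
  · rw [hq2]
    congr 1
    conv_lhs => rw [hq3]
    rw [map_sum]
    refine Finset.sum_congr rfl fun j _ => ?_
    rw [map_smul, β_apply i β hβ]

end

/-- `rename inr` is flat -/
lemma flat_rename_inr (A : Type u) [CommRing A] (ι : Type v) (ι' : Type w) :
    (MvPolynomial.rename Sum.inr : MvPolynomial ι A →ₐ[A] MvPolynomial (ι' ⊕ ι) A).toRingHom.Flat := by
  have h1 : (MvPolynomial.rename Sum.inr : MvPolynomial ι A →ₐ[A] MvPolynomial (ι' ⊕ ι) A).toRingHom =
      (MvPolynomial.sumAlgEquiv A ι' ι).symm.toRingEquiv.toRingHom.comp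
        (algebraMap (MvPolynomial ι A) (MvPolynomial ι' (MvPolynomial ι A))) := by
    apply RingHom.ext
    intro x
    have h2 := DFunLike.congr_fun (MvPolynomial.sumAlgEquiv_comp_rename_inr (R := A) (S₁ := ι') (S₂ := ι)) x
    change _ = (MvPolynomial.sumAlgEquiv A ι' ι).symm _
    rw [AlgEquiv.eq_symm_apply]
    exact h2
  rw [h1]
  apply RingHom.Flat.comp
  · rw [RingHom.flat_algebraMap_iff]
    infer_instance
  · exact RingHom.Flat.of_bijective (MvPolynomial.sumAlgEquiv A ι' ι).symm.bijective

end K694.Deg2
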