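import Mathlib.RingTheory.Regular.RegularSequence
import Mathlib.LinearAlgebra.Finsupp.LinearCombination
import Mathlib.LinearAlgebra.Finsupp.Supported
import Mathlib.Tactic.Abel

/-!
# Relations between the members of a regular sequence are trivial
-/

universe u v w

noncomputable section

namespace K694.Koszul1

variable {R : Type u} [CommRing R] {σ : Type v} (g : σ → R)

/-- trivial relations -/
def Triv : Submodule R (σ →₀ R) :=
  Submodule.span R {y | ∃ a b : σ →₀ R, y = Finsupp.linearCombination R g a • b -
    Finsupp.linearCombination R g b • a}

lemma mem_triv (a b : σ →₀ R) :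
    Finsupp.linearCombination R g a • b - Finsupp.linearCombination R g b • a ∈ Triv g :=
  Submodule.subset_span ⟨a, b, rfl⟩

lemma triv_le_ker : Triv g ≤ LinearMap.ker (Finsupp.linearCombination R g) := by
  refine Submodule.span_le.mpr ?_
  rintro _ ⟨a, b, rfl⟩
  simp only [SetLike.mem_coe, LinearMap.mem_ker, map_sub, map_smul, smul_eq_mul]
  rw [mul_comm, sub_self]

/-- the relations of a (weakly) regular sequence -/
theorem ker_le_triv_fin {n : ℕ} (g : Fin n → R)
    (hreg : ∀ (i : Fin n) (a : R), a * g i ∈ Ideal.span (g '' {j | j < i}) →
      a ∈ Ideal.span (g '' {j | j < i})) :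
    LinearMap.ker (Finsupp.linearCombination R g) ≤ Triv g := by
  have key : ∀ (m : ℕ) (f : Fin n →₀ R), (∀ i, f i ≠ 0 → (i : ℕ) < m) →
      Finsupp.linearCombination R g f = 0 → f ∈ Triv g := by
    intro m
    induction m with
    | zero =>
      intro f hf _
      have : f = 0 := by
        ext i
        by_contra h
        exact absurd (hf i h) (Nat.not_lt_zero _)
      rw [this]; exact Submodule.zero_mem _
    | succ m ih =>
      intro f hf h0
      by_cases hm : m < n
      swap
      · refine ih f (fun i hi => ?_) h0
        have := i.2; omega
      let i0 : Fin n := ⟨m, hm⟩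
      -- the part supported below `m`
      have hsplit : f = Finsupp.single i0 (f i0) + f.erase i0 := (Finsupp.single_add_erase i0 f).symm
      have hmem : f i0 * g i0 ∈ Ideal.span (g '' {j | j < i0}) := by
        have h1 : f i0 * g i0 = - Finsupp.linearCombination R g (f.erase i0) := by
          rw [eq_neg_iff_add_eq_zero]
          rw [hsplit, map_add, Finsupp.linearCombination_single, smul_eq_mul] at h0
          exact h0
        rw [h1]
        refine Submodule.neg_mem _ ?_
        rw [Finsupp.linearCombination_apply, Finsupp.sum]
        refine Submodule.sum_mem _ fun j hj => ?_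
        rw [smul_eq_mul]
        refine Ideal.mul_mem_left _ _ (Ideal.subset_span ⟨j, ?_, rfl⟩)
        rw [Finsupp.support_erase, Finset.mem_erase, Finsupp.mem_support_iff] at hj
        have h2 := hf j hj.2
        change j < i0
        rw [Fin.lt_def]
        have h3 : (j : ℕ) ≠ m := fun h => hj.1 (Fin.ext h)
        change (j : ℕ) < m
        omega
      have hc := hreg i0 (f i0) hmem
      -- write the coefficient as a combination of the previous elements
      have : ∃ d : Fin n →₀ R, (∀ i, d i ≠ 0 → (i : ℕ) < m) ∧
          Finsupp.linearCombination R g d = f i0 := by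
        rw [Ideal.span, Finsupp.mem_span_image_iff_linearCombination] at hc
        obtain ⟨d, hd, hd'⟩ := hc
        refine ⟨d, fun i hi => ?_, hd'⟩
        have := hd (Finsupp.mem_support_iff.mpr hi)
        exact this
      obtain ⟨d, hd, hd'⟩ := this
      have hdi0 : d i0 = 0 := by
        by_contra h
        exact absurd (hd i0 h) (lt_irrefl m)
      have h5 := mem_triv g d (Finsupp.single i0 1)
      rw [Finsupp.linearCombination_single, one_smul, hd'] at h5
      have h6 : f - (f i0 • Finsupp.single i0 1 - g i0 • d) ∈ Triv g := by
        apply ih
        · intro i hi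
          by_contra hlt
          apply hi
          by_cases hii : i = i0
          · subst hii
            simp [hdi0]
          · have h7 : d i = 0 := by
              by_contra h; exact hlt (hd i h)
            have h8 : f i = 0 := by
              by_contra h
              have := hf i h
              exact hii (Fin.ext (by change (i : ℕ) = m; omega))
            simp [h7, h8, Ne.symm hii]
        · rw [map_sub, map_sub, map_smul, map_smul, Finsupp.linearCombination_single, one_smul, hd',
            h0, smul_eq_mul, smul_eq_mul, mul_comm, sub_self, sub_zero]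
      have h9 := Submodule.add_mem _ h6 h5
      rwa [sub_add_cancel] at h9
  intro f hf
  exact key n f (fun i _ => i.2) hf

/-- the relations of a weakly regular sequence given as a list -/
theorem ker_le_triv_list (rs : List R) (h : RingTheory.Sequence.IsWeaklyRegular R rs) :
    LinearMap.ker (Finsupp.linearCombination R (fun i : Fin rs.length => rs[i])) ≤
      Triv (fun i : Fin rs.length => rs[i]) := by
  apply ker_le_triv_fin
  intro i a ha
  rw [RingTheory.Sequence.isWeaklyRegular_iff_Fin] at h
  have hi := h i
  have hspan : Ideal.span ((fun j : Fin rs.length => rs[j]) '' {j | j < i}) =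
      Ideal.ofList (rs.take i) := by
    rw [Ideal.ofList]
    congr 1
    ext x
    simp only [Set.mem_image, Set.mem_ofPred_eq]
    constructor
    · rintro ⟨j, hj, rfl⟩
      rw [List.mem_take_iff_getElem]
      exact ⟨j, by simp only [lt_min_iff]; exact ⟨hj, j.2⟩, rfl⟩
    · intro hx
      rw [List.mem_take_iff_getElem] at hx
      obtain ⟨j, hj, rfl⟩ := hx
      simp only [lt_min_iff] at hj
      exact ⟨⟨j, hj.2⟩, hj.1, rfl⟩
  rw [hspan] at ha ⊢
  have h1 : (Submodule.Quotient.mk a : R ⧸ (Ideal.ofList (rs.take i) • ⊤ : Submodule R R)) = 0 := by
    apply hi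
    change rs[i] • _ = rs[i] • _
    rw [smul_zero, ← Submodule.Quotient.mk_smul, Submodule.Quotient.mk_eq_zero,
      Ideal.smul_eq_mul, Ideal.mul_top, smul_eq_mul, mul_comm]
    exact ha
  rw [Submodule.Quotient.mk_eq_zero, Ideal.smul_eq_mul, Ideal.mul_top] at h1
  exact h1

end K694.Koszul1
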