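import Groth.Agent.DefT.K694.RelHom
import Groth.Agent.DefT.K694.Koszul1

/-!
# `T²` of quotients `A → B`: presentation without variables
-/

universe u v w t u' v' w' t' m m'

open TensorProduct

noncomputable section

namespace K694.Quot

open CotT K694.Basic K694.Hat

variable {A : Type u} {B : Type v} {σ : Type t}
variable [CommRing A] [CommRing B] [Algebra A B]

lemma trivRel_eq_triv {ι : Type w} (P : Algebra.Presentation A B ι σ) :
    trivRel P = Koszul1.Triv (rel P) := rfl

lemma relKer_eq_ker {ι : Type w} (P : Algebra.Presentation A B ι σ) :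
    relKer P = LinearMap.ker (Finsupp.linearCombination P.toExtension.Ring (rel P)) := rfl

/-- the presentation of a quotient without variables -/
def presQuot (hs : Function.Surjective (algebraMap A B)) (g : σ → A)
    (hg : Ideal.span (Set.range g) = RingHom.ker (algebraMap A B)) :
    Algebra.Presentation A B PEmpty.{w + 1} σ :=
  Pres.presOf (MvPolynomial.aeval PEmpty.elim)
    (fun b => by
      obtain ⟨a, rfl⟩ := hs b
      exact ⟨MvPolynomial.C a, MvPolynomial.aeval_C _ _⟩)
    (fun s => MvPolynomial.C (g s))
    (by
      have h1 : Ideal.span (Set.range fun s => (MvPolynomial.C (g s) : MvPolynomial PEmpty.{w + 1} A)) =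
          Ideal.map MvPolynomial.C (Ideal.span (Set.range g)) := by
        rw [Ideal.map_span, ← Set.range_comp]
        rfl
      rw [h1, hg]
      ext x
      obtain ⟨a, rfl⟩ : ∃ a, MvPolynomial.C a = x :=
        ⟨MvPolynomial.isEmptyRingEquiv A PEmpty x,
          (MvPolynomial.isEmptyRingEquiv A PEmpty).symm_apply_apply x⟩
      have h2 : (MvPolynomial.C a : MvPolynomial PEmpty.{w + 1} A) ∈
          Ideal.map MvPolynomial.C (RingHom.ker (algebraMap A B)) ↔ a ∈ RingHom.ker (algebraMap A B) := by
        constructor
        · intro h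
          have h3 := Ideal.mem_map_of_mem (MvPolynomial.isEmptyRingEquiv A PEmpty.{w + 1}).toRingHom h
          rw [Ideal.map_map] at h3
          have h4 : (MvPolynomial.isEmptyRingEquiv A PEmpty.{w + 1}).toRingHom.comp MvPolynomial.C =
              RingHom.id A := by
            ext a
            exact (MvPolynomial.isEmptyRingEquiv A PEmpty.{w + 1}).apply_symm_apply a
          rw [h4, Ideal.map_id] at h3
          have h5 : (MvPolynomial.isEmptyRingEquiv A PEmpty.{w + 1}).toRingHom (MvPolynomial.C a) = a :=
            RingHom.congr_fun h4 a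
          rwa [h5] at h3
        · exact fun h => Ideal.mem_map_of_mem _ h
      rw [h2, RingHom.mem_ker, RingHom.mem_ker]
      change _ ↔ MvPolynomial.aeval _ (MvPolynomial.C a) = 0
      rw [MvPolynomial.aeval_C])

/-- If the relations between generators `g` of the kernel of the surjection `A → B` are all trivial,
then `T²(B/A, M) = 0`. -/
theorem subsingleton_T2 (hs : Function.Surjective (algebraMap A B)) (g : σ → A)
    (hg : Ideal.span (Set.range g) = RingHom.ker (algebraMap A B))
    (htriv : LinearMap.ker (Finsupp.linearCombination A g) ≤ Koszul1.Triv g)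
    {ι' : Type w'} {σ' : Type t'} (P' : Algebra.Presentation A B ι' σ')
    (M : Type m) [AddCommGroup M] [Module B M] : Subsingleton (T2 P' M) := by
  let P := presQuot.{u, v, 0} hs g hg
  let e : A ≃+* P.toExtension.Ring := (MvPolynomial.isEmptyRingEquiv A PEmpty.{1}).symm
  have he : ∀ a, e a = MvPolynomial.C a := fun a => rfl
  have hrel : ∀ s, rel P s = e (g s) := fun s => rfl
  suffices Subsingleton (T2 P M) from Pres.subsingleton_T2_transfer P P' M
  apply Pres.subsingleton_T2_of_le
  intro f hf
  -- transport along `e`
  have hlin : ∀ f : σ →₀ A, Finsupp.linearCombination P.toExtension.Ring (rel P)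
      (Finsupp.mapRange e (map_zero e) f) = e (Finsupp.linearCombination A g f) := by
    intro f
    induction f using Finsupp.induction_linear with
    | zero => simp
    | add f g hf hg =>
      rw [Finsupp.mapRange_add (map_add e), map_add, hf, hg, map_add, map_add]
    | single s r =>
      rw [Finsupp.mapRange_single, Finsupp.linearCombination_single,
        Finsupp.linearCombination_single, smul_eq_mul, smul_eq_mul, map_mul, hrel]
  obtain ⟨f', rfl⟩ : ∃ f' : σ →₀ A, Finsupp.mapRange e (map_zero e) f' = f := by
    refine ⟨Finsupp.mapRange e.symm (map_zero e.symm) f, ?_⟩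
    ext s
    simp
  have hf' : f' ∈ LinearMap.ker (Finsupp.linearCombination A g) := by
    rw [LinearMap.mem_ker]
    apply e.injective
    rw [← hlin, map_zero]
    exact hf
  have h1 := htriv hf'
  rw [trivRel_eq_triv]
  clear hf hf'
  induction h1 using Submodule.span_induction with
  | mem x hx =>
    obtain ⟨a, b, rfl⟩ := hx
    have h2 := Koszul1.mem_triv (rel P) (Finsupp.mapRange e (map_zero e) a)
      (Finsupp.mapRange e (map_zero e) b)
    rw [hlin, hlin] at h2
    convert h2 using 1
    ext s
    simp
  | zero => simp
  | add x y _ _ hx hy =>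
    rw [Finsupp.mapRange_add (map_add e)]
    exact Submodule.add_mem _ hx hy
  | smul r x _ hx =>
    have : Finsupp.mapRange e (map_zero e) (r • x) = e r • Finsupp.mapRange e (map_zero e) x := by
      ext s
      simp
    rw [this]
    exact Submodule.smul_mem _ _ hx

/-- S12288 -/
theorem subsingleton_T2_regular (hs : Function.Surjective (algebraMap A B)) (rs : List A)
    (hreg : RingTheory.Sequence.IsWeaklyRegular A rs)
    (hI : RingHom.ker (algebraMap A B) = Ideal.ofList rs)
    {ι' : Type w'} {σ' : Type t'} (P' : Algebra.Presentation A B ι' σ')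
    (M : Type m) [AddCommGroup M] [Module B M] : Subsingleton (T2 P' M) := by
  refine subsingleton_T2 hs (fun i : Fin rs.length => rs[i]) ?_
    (Koszul1.ker_le_triv_list rs hreg) P' M
  rw [hI, Ideal.ofList]
  congr 1
  ext x
  simp only [Set.mem_range, Set.mem_ofPred_eq]
  exact ⟨by rintro ⟨i, rfl⟩; exact List.getElem_mem _, fun h => by
    obtain ⟨i, hi, rfl⟩ := List.getElem_of_mem h
    exact ⟨⟨i, hi⟩, rfl⟩⟩

end K694.Quot
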