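import Groth.Agent.DefT.K694.Koszul1
import Mathlib.RingTheory.Localization.BaseChange
import Mathlib.RingTheory.Localization.AtPrime.Basic

/-!
# Trivial relations: comparison of generating families and localization
-/

universe u v w t

noncomputable section

namespace K694.TrivLoc

open Koszul1

section H

variable {S : Type u} [CommRing S] {σ : Type v} {σ' : Type w} {g : σ → S} {g' : σ' → S}

lemma exists_map (hI : Ideal.span (Set.range g) ≤ Ideal.span (Set.range g')) :
    ∃ α : (σ →₀ S) →ₗ[S] (σ' →₀ S), ∀ f, Finsupp.linearCombination S g' (α f) =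
      Finsupp.linearCombination S g f := by
  have h : ∀ s, ∃ x : σ' →₀ S, Finsupp.linearCombination S g' x = g s := by
    intro s
    have h1 : g s ∈ Ideal.span (Set.range g') := hI (Ideal.subset_span ⟨s, rfl⟩)
    rw [Ideal.span, ← Finsupp.range_linearCombination] at h1
    exact h1
  choose c hc using h
  refine ⟨Finsupp.linearCombination S c, fun f => ?_⟩
  rw [Finsupp.linearCombination_linearCombination]
  congr 2
  exact funext hc

lemma map_triv (α : (σ →₀ S) →ₗ[S] (σ' →₀ S)) (hα : ∀ f, Finsupp.linearCombination S g' (α f) =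
      Finsupp.linearCombination S g f) {x : σ →₀ S} (hx : x ∈ Triv g) : α x ∈ Triv g' := by
  induction hx using Submodule.span_induction with
  | mem x hx =>
    obtain ⟨a, b, rfl⟩ := hx
    rw [map_sub, map_smul, map_smul, ← hα, ← hα]
    exact mem_triv g' _ _
  | zero => rw [map_zero]; exact Submodule.zero_mem _
  | add x y _ _ hx hy => rw [map_add]; exact Submodule.add_mem _ hx hy
  | smul r x _ hx => rw [map_smul]; exact Submodule.smul_mem _ _ hx

lemma smul_mem {i : S} (hi : i ∈ Ideal.span (Set.range g)) {q : σ →₀ S}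
    (hq : Finsupp.linearCombination S g q = 0) : i • q ∈ Triv g := by
  rw [Ideal.span, ← Finsupp.range_linearCombination] at hi
  obtain ⟨a, rfl⟩ := hi
  have := mem_triv g a q
  rwa [hq, zero_smul, sub_zero] at this

/-- If the relations between the generators `g'` of the ideal are trivial, then the relations between
other generators `g` with coefficients in the ideal are trivial. -/
theorem H (hI : Ideal.span (Set.range g) = Ideal.span (Set.range g'))
    (htriv : LinearMap.ker (Finsupp.linearCombination S g') ≤ Triv g')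
    (q : σ →₀ S) (hq : Finsupp.linearCombination S g q = 0)
    (hqI : ∀ s, q s ∈ Ideal.span (Set.range g)) : q ∈ Triv g := by
  obtain ⟨α, hα⟩ := exists_map (g := g) (g' := g') hI.le
  obtain ⟨β, hβ⟩ := exists_map (g := g') (g' := g) hI.ge
  have h1 : β (α q) ∈ Triv g := by
    apply map_triv β hβ
    apply htriv
    rw [LinearMap.mem_ker, hα, hq]
  have h2 : q - β (α q) ∈ Triv g := by
    have h3 : q - β (α q) = q.sum fun s c => c • (Finsupp.single s 1 - β (α (Finsupp.single s 1))) := by
      let θ : (σ →₀ S) →ₗ[S] (σ →₀ S) := LinearMap.id - β ∘ₗ α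
      have h4 : θ q = θ (q.sum fun s c => c • Finsupp.single s 1) := by
        congr 1
        conv_lhs => rw [← Finsupp.sum_single q]
        refine Finsupp.sum_congr fun s _ => ?_
        rw [Finsupp.smul_single, smul_eq_mul, mul_one]
      rw [map_finsuppSum] at h4
      rw [show q - β (α q) = θ q from rfl, h4]
      refine Finsupp.sum_congr fun s _ => ?_
      rw [map_smul]
      rfl
    rw [h3]
    refine Submodule.sum_mem _ fun s _ => ?_
    apply smul_mem (hqI s)
    rw [map_sub, hβ, hα, sub_self]
  have := Submodule.add_mem _ h2 h1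
  rwa [sub_add_cancel] at this

end H

section Loc

variable {A : Type u} [CommRing A] (W : Submonoid A) {S : Type v} [CommRing S] [Algebra A S]
variable [IsLocalization W S] {σ : Type w} (g : σ → A)

/-- the image of a finitely supported function in the localization -/
def im (q : σ →₀ A) : σ →₀ S := Finsupp.mapRange (algebraMap A S) (map_zero _) q

@[simp] lemma im_apply (q : σ →₀ A) (s : σ) : (im q : σ →₀ S) s = algebraMap A S (q s) := rfl

omit [CommRing S] [Algebra A S] in
lemma im_add [CommRing S] [Algebra A S] (q q' : σ →₀ A) : (im (q + q') : σ →₀ S) = im q + im q' := by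
  ext s; simp

lemma im_smul (a : A) (q : σ →₀ A) : (im (a • q) : σ →₀ S) = algebraMap A S a • im q := by
  ext s
  rw [im_apply, Finsupp.smul_apply, Finsupp.smul_apply, im_apply, smul_eq_mul, smul_eq_mul, map_mul]

lemma im_sub (q q' : σ →₀ A) : (im (q - q') : σ →₀ S) = im q - im q' := by
  ext s; simp

lemma lc_im (q : σ →₀ A) : Finsupp.linearCombination S (fun s => algebraMap A S (g s)) (im q) =
    algebraMap A S (Finsupp.linearCombination A g q) := by
  induction q using Finsupp.induction_linear with
  | zero => simp [im]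
  | add q q' h h' => rw [im_add, map_add, h, h', map_add, map_add]
  | single s a =>
    rw [im, Finsupp.mapRange_single, Finsupp.linearCombination_single,
      Finsupp.linearCombination_single, smul_eq_mul, smul_eq_mul, map_mul]

include W in
lemma exists_im (y : σ →₀ S) : ∃ w ∈ W, ∃ q : σ →₀ A, algebraMap A S w • y = im q := by
  induction y using Finsupp.induction_linear with
  | zero => exact ⟨1, W.one_mem, 0, by simp [im]⟩
  | add y y' h h' =>
    obtain ⟨w, hw, q, hq⟩ := h
    obtain ⟨w', hw', q', hq'⟩ := h'
    refine ⟨w * w', W.mul_mem hw hw', w' • q + w • q', ?_⟩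
    rw [im_add, im_smul, im_smul, ← hq, ← hq', map_mul, smul_add, smul_smul, smul_smul, mul_comm]
  | single s a =>
    obtain ⟨⟨a, w⟩, h⟩ := IsLocalization.surj W a
    refine ⟨w, w.2, Finsupp.single s a, ?_⟩
    rw [Finsupp.smul_single, smul_eq_mul, im, Finsupp.mapRange_single, mul_comm]
    congr 1

include W in
lemma exists_smul_eq_zero {q : σ →₀ A} (h : (im q : σ →₀ S) = 0) : ∃ w ∈ W, w • q = 0 := by
  classical
  have h1 : ∀ s, ∃ w ∈ W, w * q s = 0 := by
    intro s
    have h2 : algebraMap A S (q s) = 0 := DFunLike.congr_fun h s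
    rw [IsLocalization.map_eq_zero_iff W S] at h2
    obtain ⟨w, hw⟩ := h2
    exact ⟨w, w.2, hw⟩
  choose w hw hw' using h1
  refine ⟨∏ s ∈ q.support, w s, Submonoid.prod_mem _ fun s _ => hw s, ?_⟩
  ext s
  rw [Finsupp.smul_apply, smul_eq_mul, Finsupp.zero_apply]
  by_cases hs : s ∈ q.support
  · rw [← Finset.prod_erase_mul _ _ hs, mul_assoc, hw', mul_zero]
  · rw [Finsupp.notMem_support_iff.mp hs, mul_zero]

/-- clearing denominators in a trivial relation -/
lemma exists_of_mem_triv {y : σ →₀ S} (hy : y ∈ Triv (fun s => algebraMap A S (g s))) :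
    ∃ w ∈ W, ∃ t ∈ Triv g, algebraMap A S w • y = im t := by
  induction hy using Submodule.span_induction with
  | mem y hy =>
    obtain ⟨a, b, rfl⟩ := hy
    obtain ⟨w, hw, a', ha⟩ := exists_im W a
    obtain ⟨w', hw', b', hb⟩ := exists_im W b
    refine ⟨w * w', W.mul_mem hw hw', _, mem_triv g a' b', ?_⟩
    rw [im_sub, im_smul, im_smul, ← lc_im, ← lc_im, ← ha, ← hb, map_smul, map_smul, map_mul, smul_sub,
      smul_smul, smul_smul, smul_smul, smul_smul, smul_eq_mul, smul_eq_mul]
    congr 2 <;> ring
  | zero => exact ⟨1, W.one_mem, 0, Submodule.zero_mem _, by simp [im]⟩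
  | add y y' _ _ h h' =>
    obtain ⟨w, hw, q, hqt, hq⟩ := h
    obtain ⟨w', hw', q', hqt', hq'⟩ := h'
    refine ⟨w * w', W.mul_mem hw hw', w' • q + w • q', Submodule.add_mem _ (Submodule.smul_mem _ _ hqt)
      (Submodule.smul_mem _ _ hqt'), ?_⟩
    rw [im_add, im_smul, im_smul, ← hq, ← hq', map_mul, smul_add, smul_smul, smul_smul, mul_comm]
  | smul r y _ h =>
    obtain ⟨w, hw, q, hqt, hq⟩ := h
    obtain ⟨⟨a, w'⟩, h'⟩ := IsLocalization.surj W r
    refine ⟨w * w', W.mul_mem hw w'.2, a • q, Submodule.smul_mem _ _ hqt, ?_⟩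
    rw [im_smul, ← hq, ← h', map_mul, smul_smul, smul_smul]
    congr 1
    ring

/-- a relation which becomes trivial in the localization is trivial after multiplication by a
denominator -/
lemma exists_smul_mem_triv {q : σ →₀ A} (h : (im q : σ →₀ S) ∈ Triv (fun s => algebraMap A S (g s))) :
    ∃ w ∈ W, w • q ∈ Triv g := by
  obtain ⟨w, hw, t, ht, hwt⟩ := exists_of_mem_triv W g h
  have h1 : (im (w • q - t) : σ →₀ S) = 0 := by rw [im_sub, im_smul, hwt, sub_self]
  obtain ⟨w', hw', h2⟩ := exists_smul_eq_zero W h1
  refine ⟨w' * w, W.mul_mem hw' hw, ?_⟩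
  rw [smul_sub, sub_eq_zero, smul_smul] at h2
  rw [h2]
  exact Submodule.smul_mem _ _ ht

end Loc

section Local

variable {A : Type u} [CommRing A] {σ : Type w} (g : σ → A)

/-- local check at the maximal ideals -/
lemma mem_triv_of_maximal {q : σ →₀ A} (h : ∀ m : Ideal A, m.IsMaximal → ∃ w, w ∉ m ∧ w • q ∈ Triv g) :
    q ∈ Triv g := by
  let J : Ideal A := (Triv g).colon {q}
  by_cases hJ : J = ⊤
  · have : (1 : A) ∈ J := by rw [hJ]; trivial
    rw [Submodule.mem_colon_singleton, one_smul] at this
    exact this
  · obtain ⟨m, hm, hle⟩ := Ideal.exists_le_maximal J hJ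
    obtain ⟨w, hw, hwq⟩ := h m hm
    exact absurd (hle (Submodule.mem_colon_singleton.mpr hwq)) hw

/-- Relations with coefficients in the ideal are trivial if at every maximal ideal containing the ideal,
the ideal is generated by a family with trivial relations. -/
theorem mem_triv_of_local {q : σ →₀ A} (hq : Finsupp.linearCombination A g q = 0)
    (hqI : ∀ s, q s ∈ Ideal.span (Set.range g))
    (h : ∀ (m : Ideal A) [m.IsMaximal], Ideal.span (Set.range g) ≤ m →
      ∃ (σ' : Type t) (g' : σ' → Localization.AtPrime m),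
        Ideal.span (Set.range g') = (Ideal.span (Set.range g)).map (algebraMap A (Localization.AtPrime m)) ∧
        LinearMap.ker (Finsupp.linearCombination (Localization.AtPrime m) g') ≤ Triv g') :
    q ∈ Triv g := by
  apply mem_triv_of_maximal
  intro m hm
  by_cases hle : Ideal.span (Set.range g) ≤ m
  · obtain ⟨σ', g', h1, h2⟩ := h m hle
    have hspan : Ideal.span (Set.range fun s => algebraMap A (Localization.AtPrime m) (g s)) =
        Ideal.span (Set.range g') := by
      rw [h1, Ideal.map_span, ← Set.range_comp]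
      rfl
    have h3 : (im q : σ →₀ Localization.AtPrime m) ∈
        Triv (fun s => algebraMap A (Localization.AtPrime m) (g s)) := by
      refine H hspan h2 _ ?_ ?_
      · rw [lc_im, hq, map_zero]
      · intro s
        rw [hspan, h1]
        exact Ideal.mem_map_of_mem _ (hqI s)
    obtain ⟨w, hw, hwq⟩ := exists_smul_mem_triv m.primeCompl g h3
    exact ⟨w, hw, hwq⟩
  · obtain ⟨w, hw, hwm⟩ := SetLike.not_le_iff_exists.mp hle
    exact ⟨w, hwm, smul_mem hw hq⟩

end Local

end K694.TrivLoc
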