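import Groth.Agent.DefT.K694.Smooth1
import Groth.Agent.DefT.K694.TrivLoc
import Groth.Agent.DefT.K694.Quot
import Groth.Agent.Flat2H.RegularLCI

/-!
# Vanishing of `T²` for presentations between regular rings
-/

universe u v w t u' v' w' t' m m'

open TensorProduct

noncomputable section

namespace K694.SmoothVan

open CotT K694.Basic K694.Hat

/-- in a regular ring, the ideal of a regular quotient has, at each maximal ideal containing it, generators
with only trivial relations -/
lemma exists_local_generators {R : Type u} {B : Type v} [CommRing R] [CommRing B] [IsRegularRing R]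
    [IsRegularRing B] (φ : R →+* B) (hφ : Function.Surjective φ) (m : Ideal R) [m.IsPrime]
    (hm : RingHom.ker φ ≤ m) :
    ∃ (n : ℕ) (g' : Fin n → Localization.AtPrime m),
      Ideal.span (Set.range g') = (RingHom.ker φ).map (algebraMap R (Localization.AtPrime m)) ∧
      LinearMap.ker (Finsupp.linearCombination (Localization.AtPrime m) g') ≤ Koszul1.Triv g' := by
  have hq : (m.map φ).IsPrime := Ideal.map_isPrime_of_surjective hφ hm
  have hpq : (m.map φ).comap φ = m := by
    rw [Ideal.comap_map_of_surjective' φ hφ]
    exact sup_eq_left.2 hm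
  have key : ∀ (n : Ideal R) [n.IsPrime], n = (m.map φ).comap φ →
      ∃ rs : List (Localization.AtPrime n), RingTheory.Sequence.IsWeaklyRegular (Localization.AtPrime n) rs ∧
        (RingHom.ker φ).map (algebraMap R (Localization.AtPrime n)) = Ideal.ofList rs := by
    rintro n _ rfl
    have h1 := Groth.Agent.Flat2H.RegularLCI.isRegularLocalRing_quotient φ hφ (m.map φ)
    exact Groth.Agent.Flat2H.RegularLCI.exists_weaklyRegular_generators _ _
  obtain ⟨rs, h1, h2⟩ := key m hpq.symm
  refine ⟨rs.length, fun i => rs[i], ?_, Koszul1.ker_le_triv_list rs h1⟩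
  rw [h2, Ideal.ofList]
  congr 1
  ext x
  simp only [Set.mem_range, Set.mem_ofPred_eq]
  exact ⟨by rintro ⟨i, rfl⟩; exact List.getElem_mem _, fun h => by
    obtain ⟨i, hi, rfl⟩ := List.getElem_of_mem h
    exact ⟨⟨i, hi⟩, rfl⟩⟩

variable {A : Type u} {B : Type v} {ι : Type w} {σ : Type t}
variable [CommRing A] [CommRing B] [Algebra A B]
variable (P : Algebra.Presentation A B ι σ)

lemma injective_d2_of_regular [IsRegularRing P.toExtension.Ring] [IsRegularRing B] :
    Function.Injective (d2 P) := by
  rw [Smooth1.injective_d2_iff]
  intro q hq hs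
  have hI : Ideal.span (Set.range (rel P)) = RingHom.ker (algebraMap P.toExtension.Ring B) :=
    P.span_range_relation_eq_ker
  refine TrivLoc.mem_triv_of_local (rel P) hq (fun s => ?_) ?_
  · rw [hI]
    exact hs s
  · intro m _ hle
    rw [hI] at hle ⊢
    obtain ⟨n, g', h1, h2⟩ := exists_local_generators (algebraMap P.toExtension.Ring B)
      (algebraMap_surj P) m hle
    exact ⟨Fin n, g', h1, h2⟩

/-- `T¹` and `T²` vanish for a smooth algebra, if it has a presentation with polynomial ring and quotient
regular -/
theorem subsingleton_T2_of_regular [IsRegularRing P.toExtension.Ring] [IsRegularRing B]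
    [Module.Projective B P.toExtension.Cotangent] (M : Type m) [AddCommGroup M] [Module B M] :
    Subsingleton (T2 P M) :=
  Smooth1.subsingleton_T2_of_injective P (injective_d2_of_regular P) M

/-- presentation of an algebra of finite type with finitely many variables -/
lemma exists_finite_pres (A : Type u) (B : Type v) [CommRing A] [CommRing B] [Algebra A B]
    [h : Algebra.FiniteType A B] :
    ∃ (n : ℕ) (σ : Type u), Nonempty (Algebra.Presentation A B (Fin n) σ) := by
  obtain ⟨n, f, hf⟩ := Algebra.FiniteType.iff_quotient_mvPolynomial''.1 h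
  refine ⟨n, RingHom.ker f.toRingHom, ⟨Pres.presOf f hf Subtype.val ?_⟩⟩
  refine le_antisymm (Ideal.span_le.mpr ?_) fun x hx => Ideal.subset_span ⟨⟨x, hx⟩, rfl⟩
  rintro _ ⟨r, rfl⟩
  exact r.2

/-- `T²` of a smooth algebra of finite type over a regular ring (e.g. a field) which is a regular ring -/
theorem subsingleton_T2_of_formallySmooth [IsRegularRing A] [Algebra.FiniteType A B] [IsRegularRing B]
    [Algebra.FormallySmooth A B] (P : Algebra.Presentation A B ι σ) (M : Type m) [AddCommGroup M]
    [Module B M] : Subsingleton (T2 P M) := by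
  obtain ⟨n, σ', ⟨P'⟩⟩ := exists_finite_pres A B
  have : IsRegularRing P'.toExtension.Ring :=
    inferInstanceAs (IsRegularRing (MvPolynomial (Fin n) A))
  have := Smooth1.projective_cotangent P'
  have := subsingleton_T2_of_regular P' M
  exact Pres.subsingleton_T2_transfer P' P M

end K694.SmoothVan
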