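import Groth.Agent.DefT.K694.NineCanon

/-!
# Vanishing of `T²` in towers
-/

universe u₁ u₂ u₃ w₁ w₂ w₃ w₄ w₅ w₆ m

open TensorProduct

noncomputable section

namespace K694.Tower

open CotT K694.Basic K694.Hat K694.Hom K694.Comp

variable {A : Type u₁} {B : Type u₂} {C : Type u₃} [CommRing A] [CommRing B] [CommRing C]
variable [Algebra A B] [Algebra B C] [Algebra A C] [IsScalarTower A B C]
variable {ι : Type w₁} {σ : Type w₂} {ι' : Type w₃} {σ' : Type w₄} {ι'' : Type w₅} {σ'' : Type w₆}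
variable (P : Algebra.Presentation A B ι σ) (Q : Algebra.Presentation B C ι' σ')
  (W : Algebra.Presentation A C ι'' σ'')
variable (M : Type m) [AddCommGroup M] [Module C M] [Module B M] [IsScalarTower B C M]

theorem subsingleton_T2 (h1 : Subsingleton (T2 P M)) (h2 : Subsingleton (T2 Q M)) :
    Subsingleton (T2 W M) := by
  obtain ⟨g1⟩ := nonempty_presHom P W
  obtain ⟨g2⟩ := nonempty_presHom W Q
  obtain ⟨-, -, -, h, -⟩ := NineCanon.nine P Q W g1 g2 M
  refine subsingleton_of_forall_eq 0 fun x => ?_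
  obtain ⟨y, rfl⟩ := (h x).mp (Subsingleton.elim _ _)
  rw [Subsingleton.elim y 0, map_zero]

theorem subsingleton_T1 (h1 : Subsingleton (T1 P M)) (h2 : Subsingleton (T1 Q M)) :
    Subsingleton (T1 W M) := by
  obtain ⟨g1⟩ := nonempty_presHom P W
  obtain ⟨g2⟩ := nonempty_presHom W Q
  obtain ⟨-, -, h, -, -⟩ := NineCanon.nine P Q W g1 g2 M
  refine subsingleton_of_forall_eq 0 fun x => ?_
  obtain ⟨y, rfl⟩ := (h x).mp (Subsingleton.elim _ _)
  rw [Subsingleton.elim y 0, map_zero]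

/-- `T¹(B/A, M) = 0` and `T²(C/A, M) = 0` imply `T²(C/B, M) = 0` -/
theorem subsingleton_T2_upper (h1 : Subsingleton (T1 P M)) (h2 : Subsingleton (T2 W M)) :
    Subsingleton (T2 Q M) := by
  obtain ⟨g1⟩ := nonempty_presHom P W
  obtain ⟨g2⟩ := nonempty_presHom W Q
  obtain ⟨-, -, -, -, δ₀, δ₁, -, -, -, h⟩ := NineCanon.nine P Q W g1 g2 M
  refine subsingleton_of_forall_eq 0 fun x => ?_
  obtain ⟨y, rfl⟩ := (h x).mp (Subsingleton.elim _ _)
  rw [Subsingleton.elim y 0, map_zero]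

end K694.Tower
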