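import Groth.Agent.DefT.K694.LocVan
import Groth.Agent.DefT.K694.Tower
import Groth.Agent.DefT.K694.SmoothVan
import Mathlib.RingTheory.RegularLocalRing.Polynomial

/-!
# `T²` of regular local rings essentially of finite type over a field
-/

universe u v w t u' v' w' t' m m'

open TensorProduct

noncomputable section

namespace K694.EssVan

open CotT K694.Basic K694.Hat

/-- `T¹` and `T²` over `k` of a localization of a polynomial ring vanish -/
theorem locPoly {k : Type u} {R : Type v} {S : Type w} [CommRing k] [CommRing R] [CommRing S]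
    [Algebra k R] [Algebra R S] [Algebra k S] [IsScalarTower k R S] {κ : Type t}
    (e : MvPolynomial κ k ≃ₐ[k] R) (W : Submonoid R) [IsLocalization W S]
    {ι : Type u'} {σ : Type v'} (P : Algebra.Presentation k S ι σ) (M : Type m) [AddCommGroup M]
    [Module S M] : Subsingleton (T1 P M) ∧ Subsingleton (T2 P M) := by
  let _ : Module R M := Module.compHom M (algebraMap R S)
  have : IsScalarTower R S M := IsScalarTower.of_compHom R S M
  have h1 := Pres.poly e (canon k R) M
  have h2 := LocVan.subsingleton W (canon R S) M
  exact ⟨Tower.subsingleton_T1 (canon k R) (canon R S) P M h1.1 h2.1,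
    Tower.subsingleton_T2 (canon k R) (canon R S) P M h1.2 h2.2⟩

variable {k : Type u} {B : Type v} [Field k] [CommRing B] [Algebra k B] [Algebra.FiniteType k B]

theorem subsingleton_T2 (q : Ideal B) [q.IsPrime] (hreg : IsRegularLocalRing (Localization.AtPrime q))
    {ι : Type u'} {σ : Type v'} (Q : Algebra.Presentation k (Localization.AtPrime q) ι σ)
    (N : Type m) [AddCommGroup N] [Module (Localization.AtPrime q) N] : Subsingleton (T2 Q N) := by
  obtain ⟨n, f₀, hf₀⟩ := Algebra.FiniteType.iff_quotient_mvPolynomial''.mp
    (inferInstance : Algebra.FiniteType k B)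
  let M : Ideal (MvPolynomial (Fin n) k) := q.comap f₀
  have hM : M.IsPrime := Ideal.comap_isPrime f₀ q
  let P := Localization.AtPrime M
  let fP : P →ₐ[k] Localization.AtPrime q := IsLocalization.liftAlgHom (M := M.primeCompl)
      (f := (IsScalarTower.toAlgHom k B (Localization.AtPrime q)).comp f₀) fun x ↦ by
    simpa using! IsLocalization.map_units (M := q.primeCompl) (Localization.AtPrime q)
      ⟨f₀ x.1, x.2⟩
  have hf₁ : Function.Surjective fP := by
    intro x
    obtain ⟨x, ⟨s, hs⟩, rfl⟩ := IsLocalization.exists_mk'_eq q.primeCompl x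
    obtain ⟨x, rfl⟩ := hf₀ x
    obtain ⟨s, rfl⟩ := hf₀ s
    refine ⟨IsLocalization.mk' (M := M.primeCompl) _ x ⟨s, hs⟩, ?_⟩
    simp [fP, IsLocalization.lift_mk', Units.mul_inv_eq_iff_eq_mul, IsUnit.liftRight]
  let _ : Algebra P (Localization.AtPrime q) := fP.toRingHom.toAlgebra
  have hk : IsScalarTower k P (Localization.AtPrime q) := .of_algebraMap_eq' fP.comp_algebraMap.symm
  let _ : Module P N := Module.compHom N (algebraMap P (Localization.AtPrime q))
  have : IsScalarTower P (Localization.AtPrime q) N := IsScalarTower.of_compHom P _ N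
  have hregP : IsRegularLocalRing P := inferInstance
  have h1 : Subsingleton (T2 (canon k P) N) :=
    (locPoly (AlgEquiv.refl : MvPolynomial (Fin n) k ≃ₐ[k] _) M.primeCompl (canon k P) N).2
  have h2 : Subsingleton (T2 (canon P (Localization.AtPrime q)) N) := by
    have hreg' : IsRegularLocalRing (P ⧸ RingHom.ker (algebraMap P (Localization.AtPrime q))) :=
      IsRegularLocalRing.of_ringEquiv
        (RingHom.quotientKerEquivOfSurjective (f := algebraMap P (Localization.AtPrime q)) hf₁).symm
    obtain ⟨rs, hrs, hI⟩ := Groth.Agent.Flat2H.RegularLCI.exists_weaklyRegular_generators P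
      (RingHom.ker (algebraMap P (Localization.AtPrime q)))
    exact Quot.subsingleton_T2_regular hf₁ rs hrs hI _ N
  exact Tower.subsingleton_T2 (canon k P) (canon P (Localization.AtPrime q)) Q N h1 h2

end K694.EssVan
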