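import Groth.Prelude.Def_Exal
import Groth.Agent.DefT.K694.Cross
import Mathlib.RingTheory.Ideal.Quotient.Operations
import Mathlib.RingTheory.Ideal.Maps
import Mathlib.Tactic.LinearCombination

/-!
# Extensions of `B` by `M` as push-outs of `0 → I → R → B → 0`
-/

universe u v

noncomputable section

namespace K694.ExalGen

open Exal

section Basic

variable {A : Type u} {B M : Type v} [CommRing A] [CommRing B] [Algebra A B] [AddCommGroup M]
  [Module B M] (X : Ext A B M)

lemma proj_incl (m : M) : X.proj (X.incl m) = 0 :=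
  (X.isExtension.exact _).mpr ⟨m, rfl⟩

lemma incl_mul_incl (m n : M) : X.incl m * X.incl n = 0 := by
  rw [X.isExtension.mul_incl, proj_incl, zero_smul, map_zero]

lemma mul_incl (x : X.E) (m : M) : x * X.incl m = X.incl (X.proj x • m) :=
  X.isExtension.mul_incl x m

lemma exists_incl {x : X.E} (hx : X.proj x = 0) : ∃ m, X.incl m = x :=
  (X.isExtension.exact _).mp hx

/-- an equivalence from an algebra map over `B` and under `M` -/
lemma equiv_of_algHom {X Y : Ext A B M} (f : X.E →ₐ[A] Y.E) (h1 : ∀ x, Y.proj (f x) = X.proj x)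
    (h2 : ∀ m, f (X.incl m) = Y.incl m) : Nonempty (Ext.Equiv X Y) := by
  refine ⟨⟨AlgEquiv.ofBijective f ⟨?_, ?_⟩, h1, h2⟩⟩
  · rw [injective_iff_map_eq_zero]
    intro x hx
    obtain ⟨m, rfl⟩ := exists_incl X (x := x) (by rw [← h1, hx, map_zero])
    rw [h2] at hx
    rw [Y.isExtension.incl_injective (hx.trans (map_zero Y.incl).symm), map_zero]
  · intro y
    obtain ⟨x, hx⟩ := X.isExtension.proj_surjective (Y.proj y)
    obtain ⟨m, hm⟩ := exists_incl Y (x := y - f x) (by rw [map_sub, h1, hx, sub_self])
    exact ⟨x + X.incl m, by rw [map_add, h2, hm]; abel⟩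

end Basic

section Push

variable {A : Type u} {R B M : Type v} [CommRing A] [CommRing R] [CommRing B] [Algebra A R]
  [Algebra R B] [Algebra A B] [IsScalarTower A R B] [AddCommGroup M] [Module B M] [Module R M]
  [IsScalarTower R B M]

variable (R M) in
/-- the ring `R ⊕ M` -/
def dat : Cross.Data R M where
  j := 0
  symm u v := by simp

instance algCarrier : Algebra A (dat R M).Carrier :=
  ((Cross.inc (dat R M)).comp (algebraMap A R)).toAlgebra

lemma algebraMap_carrier (a : A) :
    algebraMap A (dat R M).Carrier a = (dat R M).mk' (algebraMap A R a) 0 := rfl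

lemma j_zero (m : M) : (dat R M).j m = 0 := rfl

variable (g : RingHom.ker (algebraMap R B) →ₗ[R] M)

/-- the ideal `{(x, -g x) : x ∈ I}` of `R ⊕ M` -/
def K : Ideal (dat R M).Carrier where
  carrier := {z | ∃ h : algebraMap R B z.fst = 0, z.snd = - g ⟨z.fst, h⟩}
  add_mem' := by
    rintro x y ⟨hx, hx'⟩ ⟨hy, hy'⟩
    refine ⟨by rw [Cross.fst_add, map_add, hx, hy, add_zero], ?_⟩
    rw [Cross.snd_add, hx', hy', ← neg_add, ← map_add]
    rfl
  zero_mem' := ⟨by rw [Cross.fst_zero, map_zero], by
    rw [Cross.snd_zero, eq_comm, neg_eq_zero]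
    exact map_zero g⟩
  smul_mem' := by
    rintro c x ⟨hx, hx'⟩
    refine ⟨?_, ?_⟩
    · change algebraMap R B (c.fst * x.fst) = 0
      rw [map_mul, hx, mul_zero]
    · change c.fst • x.snd + x.fst • c.snd + (dat R M).j c.snd • x.snd = - g ⟨c.fst * x.fst, _⟩
      have h0 : x.fst • c.snd = 0 := by rw [← algebraMap_smul B x.fst c.snd, hx, zero_smul]
      rw [j_zero, zero_smul, add_zero, hx', h0, add_zero, smul_neg, ← map_smul]
      rfl

lemma mem_K (z : (dat R M).Carrier) :
    z ∈ K g ↔ ∃ h : algebraMap R B z.fst = 0, z.snd = - g ⟨z.fst, h⟩ := Iff.rfl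

/-- the projection `R ⊕ M → B` -/
def prB : (dat R M).Carrier →ₐ[A] B where
  toFun z := algebraMap R B z.fst
  map_one' := map_one _
  map_mul' x y := by rw [Cross.fst_mul, map_mul]
  map_zero' := map_zero _
  map_add' x y := by rw [Cross.fst_add, map_add]
  commutes' a := (IsScalarTower.algebraMap_apply A R B a).symm

/-- the extension `(R ⊕ M) / K` -/
def push (hs : Function.Surjective (algebraMap R B)) : Ext A B M where
  E := (dat R M).Carrier ⧸ K g
  proj := Ideal.Quotient.liftₐ (K g) prB (fun z hz => hz.choose)
  incl :=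
    { toFun := fun m => Ideal.Quotient.mk _ ((dat R M).mk' 0 m)
      map_zero' := map_zero (Ideal.Quotient.mk (K g))
      map_add' := fun x y => by
        rw [← map_add]
        congr 1
        apply Cross.carrier_ext
        · simp
        · simp }
  isExtension :=
    { proj_surjective := by
        intro b
        obtain ⟨r, rfl⟩ := hs b
        exact ⟨Ideal.Quotient.mk _ ((dat R M).mk' r 0), rfl⟩
      incl_injective := by
        rw [injective_iff_map_eq_zero]
        intro m hm
        have h1 := Ideal.Quotient.eq_zero_iff_mem.mp hm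
        obtain ⟨h, h2⟩ := h1
        have h3 : (⟨0, h⟩ : RingHom.ker (algebraMap R B)) = 0 := rfl
        rw [Cross.snd_mk'] at h2
        rw [h2, neg_eq_zero]
        exact map_zero g
      exact := by
        intro x
        obtain ⟨x, rfl⟩ := Ideal.Quotient.mk_surjective x
        constructor
        · intro h
          have h' : algebraMap R B x.fst = 0 := h
          refine ⟨x.snd + g ⟨x.fst, h'⟩, ?_⟩
          change Ideal.Quotient.mk _ _ = _
          rw [Ideal.Quotient.eq]
          refine ⟨?_, ?_⟩
          · change algebraMap R B (0 - x.fst) = 0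
            rw [zero_sub, map_neg, h', neg_zero]
          · change x.snd + g ⟨x.fst, h'⟩ - x.snd = _
            rw [add_sub_cancel_left, ← map_neg]
            congr 1
            apply Subtype.ext
            change x.fst = - (0 - x.fst)
            rw [zero_sub, neg_neg]
        · rintro ⟨m, h⟩
          rw [← h]
          exact map_zero (algebraMap R B)
      mul_incl := by
        intro x m
        obtain ⟨x, rfl⟩ := Ideal.Quotient.mk_surjective x
        change Ideal.Quotient.mk _ x * Ideal.Quotient.mk _ _ = Ideal.Quotient.mk _ _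
        rw [← map_mul]
        congr 1
        apply Cross.carrier_ext
        · simp
        · change x.fst • m + (0 : R) • x.snd + (dat R M).j x.snd • m = algebraMap R B x.fst • m
          rw [j_zero, zero_smul, zero_smul, add_zero, add_zero, algebraMap_smul] }

/-- `r ↦ (r, 0)` -/
def incA : R →ₐ[A] (dat R M).Carrier :=
  { Cross.inc (dat R M) with commutes' := fun _ => rfl }

/-- the canonical lift of `R → B` to the push-out extension -/
def pushLift (hs : Function.Surjective (algebraMap R B)) : R →ₐ[A] (push (A := A) g hs).E :=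
  (Ideal.Quotient.mkₐ A (K g)).comp incA

lemma proj_pushLift (hs : Function.Surjective (algebraMap R B)) (r : R) :
    (push (A := A) g hs).proj (pushLift g hs r) = algebraMap R B r := rfl

lemma pushLift_mem (hs : Function.Surjective (algebraMap R B)) (x : RingHom.ker (algebraMap R B)) :
    pushLift (A := A) g hs x = (push (A := A) g hs).incl (g x) := by
  change Ideal.Quotient.mk _ _ = Ideal.Quotient.mk _ _
  rw [Ideal.Quotient.eq]
  refine ⟨?_, ?_⟩
  · change algebraMap R B (x - 0) = 0
    rw [sub_zero]; exact x.2
  · change 0 - g x = - g ⟨x - 0, _⟩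
    rw [zero_sub]
    congr 2
    apply Subtype.ext
    change (x : R) = x - 0
    rw [sub_zero]

section Compare

variable {X : Ext A B M} (f : R →ₐ[A] X.E)

/-- the map `R ⊕ M → E` -/
def toE (hf : ∀ r, X.proj (f r) = algebraMap R B r) : (dat R M).Carrier →ₐ[A] X.E where
  toFun z := f z.fst + X.incl z.snd
  map_one' := by simp
  map_mul' x y := by
    rw [Cross.fst_mul, Cross.snd_mul, j_zero, zero_smul, add_zero, map_mul, map_add,
      ← algebraMap_smul B x.fst y.snd, ← algebraMap_smul B y.fst x.snd, ← hf, ← hf, ← mul_incl,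
      ← mul_incl]
    have := incl_mul_incl X x.snd y.snd
    linear_combination (-1 : X.E) * this
  map_zero' := by simp
  map_add' x y := by
    rw [Cross.fst_add, Cross.snd_add, map_add, map_add]
    ring
  commutes' a := by
    rw [algebraMap_carrier, Cross.fst_mk', Cross.snd_mk', map_zero, add_zero, AlgHom.commutes]

lemma toE_apply (hf : ∀ r, X.proj (f r) = algebraMap R B r) (z) :
    toE f hf z = f z.fst + X.incl z.snd := rfl

lemma toE_eq_zero_iff (hf : ∀ r, X.proj (f r) = algebraMap R B r)
    (hg : ∀ x : RingHom.ker (algebraMap R B), f x = X.incl (g x)) (z : (dat R M).Carrier) :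
    toE f hf z = 0 ↔ z ∈ K g := by
  rw [toE_apply, mem_K]
  constructor
  · intro h
    have h1 : algebraMap R B z.fst = 0 := by
      have := congrArg X.proj h
      rw [map_add, hf, proj_incl, add_zero, map_zero] at this
      exact this
    refine ⟨h1, ?_⟩
    have h2 := hg ⟨z.fst, h1⟩
    change f z.fst = _ at h2
    rw [h2, ← map_add] at h
    have := X.isExtension.incl_injective (h.trans (map_zero X.incl).symm)
    exact (neg_eq_of_add_eq_zero_right this).symm
  · rintro ⟨h, h'⟩
    have h2 := hg ⟨z.fst, h⟩
    change f z.fst = _ at h2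
    rw [h2, h', map_neg, add_neg_cancel]

/-- two extensions with lifts inducing the same map `I → M` are equivalent -/
theorem nonempty_equiv (hs : Function.Surjective (algebraMap R B))
    (hf : ∀ r, X.proj (f r) = algebraMap R B r)
    (hg : ∀ x : RingHom.ker (algebraMap R B), f x = X.incl (g x))
    {Y : Ext A B M} (f' : R →ₐ[A] Y.E) (hf' : ∀ r, Y.proj (f' r) = algebraMap R B r)
    (hg' : ∀ x : RingHom.ker (algebraMap R B), f' x = Y.incl (g x)) :
    Nonempty (Ext.Equiv X Y) := by
  have key : ∀ {Y : Ext A B M} (f' : R →ₐ[A] Y.E) (_ : ∀ r, Y.proj (f' r) = algebraMap R B r)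
      (_ : ∀ x : RingHom.ker (algebraMap R B), f' x = Y.incl (g x)),
      Nonempty (Ext.Equiv (push (A := A) g hs) Y) := by
    intro Y f' hf' hg'
    refine equiv_of_algHom (Ideal.Quotient.liftₐ (K g) (toE f' hf')
      (fun z hz => (toE_eq_zero_iff g f' hf' hg' z).mpr hz)) ?_ ?_
    · intro x
      obtain ⟨x, rfl⟩ := Ideal.Quotient.mk_surjective x
      change Y.proj (f' x.fst + Y.incl x.snd) = algebraMap R B x.fst
      rw [map_add, proj_incl, hf', add_zero]
    · intro m
      change f' (0 : R) + Y.incl m = Y.incl m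
      rw [map_zero, zero_add]
  obtain ⟨e⟩ := key f hf hg
  obtain ⟨e'⟩ := key f' hf' hg'
  exact ⟨e.symm.trans e'⟩

end Compare

end Push

end K694.ExalGen
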