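import Groth.Agent.DefT.K694.Hat

/-!
# Morphisms of presentations: existence, and the induced maps on `T⁰, T¹, T²` are independent of the choice
-/

universe u v w t u' v' w' t' m m'

open TensorProduct

noncomputable section

namespace K694.Hom

open CotT K694.Basic K694.Hat

variable {A : Type u} {B : Type v} {ι : Type w} {σ : Type t}
variable {A' : Type u'} {B' : Type v'} {ι' : Type w'} {σ' : Type t'}
variable [CommRing A] [CommRing B] [Algebra A B] [CommRing A'] [CommRing B'] [Algebra A' B']
variable [Algebra A A'] [Algebra B B'] [Algebra A B'] [IsScalarTower A A' B'] [IsScalarTower A B B']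
variable {P : Algebra.Presentation A B ι σ} {P' : Algebra.Presentation A' B' ι' σ'}

lemma exists_relVal (hom : Algebra.Generators.Hom P.toGenerators P'.toGenerators) (s : σ) :
    ∃ f : relMod P', jmap P' f = hom.toExtensionHom.toRingHom (rel P s) := by
  have h : hom.toExtensionHom.toRingHom (rel P s) ∈ P'.toExtension.ker := by
    change algebraMap P'.toExtension.Ring B' _ = 0
    rw [hom.toExtensionHom.algebraMap_toRingHom, algebraMap_rel, map_zero]
  have : hom.toExtensionHom.toRingHom (rel P s) ∈ LinearMap.range (jmap P') := by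
    rw [range_jmap]; exact h
  exact this

/-- every morphism of generators extends to a morphism of presentations -/
lemma exists_presHom_hom (hom : Algebra.Generators.Hom P.toGenerators P'.toGenerators) :
    ∃ h : PresHom P P', h.hom = hom := by
  choose r hr using exists_relVal hom
  exact ⟨⟨hom, r, hr⟩, rfl⟩

variable (P P') in
lemma nonempty_presHom : Nonempty (PresHom P P') :=
  ⟨(exists_presHom_hom (Algebra.Generators.defaultHom P.toGenerators P'.toGenerators)).choose⟩

variable (h h' : PresHom P P')

lemma ringHom_C (a : A) : h.ringHom (MvPolynomial.C a) = MvPolynomial.C (algebraMap A A' a) := by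
  change MvPolynomial.aeval h.hom.val (MvPolynomial.C a) = _
  rw [MvPolynomial.aeval_C]
  rfl

lemma ringHom_X (i : ι) : h.ringHom (MvPolynomial.X i) = h.hom.val i := by
  change MvPolynomial.aeval h.hom.val (MvPolynomial.X i) = _
  rw [MvPolynomial.aeval_X]

/-- `F' / F₀'` with its map to `R'` -/
def crossData (P' : Algebra.Presentation A' B' ι' σ') :
    Cross.Data P'.toExtension.Ring (relMod P' ⧸ trivRel P') where
  j := Submodule.liftQ _ (jmap P') (trivRel_le_relKer P')
  symm u v := by
    obtain ⟨u, rfl⟩ := Submodule.Quotient.mk_surjective _ u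
    obtain ⟨v, rfl⟩ := Submodule.Quotient.mk_surjective _ v
    rw [← sub_eq_zero, ← Submodule.Quotient.mk_smul, ← Submodule.Quotient.mk_smul,
      ← Submodule.Quotient.mk_sub, Submodule.Quotient.mk_eq_zero]
    exact Submodule.subset_span ⟨u, v, rfl⟩

lemma crossData_j_mk (f : relMod P') :
    (crossData P').j (Submodule.Quotient.mk f) = jmap P' f := rfl

/-- The `(τ, τ')`-derivation `R → F'/F₀'`. -/
lemma exists_delta : ∃ δ : P.toExtension.Ring →+ (relMod P' ⧸ trivRel P'),
    (∀ x, (crossData P').j (δ x) = h.ringHom x - h'.ringHom x) ∧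
      (∀ x y, δ (x * y) = h.ringHom x • δ y + h'.ringHom y • δ x) := by
  obtain ⟨δ, h1, h2, -⟩ := Cross.exists_delta (crossData P') (ι := ι) (A := A) h.ringHom h'.ringHom
    (fun a => (ringHom_C h a).trans (ringHom_C h' a).symm)
    (fun i => by
      have hm : h.ringHom (MvPolynomial.X i) - h'.ringHom (MvPolynomial.X i) ∈
          LinearMap.range (jmap P') := by
        rw [range_jmap]
        change algebraMap P'.toExtension.Ring B' _ = 0
        rw [map_sub, PresHom.algebraMap_ringHom, PresHom.algebraMap_ringHom, sub_self]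
      obtain ⟨f, hf⟩ := hm
      exact ⟨Submodule.Quotient.mk f, (crossData_j_mk f).trans hf⟩)
  exact ⟨δ, h1, h2⟩

lemma jmap_eq_sum (f : relMod P) : jmap P f = f.sum fun s r => r * rel P s := by
  rw [jmap, Finsupp.linearCombination_apply]
  rfl

lemma relModMap_eq_sum (f : relMod P) :
    h.relModMap f = f.sum fun s r => h.ringHom r • h.relVal s := by
  induction f using Finsupp.induction_linear with
  | zero => simp
  | add f g hf hg =>
    classical
    rw [map_add, hf, hg, Finsupp.sum_add_index]
    · intros; rw [map_zero, zero_smul]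
    · intros; rw [map_add, add_smul]
  | single s r =>
    rw [PresHom.relModMap_single, Finsupp.sum_single_index]
    rw [map_zero, zero_smul]

/-- The homotopy in degree `1 → 2`. -/
lemma exists_homotopy : ∃ c : σ → relKer P', ∀ q : relKer P,
    toL2 P' (h.relKerMap q) - toL2 P' (h'.relKerMap q) =
      (q : relMod P).sum fun s r =>
        algebraMap P'.toExtension.Ring B' (h'.ringHom r) • toL2 P' (c s) := by
  obtain ⟨δ, h1, h2⟩ := exists_delta h h'
  -- representatives of `δ (rel s)`
  have hρ : ∀ s, ∃ f : relMod P', (Submodule.Quotient.mk f : relMod P' ⧸ trivRel P') = δ (rel P s) :=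
    fun s => Submodule.Quotient.mk_surjective _ _
  choose ρ hρ using hρ
  have hj : ∀ s, jmap P' (ρ s) = h.ringHom (rel P s) - h'.ringHom (rel P s) := fun s => by
    rw [← crossData_j_mk, hρ, h1]
  let c : σ → relKer P' := fun s => ⟨h.relVal s - h'.relVal s - ρ s, by
    change jmap P' _ = 0
    rw [map_sub, map_sub, hj, h.jmap_relVal, h'.jmap_relVal, sub_self]⟩
  refine ⟨c, fun q => ?_⟩
  have hsum : (q : relMod P).sum (fun s r =>
        algebraMap P'.toExtension.Ring B' (h'.ringHom r) • toL2 P' (c s)) =
      toL2 P' ((q : relMod P).sum fun s r => h'.ringHom r • c s) := by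
    rw [Finsupp.sum, Finsupp.sum, map_sum]
    refine Finset.sum_congr rfl fun s _ => ?_
    rw [LinearMap.map_smulₛₗ]
  rw [hsum, ← map_sub, toL2_eq_iff]
  have hcoe : (((q : relMod P).sum fun s r => h'.ringHom r • c s : relKer P') : relMod P') =
      (q : relMod P).sum fun s r => h'.ringHom r • (h.relVal s - h'.relVal s - ρ s) := by
    rw [Finsupp.sum, Finsupp.sum, AddSubmonoidClass.coe_finsetSum]
    rfl
  rw [hcoe]
  change h.relModMap (q : relMod P) - h'.relModMap (q : relMod P) - _ ∈ _
  rw [relModMap_eq_sum, relModMap_eq_sum, Finsupp.sum, Finsupp.sum, Finsupp.sum,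
    ← Finset.sum_sub_distrib, ← Finset.sum_sub_distrib]
  rw [← Submodule.Quotient.mk_eq_zero]
  have key : ∀ s, (Submodule.Quotient.mk (h.ringHom ((q : relMod P) s) • h.relVal s -
        h'.ringHom ((q : relMod P) s) • h'.relVal s -
        h'.ringHom ((q : relMod P) s) • (h.relVal s - h'.relVal s - ρ s)) : relMod P' ⧸ trivRel P') =
      δ ((q : relMod P) s * rel P s) := by
    intro s
    rw [mul_comm, h2, ← h.jmap_relVal s]
    have h3 : jmap P' (h.relVal s) • δ ((q : relMod P) s) =
        (h.ringHom ((q : relMod P) s) - h'.ringHom ((q : relMod P) s)) •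
          (Submodule.Quotient.mk (h.relVal s) : relMod P' ⧸ trivRel P') := by
      rw [← crossData_j_mk, (crossData P').symm, h1]
    rw [h3, ← hρ]
    rw [← Submodule.Quotient.mk_smul, ← Submodule.Quotient.mk_smul, ← Submodule.Quotient.mk_add]
    congr 1
    rw [sub_smul, smul_sub, smul_sub]
    abel
  have : (Submodule.Quotient.mk (∑ s ∈ (q : relMod P).support,
      (h.ringHom ((q : relMod P) s) • h.relVal s -
        h'.ringHom ((q : relMod P) s) • h'.relVal s -
        h'.ringHom ((q : relMod P) s) • (h.relVal s - h'.relVal s - ρ s))) : relMod P' ⧸ trivRel P') =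
      ∑ s ∈ (q : relMod P).support, δ ((q : relMod P) s * rel P s) := by
    rw [← Submodule.mkQ_apply, map_sum]
    exact Finset.sum_congr rfl fun s _ => key s
  rw [this, ← map_sum]
  have h4 : ∑ s ∈ (q : relMod P).support, (q : relMod P) s * rel P s = jmap P (q : relMod P) := by
    rw [jmap_eq_sum, Finsupp.sum]
  rw [h4, show jmap P (q : relMod P) = 0 from q.2, map_zero]

section Pull

variable (M' : Type m) [AddCommGroup M'] [Module B' M'] [Module B M'] [IsScalarTower B B' M']

lemma L2map_toL2 (q : relKer P) : h.L2map (toL2 P q) = toL2 P' (h.relKerMap q) := by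
  change h.L2map (Submodule.Quotient.mk ((1 : B) ⊗ₜ q)) = _
  rw [PresHom.L2map_mk_tmul, map_one]
  rfl

lemma pull2_toL2 (ψ : L2 P' →ₗ[B'] M') (q : relKer P) :
    h.pull2 M' ψ (toL2 P q) = ψ (toL2 P' (h.relKerMap q)) := by
  rw [PresHom.pull2_apply, L2map_toL2]

lemma T2pull_toT2 (ψ : L2 P' →ₗ[B'] M') :
    h.T2pull M' (toT2 P' M' ψ) = toT2 P M' (h.pull2 M' ψ) := rfl

/-- the maps on `T²` do not depend on the morphism -/
theorem T2pull_eq : h.T2pull M' = h'.T2pull M' := by
  refine LinearMap.ext fun x => ?_
  obtain ⟨ψ, rfl⟩ := toT2_surjective P' M' x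
  rw [T2pull_toT2, T2pull_toT2, toT2_eq_iff]
  obtain ⟨c, hc⟩ := exists_homotopy h h'
  refine ⟨freeSemi (fun s => ψ (toL2 P' (c s))), fun q => ?_⟩
  rw [pull2_toL2, pull2_toL2, ← map_sub, hc, freeSemi_apply, Finsupp.sum, Finsupp.sum, map_sum]
  refine Finset.sum_congr rfl fun s _ => ?_
  rw [map_smul, PresHom.algebraMap_ringHom]
  exact (algebraMap_smul B' (algebraMap P.toExtension.Ring B ((q : relMod P) s))
    (ψ (toL2 P' (c s)))).symm

lemma T1pull_homToT1 (φ : P'.toExtension.Cotangent →ₗ[B'] M') :
    h.T1pull M' (homToT1 P' M' φ) =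
      homToT1 P M' (PresHom.linOfSemilinear M' (φ.comp h.cotMap)) := by
  change Submodule.Quotient.mk _ = Submodule.Quotient.mk _
  congr 1
  apply Subtype.ext
  refine LinearMap.ext fun x => ?_
  change φ (toCot P' (h.L1map x)) = φ (h.cotMap (toCot P x))
  rw [PresHom.toCot_L1map]

attribute [local instance] SMulCommClass.of_commMonoid in
/-- the maps on `T¹` do not depend on the morphism -/
theorem T1pull_eq : h.T1pull M' = h'.T1pull M' := by
  refine LinearMap.ext fun x => ?_
  obtain ⟨φ, rfl⟩ := homToT1_surjective P' M' x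
  rw [T1pull_homToT1, T1pull_homToT1, ← sub_eq_zero, ← map_sub, homToT1_eq_zero_iff]
  refine ⟨(φ.restrictScalars B) ∘ₗ (h.hom.toExtensionHom.sub h'.hom.toExtensionHom), ?_⟩
  rw [LinearMap.comp_assoc, ← Algebra.Extension.Cotangent.map_sub_map]
  refine LinearMap.ext fun x => ?_
  simp only [LinearMap.comp_apply, LinearMap.sub_apply, map_sub]
  rfl

attribute [local instance] SMulCommClass.of_commMonoid in
/-- the maps on `T⁰` do not depend on the morphism -/
theorem T0pull_eq : h.T0pull M' = h'.T0pull M' := by
  refine LinearMap.ext fun x => ?_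
  apply Subtype.ext
  refine LinearMap.ext fun z => ?_
  change (x : L0 P' →ₗ[B'] M') (h.L0map z) = (x : L0 P' →ₗ[B'] M') (h'.L0map z)
  rw [← sub_eq_zero, ← map_sub, PresHom.L0map_apply, PresHom.L0map_apply]
  have := LinearMap.congr_fun (Algebra.Extension.CotangentSpace.map_sub_map h.hom.toExtensionHom
    h'.hom.toExtensionHom) z
  rw [LinearMap.sub_apply] at this
  rw [this]
  have hx := (mem_ker_d1Star_iff P' M' x).mp x.2
  exact LinearMap.congr_fun hx _

end Pull

end K694.Hom
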