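import Groth.Agent.DefT.K694.Nine
import Groth.Agent.DefT.K694.Hat
import Mathlib.Algebra.Module.Projective

/-!
# The long exact sequence of `Tⁱ` in the module
-/

universe u v w t m m' m''

open TensorProduct

noncomputable section

namespace K694.LongM

open CotT K694.Basic K694.Hat

variable {A : Type u} {B : Type v} {ι : Type w} {σ : Type t}
variable [CommRing A] [CommRing B] [Algebra A B]
variable (P : Algebra.Presentation A B ι σ)

instance : Module.Free B (L1 P) := Module.Free.of_basis (L1basis P)
instance : Module.Free B (L0 P) := Module.Free.of_basis P.cotangentSpaceBasis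

/-- `Hom(L•, M)` with its cohomology -/
def coh (M : Type m) [AddCommGroup M] [Module B M] :
    Nine.Coh B (L0 P →ₗ[B] M) (L1 P →ₗ[B] M) (L2 P →ₗ[B] M) (T0 P M) (T1 P M) (T2 P M) where
  d0 := d1Star P M
  d1 := d2Star P M
  dd x := LinearMap.congr_fun (d2Star_comp_d1Star P M) x
  i := (LinearMap.ker (d1Star P M)).subtype
  i_inj := Subtype.val_injective
  i_ker x := ⟨fun h => ⟨⟨x, h⟩, rfl⟩, by rintro ⟨h, rfl⟩; exact h.2⟩
  c := (coboundaries1 P M).mkQ
  c_surj := Submodule.mkQ_surjective _
  c_ker x := by
    rw [Submodule.mkQ_apply, Submodule.Quotient.mk_eq_zero]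
    rfl
  q := (LinearMap.range (d2Star P M)).mkQ
  q_surj := Submodule.mkQ_surjective _
  q_ker x := by
    rw [Submodule.mkQ_apply, Submodule.Quotient.mk_eq_zero]
    rfl

section

variable {L : Type*} [AddCommGroup L] [Module B L]
variable {M' : Type m'} {M : Type m} {M'' : Type m''} [AddCommGroup M'] [Module B M']
  [AddCommGroup M] [Module B M] [AddCommGroup M''] [Module B M'']
variable (f : M' →ₗ[B] M) (g : M →ₗ[B] M'')

/-- post-composition -/
def post (L : Type*) [AddCommGroup L] [Module B L] (f : M' →ₗ[B] M) : (L →ₗ[B] M') →ₗ[B] (L →ₗ[B] M) :=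
  LinearMap.llcomp B L M' M f

@[simp] lemma post_apply (φ : L →ₗ[B] M') : post L f φ = f ∘ₗ φ := rfl

lemma post_injective (hf : Function.Injective f) : Function.Injective (post L f) := by
  intro φ ψ h
  exact LinearMap.ext fun x => hf (LinearMap.congr_fun h x)

lemma post_exact (hf : Function.Injective f) (hfg : Function.Exact f g) :
    Function.Exact (post L f) (post L g) := by
  intro φ
  constructor
  · intro h
    have h1 : ∀ x, ∃ y, f y = φ x := fun x => (hfg _).mp (LinearMap.congr_fun h x)
    choose k hk using h1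
    refine ⟨{ toFun := k, map_add' := fun x y => hf ?_, map_smul' := fun b x => hf ?_ },
      LinearMap.ext fun x => hk x⟩
    · rw [map_add, hk, hk, hk, map_add]
    · rw [map_smul, hk, hk, map_smul]; rfl
  · rintro ⟨ψ, rfl⟩
    exact LinearMap.ext fun x => hfg.apply_apply_eq_zero (ψ x)

lemma post_surjective [Module.Projective B L] (hg : Function.Surjective g) :
    Function.Surjective (post L g) := fun φ => Module.projective_lifting_property g φ hg

/-- the long exact sequence in the module -/
theorem longExact (hf : Function.Injective f) (hg : Function.Surjective g)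
    (hfg : Function.Exact f g) :
    Function.Injective (CotT.T0map P f) ∧ Function.Exact (CotT.T0map P f) (CotT.T0map P g) ∧
      Function.Exact (CotT.T1map P f) (CotT.T1map P g) ∧ Function.Exact (CotT.T2map P f) (CotT.T2map P g) ∧
      ∃ (δ₀ : CotT.T0 P M'' →ₗ[B] CotT.T1 P M') (δ₁ : CotT.T1 P M'' →ₗ[B] CotT.T2 P M'),
        Function.Exact (CotT.T0map P g) δ₀ ∧ Function.Exact δ₀ (CotT.T1map P f) ∧
        Function.Exact (CotT.T1map P g) δ₁ ∧ Function.Exact δ₁ (CotT.T2map P f) :=
  Nine.nine (coh P M') (coh P M) (coh P M'') (post _ f) (post _ f) (post _ f)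
    (post _ g) (post _ g) (post _ g) (T0map P f) (T1map P f) (T2map P f)
    (T0map P g) (T1map P g) (T2map P g)
    (fun _ => rfl) (fun _ => rfl) (fun _ => rfl) (fun _ => rfl)
    (post_injective f hf) (post_injective f hf) (post_injective f hf)
    (post_exact f g hf hfg) (post_exact f g hf hfg) (post_exact f g hf hfg)
    (post_surjective g hg) (post_surjective g hg)
    (fun _ => rfl) (fun _ => rfl) (fun _ _ => rfl) (fun _ _ => rfl) (fun _ => rfl) (fun _ => rfl)

end

end K694.LongM
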