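import Groth.Agent.DefT.K694.Comp
import Groth.Agent.DefT.K694.LongM

/-!
# Construction of presentations, first vanishing criteria
-/

universe u v w t u' v' w' t' m m'

open TensorProduct

noncomputable section

namespace K694.Pres

open CotT K694.Basic K694.Hat

variable {A : Type u} {B : Type v} {ι : Type w} {σ : Type t}
variable [CommRing A] [CommRing B] [Algebra A B]

/-- presentation from a surjection and generators of the kernel -/
def presOf (f : MvPolynomial ι A →ₐ[A] B) (hf : Function.Surjective f) (r : σ → MvPolynomial ι A)
    (hr : Ideal.span (Set.range r) = RingHom.ker f.toRingHom) : Algebra.Presentation A B ι σ where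
  __ := Algebra.Generators.ofAlgHom f hf
  relation := r
  span_range_relation_eq_ker := by
    rw [hr]
    exact (Algebra.Generators.ker_ofAlgHom f hf).symm

section

variable (P : Algebra.Presentation A B ι σ) (M : Type m) [AddCommGroup M] [Module B M]

lemma subsingleton_T2_of_le (h : relKer P ≤ trivRel P) : Subsingleton (T2 P M) := by
  refine subsingleton_of_forall_eq 0 fun x => ?_
  obtain ⟨ψ, rfl⟩ := toT2_surjective P M x
  have : ψ = 0 := by
    apply hat_ext
    intro q
    rw [apply_toL2_eq_zero ψ (h q.2), LinearMap.zero_apply]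
  rw [this, map_zero]

lemma subsingleton_T2_of_isEmpty [IsEmpty σ] : Subsingleton (T2 P M) := by
  apply subsingleton_T2_of_le
  intro x _
  have : Subsingleton (relMod P) := inferInstanceAs (Subsingleton (σ →₀ P.toExtension.Ring))
  rw [Subsingleton.elim x 0]
  exact Submodule.zero_mem _

lemma subsingleton_T1_of_isEmpty [IsEmpty σ] : Subsingleton (T1 P M) := by
  refine subsingleton_of_forall_eq 0 fun x => ?_
  obtain ⟨c, rfl⟩ := Submodule.Quotient.mk_surjective _ x
  have : c = 0 := by
    apply Subtype.ext
    exact (L1basis P).ext fun s => isEmptyElim s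
  rw [this, Submodule.Quotient.mk_zero]

end

/-- the presentation of a polynomial algebra without relations -/
def presPoly (e : MvPolynomial ι A ≃ₐ[A] B) : Algebra.Presentation A B ι PEmpty.{t + 1} :=
  presOf e.toAlgHom e.surjective PEmpty.elim (by
    rw [Set.range_eq_empty, Ideal.span_empty]
    symm
    exact (RingHom.injective_iff_ker_eq_bot _).mp e.injective)

section Transfer

variable {ι' : Type w'} {σ' : Type t'}
variable (P : Algebra.Presentation A B ι σ) (P' : Algebra.Presentation A B ι' σ')
variable (M : Type m) [AddCommGroup M] [Module B M]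

lemma subsingleton_T2_transfer [h : Subsingleton (T2 P M)] : Subsingleton (T2 P' M) :=
  (Comp.T2cmp P P' M).toEquiv.subsingleton

lemma subsingleton_T1_transfer [h : Subsingleton (T1 P M)] : Subsingleton (T1 P' M) :=
  (Comp.T1cmp P P' M).toEquiv.subsingleton

lemma subsingleton_T0_transfer [h : Subsingleton (T0 P M)] : Subsingleton (T0 P' M) :=
  (Comp.T0cmp P P' M).toEquiv.subsingleton

end Transfer

/-- `T¹` and `T²` of a polynomial algebra vanish -/
theorem poly (e : MvPolynomial ι A ≃ₐ[A] B) {ι' : Type w'} {σ' : Type t'}
    (P' : Algebra.Presentation A B ι' σ') (M : Type m) [AddCommGroup M] [Module B M] :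
    Subsingleton (T1 P' M) ∧ Subsingleton (T2 P' M) := by
  have h1 := subsingleton_T1_of_isEmpty (presPoly.{u, v, w, 0} e) M
  have h2 := subsingleton_T2_of_isEmpty (presPoly.{u, v, w, 0} e) M
  exact ⟨subsingleton_T1_transfer (presPoly.{u, v, w, 0} e) P' M,
    subsingleton_T2_transfer (presPoly.{u, v, w, 0} e) P' M⟩

end K694.Pres
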