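import Groth.Agent.DefT.K694.Deg2
import Groth.Agent.DefT.K694.Pres

/-!
# The composed presentation of `C` over `A` for `A → B → C`, and its two morphisms
-/

universe u₁ u₂ u₃ w₁ w₂ w₃ w₄ m

open TensorProduct

noncomputable section

namespace K694.JZ

open CotT K694.Basic K694.Hat

variable {A : Type u₁} {B : Type u₂} {C : Type u₃} [CommRing A] [CommRing B] [CommRing C]
variable [Algebra A B] [Algebra B C] [Algebra A C] [IsScalarTower A B C]
variable {ι : Type w₁} {σ : Type w₂} {ι' : Type w₃} {σ' : Type w₄}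
variable (P : Algebra.Presentation A B ι σ) (Q : Algebra.Presentation B C ι' σ')

/-- the composed presentation -/
abbrev cmp : Algebra.Presentation A C (ι' ⊕ ι) (σ' ⊕ σ) := Q.comp P

/-- from the presentation of `B` over `A` to the composed one -/
def h1 : PresHom P (cmp P Q) where
  hom := Q.toGenerators.toComp P.toGenerators
  relVal s := Finsupp.single (Sum.inr s) 1
  jmap_relVal s := by
    rw [jmap_single, one_mul]
    change (cmp P Q).relation (Sum.inr s) =
      (Q.toGenerators.toComp P.toGenerators).toAlgHom (P.relation s)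
    rw [Algebra.Generators.toComp_toAlgHom]
    rfl

lemma h1_ringHom (x : P.toExtension.Ring) : (h1 P Q).ringHom x = MvPolynomial.rename Sum.inr x := by
  change (Q.toGenerators.toComp P.toGenerators).toAlgHom x = _
  rw [Algebra.Generators.toComp_toAlgHom]

lemma ofComp_relation_inr (s : σ) :
    (Q.toGenerators.ofComp P.toGenerators).toAlgHom ((cmp P Q).relation (Sum.inr s)) = 0 := by
  have h : (cmp P Q).relation (Sum.inr s) = MvPolynomial.rename Sum.inr (P.relation s) := rfl
  rw [h, Algebra.Generators.toAlgHom_ofComp_rename]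
  have h2 : algebraMap P.toGenerators.Ring B (P.relation s) = 0 := P.relation_mem_ker s
  rw [h2, map_zero]

/-- from the composed presentation to the presentation of `C` over `B` -/
def h2 : PresHom (cmp P Q) Q where
  hom := Q.toGenerators.ofComp P.toGenerators
  relVal := Sum.elim (fun s => Finsupp.single s 1) (fun _ => 0)
  jmap_relVal := by
    rintro (s | s)
    · rw [Sum.elim_inl, jmap_single, one_mul]
      exact (Algebra.Presentation.comp_aeval_relation_inl Q P s).symm
    · rw [Sum.elim_inr, map_zero]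
      exact (ofComp_relation_inr P Q s).symm

lemma h2_ringHom (x : (cmp P Q).toExtension.Ring) :
    (h2 P Q).ringHom x = (Q.toGenerators.ofComp P.toGenerators).toAlgHom x := rfl

lemma h2_surjective : Function.Surjective (h2 P Q).ringHom :=
  Algebra.Generators.toAlgHom_ofComp_surjective Q.toGenerators P.toGenerators

lemma h1_flat : (h1 P Q).ringHom.Flat := by
  have : (h1 P Q).ringHom =
      (MvPolynomial.rename Sum.inr : MvPolynomial ι A →ₐ[A] MvPolynomial (ι' ⊕ ι) A).toRingHom :=
    RingHom.ext fun x => h1_ringHom P Q x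
  rw [this]
  exact Deg2.flat_rename_inr A ι ι'

lemma h2_h1 (s : σ) : (h2 P Q).ringHom ((h1 P Q).ringHom (rel P s)) = 0 := by
  rw [h1_ringHom]
  exact ofComp_relation_inr P Q s

lemma h2_ker (x : (cmp P Q).toExtension.Ring) (hx : (h2 P Q).ringHom x = 0) :
    x ∈ Ideal.span (Set.range fun s => (h1 P Q).ringHom (rel P s)) := by
  have h3 : x ∈ P.ker.map (Q.toGenerators.toComp P.toGenerators).toAlgHom := by
    rw [Algebra.Generators.map_toComp_ker]
    exact hx
  rw [← P.span_range_relation_eq_ker, Ideal.map_span, ← Set.range_comp] at h3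
  exact h3

lemma wr_inr (s : σ) : rel (cmp P Q) (Sum.inr s) = (h1 P Q).ringHom (rel P s) := by
  rw [h1_ringHom]
  rfl

lemma wr_inl (s : σ') : (h2 P Q).ringHom (rel (cmp P Q) (Sum.inl s)) = rel Q s :=
  Algebra.Presentation.comp_aeval_relation_inl Q P s

lemma α1 (s : σ') : (h2 P Q).relModMap (Finsupp.single (Sum.inl s) 1) = Finsupp.single s 1 := by
  rw [PresHom.relModMap_single, map_one, one_smul]
  rfl

lemma α2 (s : σ) : (h2 P Q).relModMap (Finsupp.single (Sum.inr s) 1) = 0 := by
  rw [PresHom.relModMap_single, map_one, one_smul]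
  rfl

lemma β1 (s : σ) : (h1 P Q).relModMap (Finsupp.single s 1) = Finsupp.single (Sum.inr s) 1 := by
  rw [PresHom.relModMap_single, map_one, one_smul]
  rfl

/-- relations lift -/
lemma relKerMap_surjective : Function.Surjective (h2 P Q).relKerMap := by
  intro q'
  obtain ⟨q, hq, hq'⟩ := Deg2.exists_relation_lift (h1 P Q).ringHom (h2 P Q).ringHom (rel P)
    (rel (cmp P Q)) (rel Q) (wr_inr P Q) (wr_inl P Q) (h2 P Q).relModMap (α1 P Q) (α2 P Q)
    (h2_surjective P Q) (h2_ker P Q) (h2_h1 P Q) q' q'.2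
  exact ⟨⟨q, hq⟩, Subtype.ext hq'⟩

/-- exactness in the middle -/
lemma exists_decomp (q : relKer (cmp P Q)) (hq : (h2 P Q).relModMap q ∈ trivRel Q) :
    ∃ (n : ℕ) (y : Fin n → (cmp P Q).toExtension.Ring) (p : Fin n → relKer P),
      toL2 (cmp P Q) q = ∑ j, algebraMap _ C (y j) • toL2 (cmp P Q) ((h1 P Q).relKerMap (p j)) := by
  obtain ⟨t, ht, n, y, p, hp, hqt⟩ := Deg2.exists_decomp (h1 P Q).ringHom (h2 P Q).ringHom (rel P)
    (rel (cmp P Q)) (rel Q) (wr_inr P Q) (wr_inl P Q) (h2 P Q).relModMap (h1 P Q).relModMap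
    (α1 P Q) (α2 P Q) (β1 P Q) (h2_surjective P Q) (h2_ker P Q) (h2_h1 P Q) (h1_flat P Q) q q.2 hq
  refine ⟨n, y, fun j => ⟨p j, hp j⟩, ?_⟩
  have h3 : q = (⟨t, trivRel_le_relKer _ ht⟩ : relKer (cmp P Q)) +
      ∑ j, y j • (h1 P Q).relKerMap ⟨p j, hp j⟩ := by
    apply Subtype.ext
    rw [Submodule.coe_add, AddSubmonoidClass.coe_finsetSum]
    exact hqt
  rw [h3, map_add, (toL2_eq_zero_iff _ ⟨t, trivRel_le_relKer _ ht⟩).mpr ht, zero_add, map_sum]
  exact Finset.sum_congr rfl fun j _ => LinearMap.map_smulₛₗ _ _ _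

end K694.JZ
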