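import Groth.Agent.DefT.K694.Pres
import Mathlib.RingTheory.Smooth.Basic

/-!
# `T¹` and formal smoothness; a criterion for the vanishing of `T²`
-/

universe u v w t u' v' w' t' m m'

open TensorProduct

noncomputable section

namespace K694.Smooth1

open CotT K694.Basic K694.Hat

variable {A : Type u} {B : Type v} {ι : Type w} {σ : Type t}
variable [CommRing A] [CommRing B] [Algebra A B]
variable (P : Algebra.Presentation A B ι σ)

instance : Algebra.FormallySmooth A P.toExtension.Ring :=
  inferInstanceAs (Algebra.FormallySmooth A (MvPolynomial ι A))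

/-- `T¹` vanishes for formally smooth algebras -/
lemma subsingleton_T1 [Algebra.FormallySmooth A B] (M : Type m) [AddCommGroup M] [Module B M] :
    Subsingleton (T1 P M) := by
  obtain ⟨l, hl⟩ := (P.toExtension.formallySmooth_iff_split_injection).mp
    (inferInstance : Algebra.FormallySmooth A B)
  refine subsingleton_of_forall_eq 0 fun x => ?_
  obtain ⟨φ, rfl⟩ := homToT1_surjective P M x
  rw [homToT1_eq_zero_iff]
  exact ⟨φ ∘ₗ l, by rw [LinearMap.comp_assoc, hl, LinearMap.comp_id]⟩

/-- conversely, `T¹(P, I/I²) = 0` implies formally smooth -/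
lemma formallySmooth_of_T1 (h : Subsingleton (T1 P P.toExtension.Cotangent)) :
    Algebra.FormallySmooth A B := by
  rw [P.toExtension.formallySmooth_iff_split_injection]
  exact (homToT1_eq_zero_iff P _ LinearMap.id).mp (Subsingleton.elim _ _)

/-- the conormal module is projective for formally smooth algebras -/
lemma projective_cotangent [Algebra.FormallySmooth A B] :
    Module.Projective B P.toExtension.Cotangent := by
  obtain ⟨l, hl⟩ := (P.toExtension.formallySmooth_iff_split_injection).mp
    (inferInstance : Algebra.FormallySmooth A B)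
  have : Module.Free B (L0 P) := Module.Free.of_basis P.cotangentSpaceBasis
  exact Module.Projective.of_split P.toExtension.cotangentComplex l hl

/-- vanishing of `1 ⊗ f` in `L₁` -/
lemma one_tmul_eq_zero_iff (f : relMod P) :
    (1 : B) ⊗ₜ[P.toExtension.Ring] f = (0 : L1 P) ↔
      ∀ s, algebraMap P.toExtension.Ring B (f s) = 0 := by
  rw [← (L1basis P).repr.map_eq_zero_iff, L1basis, Algebra.TensorProduct.basis_repr_tmul, one_smul,
    DFunLike.ext_iff]
  rfl

/-- `L₂ → L₁` is injective iff the relations with coefficients in `I` are trivial -/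
lemma injective_d2_iff : Function.Injective (d2 P) ↔
    ∀ q ∈ relKer P, (∀ s, algebraMap P.toExtension.Ring B (q s) = 0) → q ∈ trivRel P := by
  rw [injective_iff_map_eq_zero]
  constructor
  · intro h q hq hs
    rw [← one_tmul_eq_zero_iff] at hs
    exact (toL2_eq_zero_iff P ⟨q, hq⟩).mp (h _ ((d2_toL2 P ⟨q, hq⟩).trans hs))
  · intro h z hz
    obtain ⟨q, rfl⟩ := toL2_surjective P z
    rw [d2_toL2, one_tmul_eq_zero_iff] at hz
    exact (toL2_eq_zero_iff P q).mpr (h q q.2 hz)

/-- `T²` vanishes if `I/I²` is projective and `L₂ → L₁` is injective -/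
lemma subsingleton_T2_of_injective [Module.Projective B P.toExtension.Cotangent]
    (h : Function.Injective (d2 P)) (M : Type m) [AddCommGroup M] [Module B M] :
    Subsingleton (T2 P M) := by
  obtain ⟨s, hs⟩ := Module.projective_lifting_property (toCot P) LinearMap.id (toCot_surjective P)
  have hsp : Function.Injective (d2 P) ∧ ∃ l, toCot P ∘ₗ l = LinearMap.id := ⟨h, s, hs⟩
  obtain ⟨-, l, hl⟩ := (((exact_d2_toCot P).split_tfae').out 0 1).mp hsp
  refine subsingleton_of_forall_eq 0 fun x => ?_
  obtain ⟨ψ, rfl⟩ := toT2_surjective P M x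
  change Submodule.Quotient.mk _ = _
  rw [Submodule.Quotient.mk_eq_zero]
  refine ⟨ψ ∘ₗ l, ?_⟩
  rw [d2Star_apply, LinearMap.comp_assoc, hl, LinearMap.comp_id]

end K694.Smooth1
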