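import Groth.Agent.DefT.K694.Quot
import Groth.Agent.DefT.K694.Smooth1
import Groth.Agent.Models.FibreSeq
import Mathlib.RingTheory.KrullDimension.Regular

/-!
# Vanishing of `T²(B/A, -)` for a quotient of a regular local ring makes the ideal generated by a regular sequence
-/

universe u v w t u' v' w' t' m m'

open TensorProduct

noncomputable section

namespace K694.LciT2

open CotT K694.Basic K694.Hat

/-- minimal generators: all relations have coefficients in the maximal ideal -/
lemma exists_minimal_generators {A : Type u} [CommRing A] [IsLocalRing A] (I : Ideal A) (hI : I.FG) :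
    ∃ (c : ℕ) (f : Fin c → A), Ideal.span (Set.range f) = I ∧
      ∀ a : Fin c → A, ∑ i, a i * f i = 0 → ∀ i, a i ∈ IsLocalRing.maximalIdeal A := by
  classical
  have hex : ∃ c : ℕ, ∃ f : Fin c → A, Ideal.span (Set.range f) = I := by
    obtain ⟨s, hs⟩ := hI
    refine ⟨s.card, fun i => (s.equivFin.symm i : A), ?_⟩
    rw [← hs]
    congr 1
    ext x
    constructor
    · rintro ⟨i, rfl⟩
      exact (s.equivFin.symm i).2
    · intro hx
      exact ⟨s.equivFin ⟨x, hx⟩, by simp⟩
  obtain ⟨f, hf⟩ := Nat.find_spec hex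
  refine ⟨Nat.find hex, f, hf, ?_⟩
  have hmin : ∀ n, n < Nat.find hex → ¬ ∃ f : Fin n → A, Ideal.span (Set.range f) = I :=
    fun n hn => Nat.find_min hex hn
  generalize Nat.find hex = c at f hf hmin
  intro a ha i
  by_contra hi
  have hu : IsUnit (a i) := by
    by_contra h
    exact hi ((IsLocalRing.mem_maximalIdeal _).mpr h)
  obtain ⟨b, hb⟩ := hu.exists_left_inv
  cases c with
  | zero => exact i.elim0
  | succ c =>
    refine hmin c (Nat.lt_succ_self c) ⟨fun j => f (i.succAbove j), ?_⟩
    apply le_antisymm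
    · rw [← hf, Ideal.span_le]
      rintro _ ⟨j, rfl⟩
      exact Ideal.subset_span ⟨_, rfl⟩
    · rw [← hf, Ideal.span_le]
      rintro _ ⟨j, rfl⟩
      by_cases hj : j = i
      · subst hj
        rw [Fin.sum_univ_succAbove _ j] at ha
        have h1 : f j = - ∑ l, (b * a (j.succAbove l)) * f (j.succAbove l) := by
          have h2 : b * (a j * f j + ∑ l, a (j.succAbove l) * f (j.succAbove l)) = 0 := by
            rw [ha, mul_zero]
          rw [mul_add, ← mul_assoc, hb, one_mul, Finset.mul_sum] at h2
          rw [eq_neg_iff_add_eq_zero]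
          simpa only [mul_assoc] using h2
        change f j ∈ _
        rw [h1]
        refine Submodule.neg_mem _ (Submodule.sum_mem _ fun l _ => ?_)
        exact Ideal.mul_mem_left _ _ (Ideal.subset_span ⟨l, rfl⟩)
      · obtain ⟨l, rfl⟩ := Fin.exists_succAbove_eq hj
        exact Ideal.subset_span ⟨l, rfl⟩

section

variable {A : Type u} {B : Type v} {ι : Type w} {σ : Type t} [Finite σ]
variable [CommRing A] [CommRing B] [Algebra A B] [IsLocalRing B]
variable (P : Algebra.Presentation A B ι σ)

/-- If all relations have coefficients mapping to the maximal ideal of `B`, and `T²(P, L₂) = 0`, then `L₂ = 0`. -/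
theorem relKer_le (h : Subsingleton (T2 P (L2 P)))
    (hmin : ∀ q ∈ relKer P, ∀ s, algebraMap P.toExtension.Ring B (q s) ∈ IsLocalRing.maximalIdeal B) :
    relKer P ≤ trivRel P := by
  have h1 : toT2 P (L2 P) LinearMap.id = 0 := Subsingleton.elim _ _
  obtain ⟨φ, hφ⟩ : ∃ φ : L1 P →ₗ[B] L2 P, φ ∘ₗ d2 P = LinearMap.id := by
    change Submodule.Quotient.mk _ = _ at h1
    rw [Submodule.Quotient.mk_eq_zero] at h1
    exact h1
  have hsurj : Function.Surjective φ := fun z => ⟨d2 P z, DFunLike.congr_fun hφ z⟩
  have hfin1 : Module.Finite B (L1 P) := Module.Finite.of_basis (L1basis P)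
  have hfin : Module.Finite B (L2 P) := Module.Finite.of_surjective φ hsurj
  have htop : (⊤ : Submodule B (L2 P)) ≤ IsLocalRing.maximalIdeal B • (⊤ : Submodule B (L2 P)) := by
    intro z _
    obtain ⟨q, rfl⟩ := toL2_surjective P z
    rw [← show φ (d2 P (toL2 P q)) = toL2 P q from DFunLike.congr_fun hφ _, d2_toL2]
    have h2 : (1 : B) ⊗ₜ[P.toExtension.Ring] (q : relMod P) ∈
        IsLocalRing.maximalIdeal B • (⊤ : Submodule B (L1 P)) := by
      rw [← (L1basis P).linearCombination_repr ((1 : B) ⊗ₜ[P.toExtension.Ring] (q : relMod P)),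
        Finsupp.linearCombination_apply]
      refine Submodule.sum_mem _ fun s _ => ?_
      refine Submodule.smul_mem_smul ?_ trivial
      rw [L1basis, Algebra.TensorProduct.basis_repr_tmul, one_smul]
      exact hmin q q.2 s
    have h3 := Submodule.mem_map_of_mem (f := φ) h2
    rw [Submodule.map_smul''] at h3
    exact Submodule.smul_mono le_rfl le_top h3
  have hbot : (⊤ : Submodule B (L2 P)) = ⊥ := by
    apply Submodule.eq_bot_of_le_smul_of_le_jacobson_bot _ _ hfin.fg_top htop
    exact IsLocalRing.maximalIdeal_le_jacobson _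
  intro q hq
  rw [← toL2_eq_zero_iff P ⟨q, hq⟩]
  have : toL2 P ⟨q, hq⟩ ∈ (⊤ : Submodule B (L2 P)) := trivial
  rw [hbot] at this
  exact this

end

/-- `A` regular local, `B = A/I`, `T²(B/A, M) = 0` for all `M`: then `I` is generated by a regular sequence. -/
theorem exists_regular {A : Type u} [CommRing A] [IsRegularLocalRing A] (I : Ideal A) (hI : I ≠ ⊤)
    (h : ∀ (M : Type u) [AddCommGroup M] [Module (A ⧸ I) M], Subsingleton (T2 (canon A (A ⧸ I)) M)) :
    ∃ rs : List A, Ideal.ofList rs = I ∧ RingTheory.Sequence.IsRegular A rs := by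
  obtain ⟨c, f, hf, hmin⟩ := exists_minimal_generators I (IsNoetherian.noetherian I)
  have hnt : Nontrivial (A ⧸ I) := Ideal.Quotient.nontrivial_iff.mpr hI
  have hloc : IsLocalRing (A ⧸ I) := IsLocalRing.of_surjective' (Ideal.Quotient.mk I)
    Ideal.Quotient.mk_surjective
  have hlocal : IsLocalHom (Ideal.Quotient.mk I) :=
    IsLocalHom.of_surjective _ Ideal.Quotient.mk_surjective
  have hker : Ideal.span (Set.range f) = RingHom.ker (algebraMap A (A ⧸ I)) := by
    rw [hf]; exact (Ideal.mk_ker).symm
  let P := Quot.presQuot.{u, u, 0} Ideal.Quotient.mk_surjective f hker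
  have hT : Subsingleton (T2 P (L2 P)) := by
    have := h (L2 P)
    exact Pres.subsingleton_T2_transfer (canon A (A ⧸ I)) P (L2 P)
  let e : A ≃+* P.toExtension.Ring := (MvPolynomial.isEmptyRingEquiv A PEmpty.{1}).symm
  have hrel : ∀ s, rel P s = e (f s) := fun s => rfl
  have he : ∀ a, algebraMap P.toExtension.Ring (A ⧸ I) (e a) = Ideal.Quotient.mk I a := by
    intro a
    rw [algebraMap_toExtension]
    exact MvPolynomial.aeval_C _ _
  have hlc : ∀ q : Fin c → A, jmap P (Finsupp.equivFunOnFinite.symm fun i => e (q i)) =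
      e (∑ i, q i * f i) := by
    intro q
    rw [jmap, Finsupp.linearCombination_apply, Finsupp.sum_fintype _ _ (by simp), map_sum]
    refine Finset.sum_congr rfl fun i _ => ?_
    rw [smul_eq_mul, hrel, map_mul]
    rfl
  have hle := relKer_le P hT (by
    intro q hq s
    have h1 : jmap P (Finsupp.equivFunOnFinite.symm fun i => e (e.symm (q i))) =
      e (∑ i, e.symm (q i) * f i) := hlc _
    have h2 : (Finsupp.equivFunOnFinite.symm fun i => e (e.symm (q i)) : relMod P) = q := by
      ext i
      simp
    rw [h2] at h1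
    have h3 : ∑ i, e.symm (q i) * f i = 0 := by
      apply e.injective
      rw [← h1, map_zero]
      exact hq
    have h4 := hmin _ h3 s
    have h5 : algebraMap P.toExtension.Ring (A ⧸ I) (q s) = Ideal.Quotient.mk I (e.symm (q s)) := by
      rw [← he, e.apply_symm_apply]
    rw [h5, IsLocalRing.mem_maximalIdeal]
    intro hu
    exact (IsLocalRing.mem_maximalIdeal _).mp h4 (isUnit_of_map_unit (Ideal.Quotient.mk I) _ hu))
  refine ⟨List.ofFn f, ?_, Groth.Agent.Models.FibreSeq.isRegular_of_relations I hI f hf ?_⟩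
  · rw [Groth.Agent.Models.FibreSeq.ofList_ofFn, hf]
  · intro a ha i
    have h1 : (Finsupp.equivFunOnFinite.symm fun i => e (a i) : relMod P) ∈ relKer P := by
      change jmap P _ = 0
      rw [hlc, ha, map_zero]
    have h2 := (Smooth1.one_tmul_eq_zero_iff P _).mp (one_tmul_eq_zero_of_mem_trivRel P _ (hle h1)) i
    have h3 : algebraMap P.toExtension.Ring (A ⧸ I) (e (a i)) = 0 := h2
    rw [he, Ideal.Quotient.eq_zero_iff_mem] at h3
    exact h3

end K694.LciT2
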