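import Groth.Agent.DefT.K694.TrivX
import Groth.Agent.DefT.K694.Smooth1
import Mathlib.RingTheory.Localization.BaseChange
import Mathlib.RingTheory.Polynomial.Basic
import Mathlib.RingTheory.MvPolynomial.Localization
import Mathlib.RingTheory.Etale.Basic

/-!
# `T¹` and `T²` of a localization vanish
-/

universe u v w t u' v' w' t' m m'

open TensorProduct

noncomputable section

namespace K694.LocVan

open CotT K694.Basic K694.Hat

variable {B : Type u} {C : Type v} {ι : Type w} {σ : Type t}
variable [CommRing B] [CommRing C] [Algebra B C] (W : Submonoid B) [IsLocalization W C]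

attribute [local instance] MvPolynomial.algebraMvPolynomial

lemma aeval_im (v : ι → C) (r : MvPolynomial ι B) : MvPolynomial.aeval v
      (algebraMap (MvPolynomial ι B) (MvPolynomial ι C) r) = MvPolynomial.aeval v r := by
  change MvPolynomial.aeval v (MvPolynomial.map (algebraMap B C) r) = _
  rw [MvPolynomial.aeval_map_algebraMap]

include W in
lemma span_eq (v : ι → C) (g : σ → MvPolynomial ι B)
    (hI : Ideal.span (Set.range g) = RingHom.ker (MvPolynomial.aeval v : MvPolynomial ι B →ₐ[B] C)) :
    Ideal.span (Set.range fun s => algebraMap (MvPolynomial ι B) (MvPolynomial ι C) (g s)) =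
      Ideal.span (Set.range fun i : ι =>
        (MvPolynomial.X i - MvPolynomial.C (v i) : MvPolynomial ι C)) := by
  have hloc : IsLocalization (W.map (MvPolynomial.C (σ := ι))) (MvPolynomial ι C) :=
    MvPolynomial.isLocalization W C
  rw [← TrivX.ker_aeval]
  apply le_antisymm
  · rw [Ideal.span_le]
    rintro _ ⟨s, rfl⟩
    change MvPolynomial.aeval v (algebraMap (MvPolynomial ι B) (MvPolynomial ι C) (g s)) = 0
    rw [aeval_im]
    have : g s ∈ Ideal.span (Set.range g) := Ideal.subset_span ⟨s, rfl⟩
    rw [hI] at this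
    exact this
  · intro x hx
    obtain ⟨⟨r, w⟩, h⟩ := IsLocalization.surj (W.map (MvPolynomial.C (σ := ι))) x
    have hr : r ∈ Ideal.span (Set.range g) := by
      rw [hI]
      change MvPolynomial.aeval v r = 0
      rw [← aeval_im, ← h, map_mul]
      have hx' : MvPolynomial.aeval v x = 0 := hx
      rw [hx', zero_mul]
    have hu : IsUnit (algebraMap (MvPolynomial ι B) (MvPolynomial ι C) w) :=
      IsLocalization.map_units _ w
    have h1 : algebraMap (MvPolynomial ι B) (MvPolynomial ι C) r ∈
        Ideal.span (Set.range fun s => algebraMap (MvPolynomial ι B) (MvPolynomial ι C) (g s)) := by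
      have h2 := Ideal.mem_map_of_mem (algebraMap (MvPolynomial ι B) (MvPolynomial ι C)) hr
      rw [Ideal.map_span, ← Set.range_comp] at h2
      exact h2
    rw [← h] at h1
    exact (Ideal.mul_unit_mem_iff_mem _ hu).mp h1

include W in
lemma exists_smul_mem (v : ι → C) (g : σ → MvPolynomial ι B)
    (hI : Ideal.span (Set.range g) = RingHom.ker (MvPolynomial.aeval v : MvPolynomial ι B →ₐ[B] C))
    (q : σ →₀ MvPolynomial ι B) (hq : Finsupp.linearCombination (MvPolynomial ι B) g q = 0)
    (hs : ∀ s, MvPolynomial.aeval v (q s) = 0) :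
    ∃ w ∈ W, (MvPolynomial.C w : MvPolynomial ι B) • q ∈ Koszul1.Triv g := by
  have hloc : IsLocalization (W.map (MvPolynomial.C (σ := ι))) (MvPolynomial ι C) :=
    MvPolynomial.isLocalization W C
  have hspan := span_eq W v g hI
  have h3 : (TrivLoc.im q : σ →₀ MvPolynomial ι C) ∈
      Koszul1.Triv (fun s => algebraMap (MvPolynomial ι B) (MvPolynomial ι C) (g s)) := by
    refine TrivLoc.H hspan (TrivX.ker_le_triv_X_sub_C _) _ ?_ ?_
    · rw [TrivLoc.lc_im, hq, map_zero]
    · intro s
      rw [hspan, ← TrivX.ker_aeval]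
      change MvPolynomial.aeval v (algebraMap (MvPolynomial ι B) (MvPolynomial ι C) (q s)) = 0
      rw [aeval_im]
      exact hs s
  obtain ⟨w, ⟨w0, hw0, rfl⟩, hw⟩ := TrivLoc.exists_smul_mem_triv (W.map (MvPolynomial.C (σ := ι))) g h3
  exact ⟨w0, hw0, hw⟩

variable (P : Algebra.Presentation B C ι σ)

include W in
theorem injective_d2 : Function.Injective (d2 P) := by
  rw [Smooth1.injective_d2_iff]
  intro q hq hs
  have hI : Ideal.span (Set.range (rel P)) = RingHom.ker (algebraMap P.toExtension.Ring C) :=
    P.span_range_relation_eq_ker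
  have hker : RingHom.ker (algebraMap P.toExtension.Ring C) =
      RingHom.ker (MvPolynomial.aeval P.val : MvPolynomial ι B →ₐ[B] C) := by
    ext x
    change algebraMap P.toExtension.Ring C x = 0 ↔ MvPolynomial.aeval P.val x = 0
    rw [algebraMap_toExtension]
  obtain ⟨w0, hw0, hwq⟩ := exists_smul_mem W P.val (rel P) (hI.trans hker) q hq (fun s => by
    rw [← algebraMap_toExtension]; exact hs s)
  -- `w` is invertible modulo `I`
  have hu : IsUnit (algebraMap B C w0) := IsLocalization.map_units C ⟨w0, hw0⟩
  obtain ⟨c, hc⟩ := hu.exists_right_inv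
  obtain ⟨r, rfl⟩ := algebraMap_surj P c
  obtain ⟨w, hwdef⟩ : ∃ w : P.toExtension.Ring, w = (MvPolynomial.C w0 : MvPolynomial ι B) := ⟨_, rfl⟩
  have hwC : algebraMap P.toExtension.Ring C w = algebraMap B C w0 := by
    rw [algebraMap_toExtension, hwdef]
    exact MvPolynomial.aeval_C _ _
  have hwq : w • q ∈ trivRel P := by rw [hwdef]; exact hwq
  have h4 : (1 - r * w) • q ∈ trivRel P := by
    refine smul_mem_trivRel P _ ?_ ⟨q, hq⟩
    rw [map_sub, map_one, map_mul, hwC, mul_comm, hc, sub_self]
  have h5 := Submodule.add_mem _ h4 (Submodule.smul_mem _ r hwq)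
  rwa [smul_smul, sub_smul, one_smul, sub_add_cancel] at h5

include W in
/-- `T¹` and `T²` of a localization vanish -/
theorem subsingleton (M : Type m) [AddCommGroup M] [Module C M] :
    Subsingleton (T1 P M) ∧ Subsingleton (T2 P M) := by
  have : Algebra.FormallyEtale B C := Algebra.FormallyEtale.of_isLocalization W
  have : Algebra.FormallySmooth B C := inferInstance
  have := Smooth1.projective_cotangent P
  exact ⟨Smooth1.subsingleton_T1 P M, Smooth1.subsingleton_T2_of_injective P (injective_d2 W P) M⟩

end K694.LocVan
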