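import Mathlib.Algebra.Exact.Basic
import Mathlib.LinearAlgebra.Quotient.Basic
import Mathlib.Tactic.Abel

/-!
# The nine-term exact sequence of a short exact sequence of three-term complexes, left exact in degree two
-/

universe u v

noncomputable section

namespace K694.Nine

/-- three-term complex with its cohomology modules -/
structure Coh (R : Type*) [Ring R] (C0 C1 C2 H0 H1 H2 : Type*)
    [AddCommGroup C0] [Module R C0] [AddCommGroup C1] [Module R C1] [AddCommGroup C2] [Module R C2]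
    [AddCommGroup H0] [Module R H0] [AddCommGroup H1] [Module R H1] [AddCommGroup H2] [Module R H2]
    where
  d0 : C0 →ₗ[R] C1
  d1 : C1 →ₗ[R] C2
  dd : ∀ x, d1 (d0 x) = 0
  i : H0 →ₗ[R] C0
  i_inj : Function.Injective i
  i_ker : ∀ x, d0 x = 0 ↔ ∃ h, i h = x
  c : LinearMap.ker d1 →ₗ[R] H1
  c_surj : Function.Surjective c
  c_ker : ∀ x : LinearMap.ker d1, c x = 0 ↔ ∃ y, d0 y = x
  q : C2 →ₗ[R] H2
  q_surj : Function.Surjective q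
  q_ker : ∀ x, q x = 0 ↔ ∃ y, d1 y = x

/-- a functional linear relation is a linear map -/
lemma exists_of_graph {R H K : Type*} [Ring R] [AddCommGroup H] [Module R H] [AddCommGroup K]
    [Module R K] (G : Submodule R (H × K)) (h1 : ∀ h, ∃ k, (h, k) ∈ G)
    (h2 : ∀ k, ((0 : H), k) ∈ G → k = 0) :
    ∃ δ : H →ₗ[R] K, ∀ h k, (h, k) ∈ G ↔ δ h = k := by
  have huniq : ∀ h k k', (h, k) ∈ G → (h, k') ∈ G → k = k' := by
    intro h k k' hk hk'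
    have := G.sub_mem hk hk'
    rw [Prod.mk_sub_mk, sub_self] at this
    exact sub_eq_zero.mp (h2 _ this)
  choose f hf using h1
  refine ⟨{ toFun := f, map_add' := fun x y => ?_, map_smul' := fun r x => ?_ }, fun h k => ?_⟩
  · exact huniq _ _ _ (hf _) (by simpa using G.add_mem (hf x) (hf y))
  · exact huniq _ _ _ (hf _) (by simpa using G.smul_mem r (hf x))
  · constructor
    · intro hk
      exact huniq _ _ _ (hf h) hk
    · rintro rfl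
      exact hf h

section

variable {R : Type*} [Ring R]
variable {X0 X1 X2 HX0 HX1 HX2 : Type*}
  [AddCommGroup X0] [Module R X0] [AddCommGroup X1] [Module R X1] [AddCommGroup X2] [Module R X2]
  [AddCommGroup HX0] [Module R HX0] [AddCommGroup HX1] [Module R HX1] [AddCommGroup HX2]
  [Module R HX2]
variable {Y0 Y1 Y2 HY0 HY1 HY2 : Type*}
  [AddCommGroup Y0] [Module R Y0] [AddCommGroup Y1] [Module R Y1] [AddCommGroup Y2] [Module R Y2]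
  [AddCommGroup HY0] [Module R HY0] [AddCommGroup HY1] [Module R HY1] [AddCommGroup HY2]
  [Module R HY2]
variable {Z0 Z1 Z2 HZ0 HZ1 HZ2 : Type*}
  [AddCommGroup Z0] [Module R Z0] [AddCommGroup Z1] [Module R Z1] [AddCommGroup Z2] [Module R Z2]
  [AddCommGroup HZ0] [Module R HZ0] [AddCommGroup HZ1] [Module R HZ1] [AddCommGroup HZ2]
  [Module R HZ2]
variable (X : Coh R X0 X1 X2 HX0 HX1 HX2) (Y : Coh R Y0 Y1 Y2 HY0 HY1 HY2)
  (Z : Coh R Z0 Z1 Z2 HZ0 HZ1 HZ2)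
variable (f0 : X0 →ₗ[R] Y0) (f1 : X1 →ₗ[R] Y1) (f2 : X2 →ₗ[R] Y2)
variable (g0 : Y0 →ₗ[R] Z0) (g1 : Y1 →ₗ[R] Z1) (g2 : Y2 →ₗ[R] Z2)
variable (F0 : HX0 → HY0) (F1 : HX1 → HY1) (F2 : HX2 → HY2)
variable (G0 : HY0 → HZ0) (G1 : HY1 → HZ1) (G2 : HY2 → HZ2)

include f0 f1 f2 g0 g1 g2 in
/-- The nine-term exact sequence. -/
theorem nine
    (hf01 : ∀ x, f1 (X.d0 x) = Y.d0 (f0 x)) (hf12 : ∀ x, f2 (X.d1 x) = Y.d1 (f1 x))
    (hg01 : ∀ x, g1 (Y.d0 x) = Z.d0 (g0 x)) (hg12 : ∀ x, g2 (Y.d1 x) = Z.d1 (g1 x))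
    (inj0 : Function.Injective f0) (inj1 : Function.Injective f1) (inj2 : Function.Injective f2)
    (ex0 : Function.Exact f0 g0) (ex1 : Function.Exact f1 g1) (ex2 : Function.Exact f2 g2)
    (sur0 : Function.Surjective g0) (sur1 : Function.Surjective g1)
    (hF0 : ∀ h, Y.i (F0 h) = f0 (X.i h)) (hG0 : ∀ h, Z.i (G0 h) = g0 (Y.i h))
    (hF1 : ∀ x hx, F1 (X.c x) = Y.c ⟨f1 x, hx⟩) (hG1 : ∀ x hx, G1 (Y.c x) = Z.c ⟨g1 x, hx⟩)
    (hF2 : ∀ x, F2 (X.q x) = Y.q (f2 x)) (hG2 : ∀ x, G2 (Y.q x) = Z.q (g2 x)) :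
    Function.Injective F0 ∧ Function.Exact F0 G0 ∧ Function.Exact F1 G1 ∧ Function.Exact F2 G2 ∧
    ∃ (δ₀ : HZ0 →ₗ[R] HX1) (δ₁ : HZ1 →ₗ[R] HX2),
      Function.Exact G0 δ₀ ∧ Function.Exact δ₀ F1 ∧ Function.Exact G1 δ₁ ∧ Function.Exact δ₁ F2 := by
  have gf0 : ∀ x, g0 (f0 x) = 0 := fun x => ex0.apply_apply_eq_zero x
  have gf1 : ∀ x, g1 (f1 x) = 0 := fun x => ex1.apply_apply_eq_zero x
  have gf2 : ∀ x, g2 (f2 x) = 0 := fun x => ex2.apply_apply_eq_zero x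
  have f1ker : ∀ x : LinearMap.ker X.d1, f1 x ∈ LinearMap.ker Y.d1 := fun x => by
    rw [LinearMap.mem_ker, ← hf12, show X.d1 (x : X1) = 0 from x.2, map_zero]
  have g1ker : ∀ x : LinearMap.ker Y.d1, g1 x ∈ LinearMap.ker Z.d1 := fun x => by
    rw [LinearMap.mem_ker, ← hg12, show Y.d1 (x : Y1) = 0 from x.2, map_zero]
  -- graphs
  let Γ0 : Submodule R (HZ0 × HX1) :=
    { carrier := {p | ∃ (y : Y0) (x : LinearMap.ker X.d1), g0 y = Z.i p.1 ∧ f1 x = Y.d0 y ∧ X.c x = p.2}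
      add_mem' := by
        rintro ⟨a, b⟩ ⟨a', b'⟩ ⟨y, x, h1, h2, h3⟩ ⟨y', x', h1', h2', h3'⟩
        refine ⟨y + y', x + x', ?_, ?_, ?_⟩
        · rw [map_add, h1, h1', ← map_add]; rfl
        · rw [map_add, ← h2, ← h2', ← map_add]; rfl
        · rw [map_add, h3, h3']; rfl
      zero_mem' := ⟨0, 0, by simp, by simp, by simp⟩
      smul_mem' := by
        rintro r ⟨a, b⟩ ⟨y, x, h1, h2, h3⟩
        refine ⟨r • y, r • x, ?_, ?_, ?_⟩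
        · rw [map_smul, h1, ← map_smul]; rfl
        · rw [map_smul, ← h2, ← map_smul]; rfl
        · rw [map_smul, h3]; rfl }
  have memΓ0 : ∀ a b, (a, b) ∈ Γ0 ↔ ∃ (y : Y0) (x : LinearMap.ker X.d1), g0 y = Z.i a ∧
      f1 x = Y.d0 y ∧ X.c x = b := fun a b => Iff.rfl
  obtain ⟨δ₀, hδ₀⟩ := exists_of_graph Γ0
    (fun h => by
      obtain ⟨y, hy⟩ := sur0 (Z.i h)
      have h0 : g1 (Y.d0 y) = 0 := by
        rw [hg01, hy]; exact (Z.i_ker _).mpr ⟨h, rfl⟩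
      obtain ⟨x, hx⟩ := (ex1 _).mp h0
      have hxk : X.d1 x = 0 := inj2 (by rw [hf12, hx, Y.dd, map_zero])
      exact ⟨X.c ⟨x, hxk⟩, y, ⟨x, hxk⟩, hy, hx, rfl⟩)
    (fun k hk => by
      obtain ⟨y, x, h1, h2, rfl⟩ := hk
      have h1' : g0 y = 0 := by rw [h1]; simp
      obtain ⟨x0, hx0⟩ := (ex0 _).mp h1'
      rw [X.c_ker]
      refine ⟨x0, inj1 ?_⟩
      rw [h2, hf01, hx0])
  let Γ1 : Submodule R (HZ1 × HX2) :=
    { carrier := {p | ∃ (y : Y1) (z : LinearMap.ker Z.d1) (x : X2), g1 y = z ∧ Z.c z = p.1 ∧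
        f2 x = Y.d1 y ∧ X.q x = p.2}
      add_mem' := by
        rintro ⟨a, b⟩ ⟨a', b'⟩ ⟨y, z, x, h1, h2, h3, h4⟩ ⟨y', z', x', h1', h2', h3', h4'⟩
        refine ⟨y + y', z + z', x + x', ?_, ?_, ?_, ?_⟩
        · rw [map_add, h1, h1']; rfl
        · rw [map_add, h2, h2']; rfl
        · rw [map_add, h3, h3', ← map_add]
        · rw [map_add, h4, h4']; rfl
      zero_mem' := ⟨0, 0, 0, by simp, by simp, by simp, by simp⟩
      smul_mem' := by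
        rintro r ⟨a, b⟩ ⟨y, z, x, h1, h2, h3, h4⟩
        refine ⟨r • y, r • z, r • x, ?_, ?_, ?_, ?_⟩
        · rw [map_smul, h1]; rfl
        · rw [map_smul, h2]; rfl
        · rw [map_smul, h3, ← map_smul]
        · rw [map_smul, h4]; rfl }
  have memΓ1 : ∀ a b, (a, b) ∈ Γ1 ↔ ∃ (y : Y1) (z : LinearMap.ker Z.d1) (x : X2), g1 y = z ∧
      Z.c z = a ∧ f2 x = Y.d1 y ∧ X.q x = b := fun a b => Iff.rfl
  obtain ⟨δ₁, hδ₁⟩ := exists_of_graph Γ1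
    (fun h => by
      obtain ⟨z, hz⟩ := Z.c_surj h
      obtain ⟨y, hy⟩ := sur1 (z : Z1)
      have h0 : g2 (Y.d1 y) = 0 := by
        rw [hg12, hy]; exact z.2
      obtain ⟨x, hx⟩ := (ex2 _).mp h0
      exact ⟨X.q x, y, z, x, hy, hz, hx, rfl⟩)
    (fun k hk => by
      obtain ⟨y, z, x, h1, h2, h3, rfl⟩ := hk
      obtain ⟨z0, hz0⟩ := (Z.c_ker z).mp h2
      obtain ⟨y0, rfl⟩ := sur0 z0
      have h4 : g1 (y - Y.d0 y0) = 0 := by rw [map_sub, h1, hg01, hz0, sub_self]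
      obtain ⟨x1, hx1⟩ := (ex1 _).mp h4
      rw [X.q_ker]
      refine ⟨x1, inj2 ?_⟩
      rw [hf12, hx1, map_sub, Y.dd, sub_zero, h3])
  refine ⟨?_, ?_, ?_, ?_, δ₀, δ₁, ?_, ?_, ?_, ?_⟩
  · intro a b hab
    apply X.i_inj
    apply inj0
    rw [← hF0, ← hF0, hab]
  · intro y
    constructor
    · intro hy
      have : g0 (Y.i y) = 0 := by rw [← hG0, hy, map_zero]
      obtain ⟨x, hx⟩ := (ex0 _).mp this
      have hx0 : X.d0 x = 0 := inj1 (by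
        rw [hf01, hx, map_zero]; exact (Y.i_ker _).mpr ⟨y, rfl⟩)
      obtain ⟨h, rfl⟩ := (X.i_ker _).mp hx0
      exact ⟨h, Y.i_inj (by rw [hF0, hx])⟩
    · rintro ⟨h, rfl⟩
      exact Z.i_inj (by rw [hG0, hF0, gf0, map_zero])
  · intro y
    obtain ⟨y, rfl⟩ := Y.c_surj y
    constructor
    · intro hy
      rw [hG1 y (g1ker y), Z.c_ker] at hy
      obtain ⟨z0, hz0⟩ := hy
      obtain ⟨y0, rfl⟩ := sur0 z0
      have h4 : g1 ((y : Y1) - Y.d0 y0) = 0 := by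
        rw [map_sub, hg01, hz0]; exact sub_self _
      obtain ⟨x1, hx1⟩ := (ex1 _).mp h4
      have hxk : X.d1 x1 = 0 := inj2 (by
        rw [hf12, hx1, map_sub, Y.dd, show Y.d1 (y : Y1) = 0 from y.2, sub_zero, map_zero])
      refine ⟨X.c ⟨x1, hxk⟩, ?_⟩
      rw [hF1 ⟨x1, hxk⟩ (f1ker ⟨x1, hxk⟩), ← sub_eq_zero, ← map_sub, Y.c_ker]
      refine ⟨-y0, ?_⟩
      change Y.d0 (-y0) = f1 x1 - (y : Y1)
      rw [hx1, map_neg]; abel
    · rintro ⟨h, hh⟩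
      obtain ⟨x, rfl⟩ := X.c_surj h
      rw [← hh, hF1 x (f1ker x), hG1 _ (g1ker _), Z.c_ker]
      exact ⟨0, by rw [map_zero]; exact (gf1 _).symm⟩
  · intro y
    obtain ⟨y, rfl⟩ := Y.q_surj y
    constructor
    · intro hy
      rw [hG2, Z.q_ker] at hy
      obtain ⟨z1, hz1⟩ := hy
      obtain ⟨y1, rfl⟩ := sur1 z1
      have h4 : g2 (y - Y.d1 y1) = 0 := by rw [map_sub, hg12, hz1, sub_self]
      obtain ⟨x2, hx2⟩ := (ex2 _).mp h4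
      refine ⟨X.q x2, ?_⟩
      rw [hF2, hx2, map_sub, sub_eq_self, Y.q_ker]
      exact ⟨y1, rfl⟩
    · rintro ⟨h, hh⟩
      obtain ⟨x, rfl⟩ := X.q_surj h
      rw [← hh, hF2, hG2, gf2, map_zero]
  · -- exact G0 δ₀
    intro h
    constructor
    · intro hh
      obtain ⟨y, x, h1, h2, h3⟩ := (memΓ0 _ _).mp ((hδ₀ h 0).mpr hh)
      obtain ⟨x0, hx0⟩ := (X.c_ker x).mp h3
      have h5 : Y.d0 (y - f0 x0) = 0 := by rw [map_sub, ← hf01, hx0, h2, sub_self]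
      obtain ⟨t, ht⟩ := (Y.i_ker _).mp h5
      refine ⟨t, Z.i_inj ?_⟩
      rw [hG0, ht, map_sub, gf0, sub_zero, h1]
    · rintro ⟨t, rfl⟩
      refine (hδ₀ _ _).mp ((memΓ0 _ _).mpr ⟨Y.i t, 0, ?_, ?_, map_zero _⟩)
      · rw [hG0]
      · rw [(Y.i_ker _).mpr ⟨t, rfl⟩]; simp
  · -- exact δ₀ F1
    intro h
    obtain ⟨x, rfl⟩ := X.c_surj h
    constructor
    · intro hh
      rw [hF1 x (f1ker x), Y.c_ker] at hh
      obtain ⟨y, hy⟩ := hh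
      have h5 : Z.d0 (g0 y) = 0 := by
        rw [← hg01, hy]; exact gf1 _
      obtain ⟨t, ht⟩ := (Z.i_ker _).mp h5
      exact ⟨t, (hδ₀ _ _).mp ((memΓ0 _ _).mpr ⟨y, x, ht.symm, hy.symm, rfl⟩)⟩
    · rintro ⟨t, ht⟩
      obtain ⟨y, x', h1, h2, h3⟩ := (memΓ0 _ _).mp ((hδ₀ t _).mpr ht)
      rw [← h3, hF1 x' (f1ker x'), Y.c_ker]
      exact ⟨y, h2.symm⟩
  · -- exact G1 δ₁
    intro h
    constructor
    · intro hh
      obtain ⟨y, z, x, h1, h2, h3, h4⟩ := (memΓ1 _ _).mp ((hδ₁ h 0).mpr hh)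
      obtain ⟨x1, hx1⟩ := (X.q_ker x).mp h4
      have h5 : Y.d1 (y - f1 x1) = 0 := by rw [map_sub, ← hf12, hx1, h3, sub_self]
      refine ⟨Y.c ⟨y - f1 x1, h5⟩, ?_⟩
      rw [hG1 ⟨y - f1 x1, h5⟩ (g1ker ⟨y - f1 x1, h5⟩), ← h2]
      congr 1
      apply Subtype.ext
      change g1 (y - f1 x1) = z
      rw [map_sub, gf1, sub_zero, h1]
    · rintro ⟨t, rfl⟩
      obtain ⟨y, rfl⟩ := Y.c_surj t
      refine (hδ₁ _ _).mp ((memΓ1 _ _).mpr ⟨y, ⟨g1 y, g1ker y⟩, 0, rfl, (hG1 _ _).symm, ?_,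
        map_zero _⟩)
      rw [map_zero]; exact y.2.symm
  · -- exact δ₁ F2
    intro h
    obtain ⟨x, rfl⟩ := X.q_surj h
    constructor
    · intro hh
      rw [hF2, Y.q_ker] at hh
      obtain ⟨y, hy⟩ := hh
      have h5 : Z.d1 (g1 y) = 0 := by rw [← hg12, hy, gf2]
      exact ⟨Z.c ⟨g1 y, h5⟩, (hδ₁ _ _).mp ((memΓ1 _ _).mpr ⟨y, ⟨g1 y, h5⟩, x, rfl, rfl,
        hy.symm, rfl⟩)⟩
    · rintro ⟨t, ht⟩
      obtain ⟨y, z, x', h1, h2, h3, h4⟩ := (memΓ1 _ _).mp ((hδ₁ t _).mpr ht)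
      rw [← h4, hF2, Y.q_ker]
      exact ⟨y, h3.symm⟩

end

end K694.Nine
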