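import Groth.Agent.DefT.K694.NineRings

/-!
# The nine-term sequence for arbitrary presentations of `B/A`, `C/B`, `C/A` and arbitrary morphisms between them
-/

universe u₁ u₂ u₃ w₁ w₂ w₃ w₄ w₅ w₆ m

open TensorProduct

noncomputable section

namespace K694.NineCanon

open CotT K694.Basic K694.Hat K694.Hom K694.Comp K694.JZ K694.NineRings

lemma exact_conj {X Y Y' Z : Type*} [Zero Z] {F : X → Y} {G : Y → Z} {F' : X → Y'} {G' : Y' → Z}
    (e : Y → Y') (he : Function.Bijective e) (hF : ∀ x, F' x = e (F x)) (hG : ∀ y, G y = G' (e y))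
    (h : Function.Exact F G) : Function.Exact F' G' := by
  intro y'
  obtain ⟨y, rfl⟩ := he.2 y'
  rw [← hG, h y]
  constructor
  · rintro ⟨x, rfl⟩
    exact ⟨x, hF x⟩
  · rintro ⟨x, hx⟩
    exact ⟨x, he.1 (by rw [← hF, hx])⟩

variable {A : Type u₁} {B : Type u₂} {C : Type u₃} [CommRing A] [CommRing B] [CommRing C]
variable [Algebra A B] [Algebra B C] [Algebra A C] [IsScalarTower A B C]
variable {ι : Type w₁} {σ : Type w₂} {ι' : Type w₃} {σ' : Type w₄} {ι'' : Type w₅} {σ'' : Type w₆}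
variable (P : Algebra.Presentation A B ι σ) (Q : Algebra.Presentation B C ι' σ')
  (W : Algebra.Presentation A C ι'' σ'')
variable (g1 : PresHom P W) (g2 : PresHom W Q)
variable (M : Type m) [AddCommGroup M] [Module C M] [Module B M] [IsScalarTower B C M]

/-- the nine-term sequence -/
theorem nine :
    Function.Injective (g2.T0pull M) ∧
    Function.Exact (g2.T0pull M) (g1.T0pull M) ∧
    Function.Exact (g2.T1pull M) (g1.T1pull M) ∧
    Function.Exact (g2.T2pull M) (g1.T2pull M) ∧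
    ∃ (δ₀ : CotT.T0 P M →+ CotT.T1 Q M) (δ₁ : CotT.T1 P M →+ CotT.T2 Q M),
      Function.Exact (g1.T0pull M) δ₀ ∧ Function.Exact δ₀ (g2.T1pull M) ∧
      Function.Exact (g1.T1pull M) δ₁ ∧ Function.Exact δ₁ (g2.T2pull M) := by
  obtain ⟨i0, e0, e1, e2, δ₀, δ₁, k0, k1, k2, k3⟩ := nine_cmp P Q M
  obtain ⟨c⟩ := nonempty_presHom W (cmp P Q)
  have b0 : Function.Bijective (c.T0pull M) := bijective_T0pull M c
  have b1 : Function.Bijective (c.T1pull M) := bijective_T1pull M c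
  have b2 : Function.Bijective (c.T2pull M) := bijective_T2pull M c
  have F0 : ∀ x, g2.T0pull M x = c.T0pull M ((h2 P Q).T0pull M x) :=
    fun x => T0pull_comp c (h2 P Q) M g2 x
  have F1 : ∀ x, g2.T1pull M x = c.T1pull M ((h2 P Q).T1pull M x) :=
    fun x => T1pull_comp c (h2 P Q) M g2 x
  have F2 : ∀ x, g2.T2pull M x = c.T2pull M ((h2 P Q).T2pull M x) :=
    fun x => T2pull_comp c (h2 P Q) M g2 x
  have G0 : ∀ x, (h1 P Q).T0pull M x = g1.T0pull M (c.T0pull M x) :=
    fun x => T0pull_comp g1 c M (h1 P Q) x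
  have G1 : ∀ x, (h1 P Q).T1pull M x = g1.T1pull M (c.T1pull M x) :=
    fun x => T1pull_comp g1 c M (h1 P Q) x
  have G2 : ∀ x, (h1 P Q).T2pull M x = g1.T2pull M (c.T2pull M x) :=
    fun x => T2pull_comp g1 c M (h1 P Q) x
  refine ⟨?_, exact_conj _ b0 F0 G0 e0, exact_conj _ b1 F1 G1 e1, exact_conj _ b2 F2 G2 e2,
    δ₀.toAddMonoidHom, δ₁.toAddMonoidHom, ?_, ?_, ?_, ?_⟩
  · intro x y h
    rw [F0, F0] at h
    exact i0 (b0.1 h)
  · intro z
    change δ₀ z = 0 ↔ _
    rw [k0 z]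
    constructor
    · rintro ⟨y, rfl⟩
      exact ⟨c.T0pull M y, (G0 y).symm⟩
    · rintro ⟨y, rfl⟩
      obtain ⟨y, rfl⟩ := b0.2 y
      exact ⟨y, G0 y⟩
  · intro z
    change _ ↔ z ∈ Set.range δ₀
    rw [F1, ← k1 z]
    constructor
    · intro h
      exact b1.1 (h.trans (map_zero _).symm)
    · intro h
      rw [h, map_zero]
  · intro z
    change δ₁ z = 0 ↔ _
    rw [k2 z]
    constructor
    · rintro ⟨y, rfl⟩
      exact ⟨c.T1pull M y, (G1 y).symm⟩
    · rintro ⟨y, rfl⟩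
      obtain ⟨y, rfl⟩ := b1.2 y
      exact ⟨y, G1 y⟩
  · intro z
    change _ ↔ z ∈ Set.range δ₁
    rw [F2, ← k3 z]
    constructor
    · intro h
      exact b2.1 (h.trans (map_zero _).symm)
    · intro h
      rw [h, map_zero]

end K694.NineCanon
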