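import Groth.Agent.DefT.K694.JZ
import Groth.Agent.DefT.K694.LongM

/-!
# The nine-term sequence of `Tⁱ` for `A → B → C`
-/

universe u₁ u₂ u₃ w₁ w₂ w₃ w₄ m

open TensorProduct

noncomputable section

namespace K694.NineRings

open CotT K694.Basic K694.Hat K694.Hom K694.Comp K694.JZ

section General

variable {B : Type*} {C : Type*} [CommRing B] [CommRing C] [Algebra B C]
variable {NP NW NQ M : Type*} [AddCommGroup NP] [Module B NP] [AddCommGroup NW] [Module C NW]
  [AddCommGroup NQ] [Module C NQ] [AddCommGroup M] [Module C M] [Module B M] [IsScalarTower B C M]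
variable {σ σ' : Type*} (bP : Module.Basis σ B NP) (bW : Module.Basis (σ' ⊕ σ) C NW)
  (bQ : Module.Basis σ' C NQ)
variable (F : NW →ₛₗ[(algebraMap C C : C →+* C)] NQ) (H : NP →ₛₗ[(algebraMap B C : B →+* C)] NW)
variable (hF1 : ∀ s, F (bW (Sum.inl s)) = bQ s) (hF2 : ∀ s, F (bW (Sum.inr s)) = 0)
  (hH : ∀ s, H (bP s) = bW (Sum.inr s))
variable (f : (NQ →ₗ[C] M) → (NW →ₗ[C] M)) (g : (NW →ₗ[C] M) → (NP →ₗ[B] M))
  (hf : ∀ φ x, f φ x = φ (F x)) (hg : ∀ φ x, g φ x = φ (H x))

include hF1 hf in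
lemma f_injective : Function.Injective f := by
  intro φ φ' h
  refine bQ.ext fun s => ?_
  rw [← hF1, ← hf, ← hf, h]

include hF1 hF2 hH hf hg in
lemma fg_exact : Function.Exact f g := by
  intro ψ
  constructor
  · intro h
    refine ⟨bQ.constr ℕ fun s => ψ (bW (Sum.inl s)), bW.ext ?_⟩
    rintro (s | s)
    · rw [hf, hF1, Module.Basis.constr_basis]
    · rw [hf, hF2, map_zero, ← hH, ← hg, h]
      rfl
  · rintro ⟨φ, rfl⟩
    refine bP.ext fun s => ?_
    rw [hg, hH, hf, hF2, map_zero]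
    rfl

include hH hg in
lemma g_surjective : Function.Surjective g := by
  intro χ
  refine ⟨bW.constr ℕ (Sum.elim (fun _ => 0) fun s => χ (bP s)), bP.ext fun s => ?_⟩
  rw [hg, hH, Module.Basis.constr_basis, Sum.elim_inr]

/-- factoring a linear map through a surjective semilinear map -/
lemma exists_factor (hF : Function.Surjective F) (ψ : NW →ₗ[C] M) (h : ∀ x, F x = 0 → ψ x = 0) :
    ∃ φ : NQ →ₗ[C] M, ∀ x, φ (F x) = ψ x := by
  choose s hs using hF
  have key : ∀ x y, F x = F y → ψ x = ψ y := fun x y hxy => by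
    rw [← sub_eq_zero, ← map_sub]
    exact h _ (by rw [map_sub, hxy, sub_self])
  refine ⟨{ toFun := fun z => ψ (s z), map_add' := fun x y => ?_, map_smul' := fun c x => ?_ },
    fun x => ?_⟩
  · rw [← map_add]
    exact key _ _ (by rw [hs, map_add, hs, hs])
  · rw [RingHom.id_apply, ← map_smul]
    exact key _ _ (by rw [hs, LinearMap.map_smulₛₗ, hs]; rfl)
  · exact key _ _ (hs _)

end General

variable {A : Type u₁} {B : Type u₂} {C : Type u₃} [CommRing A] [CommRing B] [CommRing C]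
variable [Algebra A B] [Algebra B C] [Algebra A C] [IsScalarTower A B C]
variable {ι : Type w₁} {σ : Type w₂} {ι' : Type w₃} {σ' : Type w₄}
variable (P : Algebra.Presentation A B ι σ) (Q : Algebra.Presentation B C ι' σ')
variable (M : Type m) [AddCommGroup M] [Module C M] [Module B M] [IsScalarTower B C M]

lemma h2_L0 (s : ι') : (h2 P Q).L0map ((cmp P Q).cotangentSpaceBasis (Sum.inl s)) =
    Q.cotangentSpaceBasis s := by
  rw [Algebra.Generators.cotangentSpaceBasis_apply, Algebra.Generators.cotangentSpaceBasis_apply]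
  rw [PresHom.L0map_apply]
  erw [Algebra.Extension.CotangentSpace.map_tmul]
  rw [map_one]
  congr 2
  exact MvPolynomial.aeval_X _ _

lemma h2_L0' (s : ι) : (h2 P Q).L0map ((cmp P Q).cotangentSpaceBasis (Sum.inr s)) = 0 := by
  rw [Algebra.Generators.cotangentSpaceBasis_apply]
  rw [PresHom.L0map_apply]
  erw [Algebra.Extension.CotangentSpace.map_tmul]
  have h3 : (h2 P Q).hom.toExtensionHom.toAlgHom (MvPolynomial.X (Sum.inr s)) =
      algebraMap B Q.toExtension.Ring (P.val s) := MvPolynomial.aeval_X _ _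
  erw [h3]
  rw [Derivation.map_algebraMap, TensorProduct.tmul_zero]

lemma h1_L0 (s : ι) : (h1 P Q).L0map (P.cotangentSpaceBasis s) =
    (cmp P Q).cotangentSpaceBasis (Sum.inr s) := by
  rw [Algebra.Generators.cotangentSpaceBasis_apply, Algebra.Generators.cotangentSpaceBasis_apply]
  rw [PresHom.L0map_apply]
  erw [Algebra.Extension.CotangentSpace.map_tmul]
  rw [map_one]
  congr 2
  exact MvPolynomial.aeval_X _ _

lemma h2_L1 (s : σ') : (h2 P Q).L1map (L1basis (cmp P Q) (Sum.inl s)) = L1basis Q s := by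
  rw [L1basis_apply, L1basis_apply, PresHom.L1map_tmul, α1, map_one]

lemma h2_L1' (s : σ) : (h2 P Q).L1map (L1basis (cmp P Q) (Sum.inr s)) = 0 := by
  rw [L1basis_apply, PresHom.L1map_tmul, α2, TensorProduct.tmul_zero]

lemma h1_L1 (s : σ) : (h1 P Q).L1map (L1basis P s) = L1basis (cmp P Q) (Sum.inr s) := by
  rw [L1basis_apply, L1basis_apply, PresHom.L1map_tmul, β1, map_one]

lemma h2_L2_surjective : Function.Surjective (h2 P Q).L2map := by
  intro z
  obtain ⟨q', rfl⟩ := toL2_surjective Q z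
  obtain ⟨q, rfl⟩ := relKerMap_surjective P Q q'
  exact ⟨toL2 _ q, L2map_toL2 _ _⟩

lemma pull2_injective : Function.Injective ((h2 P Q).pull2 M) := by
  intro φ φ' h
  refine LinearMap.ext fun z => ?_
  obtain ⟨x, rfl⟩ := h2_L2_surjective P Q z
  exact LinearMap.congr_fun h x

lemma pull2_exact : Function.Exact ((h2 P Q).pull2 M) ((h1 P Q).pull2 M) := by
  intro ψ
  constructor
  · intro h
    obtain ⟨φ, hφ⟩ := exists_factor (h2 P Q).L2map (h2_L2_surjective P Q) ψ (by
      intro x hx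
      obtain ⟨q, rfl⟩ := toL2_surjective _ x
      rw [L2map_toL2, toL2_eq_zero_iff] at hx
      obtain ⟨n, y, p, hq⟩ := exists_decomp P Q q hx
      rw [hq, map_sum]
      refine Finset.sum_eq_zero fun j _ => ?_
      rw [map_smul, ← pull2_toL2 (h1 P Q) M ψ (p j), h, LinearMap.zero_apply, smul_zero])
    exact ⟨φ, LinearMap.ext hφ⟩
  · rintro ⟨φ, rfl⟩
    apply hat_ext
    intro q
    rw [pull2_toL2, pull2_toL2, LinearMap.zero_apply]
    have : toL2 Q ((h2 P Q).relKerMap ((h1 P Q).relKerMap q)) = 0 := by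
      have h3 : (h2 P Q).relKerMap ((h1 P Q).relKerMap q) = 0 := by
        apply Subtype.ext
        change (h2 P Q).relModMap ((h1 P Q).relModMap (q : relMod P)) = 0
        generalize (q : relMod P) = f
        induction f using Finsupp.induction_linear with
        | zero => simp
        | add f g hf hg => rw [map_add, map_add, hf, hg, add_zero]
        | single s r =>
          rw [show (Finsupp.single s r : relMod P) = r • Finsupp.single s 1 by simp,
            LinearMap.map_smulₛₗ, β1, LinearMap.map_smulₛₗ, α2, smul_zero]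
      rw [h3, map_zero]
    rw [this, map_zero]

/-- `Hom(L•, M)` over `ℤ` -/
def cohZ {A B : Type*} [CommRing A] [CommRing B] [Algebra A B] {ι σ : Type*}
    (P : Algebra.Presentation A B ι σ) (M : Type*) [AddCommGroup M] [Module B M] :
    Nine.Coh ℤ (L0 P →ₗ[B] M) (L1 P →ₗ[B] M) (L2 P →ₗ[B] M) (T0 P M) (T1 P M) (T2 P M) where
  d0 := (d1Star P M).toAddMonoidHom.toIntLinearMap
  d1 := (d2Star P M).toAddMonoidHom.toIntLinearMap
  dd x := LinearMap.congr_fun (d2Star_comp_d1Star P M) x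
  i := (LinearMap.ker (d1Star P M)).subtype.toAddMonoidHom.toIntLinearMap
  i_inj := Subtype.val_injective
  i_ker x := ⟨fun h => ⟨⟨x, h⟩, rfl⟩, by rintro ⟨h, rfl⟩; exact h.2⟩
  c := AddMonoidHom.toIntLinearMap
    { toFun := fun x => Submodule.Quotient.mk ⟨x.1, x.2⟩
      map_zero' := rfl
      map_add' := fun _ _ => rfl }
  c_surj x := by
    obtain ⟨y, rfl⟩ := Submodule.Quotient.mk_surjective _ x
    exact ⟨⟨y.1, y.2⟩, rfl⟩
  c_ker x := by
    change Submodule.Quotient.mk _ = _ ↔ _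
    rw [Submodule.Quotient.mk_eq_zero]
    rfl
  q := (LinearMap.range (d2Star P M)).mkQ.toAddMonoidHom.toIntLinearMap
  q_surj := Submodule.mkQ_surjective _
  q_ker x := by
    change Submodule.Quotient.mk _ = _ ↔ _
    rw [Submodule.Quotient.mk_eq_zero]
    rfl

/-- the nine-term sequence for a composed presentation -/
theorem nine_cmp :
    Function.Injective ((h2 P Q).T0pull M) ∧
    Function.Exact ((h2 P Q).T0pull M) ((h1 P Q).T0pull M) ∧
    Function.Exact ((h2 P Q).T1pull M) ((h1 P Q).T1pull M) ∧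
    Function.Exact ((h2 P Q).T2pull M) ((h1 P Q).T2pull M) ∧
    ∃ (δ₀ : CotT.T0 P M →ₗ[ℤ] CotT.T1 Q M) (δ₁ : CotT.T1 P M →ₗ[ℤ] CotT.T2 Q M),
      Function.Exact ((h1 P Q).T0pull M) δ₀ ∧ Function.Exact δ₀ ((h2 P Q).T1pull M) ∧
      Function.Exact ((h1 P Q).T1pull M) δ₁ ∧ Function.Exact δ₁ ((h2 P Q).T2pull M) :=
  Nine.nine (cohZ Q M) (cohZ (cmp P Q) M) (cohZ P M)
    ((h2 P Q).pull0 M).toAddMonoidHom.toIntLinearMap
    ((h2 P Q).pull1 M).toAddMonoidHom.toIntLinearMap
    ((h2 P Q).pull2 M).toAddMonoidHom.toIntLinearMap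
    ((h1 P Q).pull0 M).toAddMonoidHom.toIntLinearMap
    ((h1 P Q).pull1 M).toAddMonoidHom.toIntLinearMap
    ((h1 P Q).pull2 M).toAddMonoidHom.toIntLinearMap
    ((h2 P Q).T0pull M) ((h2 P Q).T1pull M) ((h2 P Q).T2pull M)
    ((h1 P Q).T0pull M) ((h1 P Q).T1pull M) ((h1 P Q).T2pull M)
    (fun x => (h2 P Q).pull1_d1Star M x) (fun x => (h2 P Q).pull2_d2Star M x)
    (fun x => (h1 P Q).pull1_d1Star M x) (fun x => (h1 P Q).pull2_d2Star M x)
    (f_injective (cmp P Q).cotangentSpaceBasis Q.cotangentSpaceBasis (h2 P Q).L0map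
      (h2_L0 P Q) _ (fun _ _ => rfl))
    (f_injective (L1basis (cmp P Q)) (L1basis Q) (h2 P Q).L1map (h2_L1 P Q) _ (fun _ _ => rfl))
    (pull2_injective P Q M)
    (fg_exact P.cotangentSpaceBasis (cmp P Q).cotangentSpaceBasis Q.cotangentSpaceBasis
      (h2 P Q).L0map (h1 P Q).L0map (h2_L0 P Q) (h2_L0' P Q) (h1_L0 P Q) _ _
      (fun _ _ => rfl) (fun _ _ => rfl))
    (fg_exact (L1basis P) (L1basis (cmp P Q)) (L1basis Q)
      (h2 P Q).L1map (h1 P Q).L1map (h2_L1 P Q) (h2_L1' P Q) (h1_L1 P Q) _ _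
      (fun _ _ => rfl) (fun _ _ => rfl))
    (pull2_exact P Q M)
    (g_surjective P.cotangentSpaceBasis (cmp P Q).cotangentSpaceBasis (h1 P Q).L0map
      (h1_L0 P Q) _ (fun _ _ => rfl))
    (g_surjective (L1basis P) (L1basis (cmp P Q)) (h1 P Q).L1map (h1_L1 P Q) _ (fun _ _ => rfl))
    (fun _ => rfl) (fun _ => rfl) (fun _ _ => rfl) (fun _ _ => rfl) (fun _ => rfl) (fun _ => rfl)

end K694.NineRings
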