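import Groth.Agent.DefT.K694.Pres

/-!
# `T²` depends only on the ring `R`, its map to `B` and the relations: comparison along ring isomorphisms
-/

universe u v w t u' v' w' t' m m'

open TensorProduct

noncomputable section

namespace K694.RelHom

open CotT K694.Basic K694.Hat

variable {A : Type u} {B : Type v} {ι : Type w} {σ : Type t} {A' : Type u'} {ι' : Type w'}
  {σ' : Type t'}
variable [CommRing A] [CommRing B] [Algebra A B] [CommRing A'] [Algebra A' B]
variable (P : Algebra.Presentation A B ι σ) (P' : Algebra.Presentation A' B ι' σ')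

/-- morphism of relation data over a ring map `R → R'` compatible with the maps to `B` -/
structure RHom where
  τ : P.toExtension.Ring →+* P'.toExtension.Ring
  hτ : ∀ x, algebraMap P'.toExtension.Ring B (τ x) = algebraMap P.toExtension.Ring B x
  val : σ → relMod P'
  jmap_val : ∀ s, jmap P' (val s) = τ (rel P s)

variable {P P'}

lemma exists_rhom (τ : P.toExtension.Ring →+* P'.toExtension.Ring)
    (hτ : ∀ x, algebraMap P'.toExtension.Ring B (τ x) = algebraMap P.toExtension.Ring B x) :
    ∃ h : RHom P P', h.τ = τ := by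
  have : ∀ s, ∃ f : relMod P', jmap P' f = τ (rel P s) := by
    intro s
    have h : τ (rel P s) ∈ P'.toExtension.ker := by
      change algebraMap P'.toExtension.Ring B _ = 0
      rw [hτ, algebraMap_rel]
    have : τ (rel P s) ∈ LinearMap.range (jmap P') := by
      rw [range_jmap]; exact h
    exact this
  choose r hr using this
  exact ⟨⟨τ, hτ, r, hr⟩, rfl⟩

namespace RHom

variable (h : RHom P P')

/-- `F → F'` -/
def relModMap : relMod P →ₛₗ[h.τ] relMod P' where
  toFun f := f.sum fun s r => h.τ r • h.val s
  map_add' f g := by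
    classical
    rw [Finsupp.sum_add_index]
    · intros; rw [map_zero, zero_smul]
    · intros; rw [map_add, add_smul]
  map_smul' r f := by
    rw [Finsupp.sum_smul_index', Finsupp.smul_sum]
    · refine Finsupp.sum_congr fun s _ => ?_
      rw [smul_eq_mul, map_mul, mul_smul]
    · intros; rw [map_zero, zero_smul]

@[simp] lemma relModMap_single (s : σ) (r : P.toExtension.Ring) :
    h.relModMap (Finsupp.single s r) = h.τ r • h.val s := by
  change (Finsupp.single s r).sum (fun s r => h.τ r • h.val s) = _
  rw [Finsupp.sum_single_index]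
  rw [map_zero, zero_smul]

lemma jmap_relModMap (f : relMod P) : jmap P' (h.relModMap f) = h.τ (jmap P f) := by
  induction f using Finsupp.induction_linear with
  | zero => simp
  | add f g hf hg => rw [map_add, map_add, hf, hg, map_add, map_add]
  | single s r => rw [relModMap_single, map_smul, jmap_val, jmap_single, smul_eq_mul, map_mul]

/-- `Q → Q'` -/
def relKerMap : relKer P →ₛₗ[h.τ] relKer P' :=
  (h.relModMap.comp (relKer P).subtype).codRestrict (relKer P') (fun q => by
    change jmap P' (h.relModMap (q : relMod P)) = 0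
    rw [jmap_relModMap, show jmap P (q : relMod P) = 0 from q.2, map_zero])

@[simp] lemma relKerMap_coe (q : relKer P) : (h.relKerMap q : relMod P') = h.relModMap q := rfl

lemma relModMap_mem_trivRel {y : relMod P} (hy : y ∈ trivRel P) : h.relModMap y ∈ trivRel P' := by
  induction hy using Submodule.span_induction with
  | mem x hx =>
    obtain ⟨a, b, rfl⟩ := hx
    refine Submodule.subset_span ⟨h.relModMap a, h.relModMap b, ?_⟩
    rw [map_sub, LinearMap.map_smulₛₗ, LinearMap.map_smulₛₗ, jmap_relModMap, jmap_relModMap]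
  | zero => simp
  | add x y _ _ hx hy => rw [map_add]; exact Submodule.add_mem _ hx hy
  | smul r x _ hx => rw [LinearMap.map_smulₛₗ]; exact Submodule.smul_mem _ _ hx

lemma comp_algebraMap : (algebraMap P'.toExtension.Ring B).comp h.τ = algebraMap P.toExtension.Ring B :=
  RingHom.ext h.hτ

/-- `L₂ → L₂'` -/
def L2map : L2 P →ₗ[B] L2 P' :=
  ofHat
    { toFun := fun q => toL2 P' (h.relKerMap q)
      map_add' := fun x y => by rw [map_add, map_add]
      map_smul' := fun r x => by rw [LinearMap.map_smulₛₗ, LinearMap.map_smulₛₗ, h.hτ] }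
    (fun q hq => (toL2_eq_zero_iff P' _).mpr (h.relModMap_mem_trivRel hq))

@[simp] lemma L2map_toL2 (q : relKer P) : h.L2map (toL2 P q) = toL2 P' (h.relKerMap q) := by
  rw [L2map, ofHat_toL2]
  rfl

/-- `T²(P') → T²(P)` -/
def T2map (M : Type m) [AddCommGroup M] [Module B M] : T2 P' M →ₗ[B] T2 P M :=
  Submodule.mapQ _ _ (LinearMap.lcomp B M h.L2map) (by
    rintro _ ⟨χ, rfl⟩
    rw [Submodule.mem_comap]
    have h1 : toT2 P M (LinearMap.lcomp B M h.L2map (d2Star P' M χ)) = 0 := by
      rw [toT2_eq_zero_iff]
      refine ⟨{ toFun := fun f => χ ((1 : B) ⊗ₜ h.relModMap f)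
                map_add' := fun x y => by rw [map_add, TensorProduct.tmul_add, map_add]
                map_smul' := fun r x => by
                  rw [LinearMap.map_smulₛₗ, ← Semi.restr_apply, LinearMap.map_smulₛₗ, h.hτ]
                  rfl }, fun q => ?_⟩
      change χ ((1 : B) ⊗ₜ h.relModMap q) = χ (d2 P' (h.L2map (toL2 P q)))
      rw [L2map_toL2, d2_toL2]
      rfl
    exact (Submodule.Quotient.mk_eq_zero _).mp h1)

lemma T2map_toT2 (M : Type m) [AddCommGroup M] [Module B M] (ψ : L2 P' →ₗ[B] M) :
    h.T2map M (toT2 P' M ψ) = toT2 P M (ψ ∘ₗ h.L2map) := rfl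

lemma T2map_T2map (h' : RHom P' P) (hh : ∀ x, h'.τ (h.τ x) = x)
    (M : Type m) [AddCommGroup M] [Module B M] (x : T2 P M) : h.T2map M (h'.T2map M x) = x := by
  obtain ⟨ψ, rfl⟩ := toT2_surjective P M x
  rw [T2map_toT2, T2map_toT2, toT2_eq_iff]
  let γ : relMod P → relKer P := fun f => ⟨h'.relModMap (h.relModMap f) - f, by
    change jmap P _ = 0
    rw [map_sub, jmap_relModMap, jmap_relModMap, hh, sub_self]⟩
  have γadd : ∀ x y, γ (x + y) = γ x + γ y := fun x y => Subtype.ext (by
    change h'.relModMap (h.relModMap (x + y)) - (x + y) =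
      (h'.relModMap (h.relModMap x) - x) + (h'.relModMap (h.relModMap y) - y)
    rw [map_add, map_add]; abel)
  have γsmul : ∀ (r : P.toExtension.Ring) x, γ (r • x) = r • γ x := fun r x => Subtype.ext (by
    change h'.relModMap (h.relModMap (r • x)) - r • x =
      r • (h'.relModMap (h.relModMap x) - x)
    rw [LinearMap.map_smulₛₗ, LinearMap.map_smulₛₗ, hh, smul_sub])
  refine ⟨{ toFun := fun f => ψ (toL2 P (γ f))
            map_add' := fun x y => by rw [γadd, map_add, map_add]
            map_smul' := fun r x => by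
              rw [γsmul, LinearMap.map_smulₛₗ, map_smul] }, fun q => ?_⟩
  change ψ (toL2 P (γ q)) = ψ (h'.L2map (h.L2map (toL2 P q))) - ψ (toL2 P q)
  rw [L2map_toL2, L2map_toL2, ← map_sub, ← map_sub]
  rfl

end RHom

/-- ring isomorphisms compatible with the maps to `B` give isomorphisms on `T²` -/
theorem nonempty_T2equiv (e : P.toExtension.Ring ≃+* P'.toExtension.Ring)
    (he : ∀ x, algebraMap P'.toExtension.Ring B (e x) = algebraMap P.toExtension.Ring B x)
    (M : Type m) [AddCommGroup M] [Module B M] : Nonempty (T2 P' M ≃ₗ[B] T2 P M) := by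
  obtain ⟨h, hh⟩ := exists_rhom (P := P) (P' := P') e.toRingHom he
  obtain ⟨h', hh'⟩ := exists_rhom (P := P') (P' := P) e.symm.toRingHom (fun x => by
    rw [← he]; simp)
  exact ⟨LinearEquiv.ofLinearMap (h.T2map M) (h'.T2map M)
    (LinearMap.ext fun x => RHom.T2map_T2map h h' (fun x => by rw [hh, hh']; simp) M x)
    (LinearMap.ext fun x => RHom.T2map_T2map h' h (fun x => by rw [hh, hh']; simp) M x)⟩

/-- S12295 -/
theorem over_base {k : Type u} [CommRing k] [Algebra k B] (P : Algebra.Presentation k B ι σ)
    [IsEmpty ι'] (P' : Algebra.Presentation P.toExtension.Ring B ι' σ')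
    (M : Type m) [AddCommGroup M] [Module B M] :
    Nonempty (CotT.T2 P' M ≃ₗ[B] CotT.T2 P M) := by
  let e : P.toExtension.Ring ≃+* P'.toExtension.Ring :=
    (MvPolynomial.isEmptyRingEquiv P.toExtension.Ring ι').symm
  refine nonempty_T2equiv e (fun x => ?_) M
  have : e x = MvPolynomial.C x := rfl
  rw [this, algebraMap_toExtension]
  exact MvPolynomial.aeval_C _ _

end K694.RelHom
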