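import Groth.Agent.DefT.K694.Basic
import Groth.Agent.DefT.K694.Cross

/-!
# Semilinear maps `N → M` over `R → B` and `B`-linear maps `B ⊗_R N → M`
-/

universe u v w t n m

open TensorProduct

noncomputable section

namespace K694.Semi

variable {R : Type u} {B : Type v} [CommRing R] [CommRing B] [Algebra R B]
variable {N : Type n} [AddCommMonoid N] [Module R N] {M : Type m} [AddCommMonoid M] [Module B M]

/-- additive map `B ⊗ N → M` attached to a semilinear map -/
def addLift (f : N →ₛₗ[algebraMap R B] M) : B ⊗[R] N →+ M :=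
  TensorProduct.liftAddHom
    { toFun := fun b =>
        { toFun := fun q => b • f q
          map_zero' := by rw [map_zero, smul_zero]
          map_add' := fun x y => by rw [map_add, smul_add] }
      map_zero' := AddMonoidHom.ext fun x => zero_smul B (f x)
      map_add' := fun b b' => AddMonoidHom.ext fun x => add_smul b b' (f x) }
    (fun r b q => by
      change (r • b) • f q = b • f (r • q)
      rw [LinearMap.map_smulₛₗ, ← mul_smul, Algebra.smul_def, mul_comm])

lemma addLift_tmul (f : N →ₛₗ[algebraMap R B] M) (b : B) (x : N) :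
    addLift f (b ⊗ₜ x) = b • f x := rfl

/-- `B`-linear map `B ⊗ N → M` attached to a semilinear map -/
def lift (f : N →ₛₗ[algebraMap R B] M) : B ⊗[R] N →ₗ[B] M where
  toFun := addLift f
  map_add' := map_add _
  map_smul' b z := by
    induction z using TensorProduct.induction_on with
    | zero => simp
    | add x y hx hy => rw [smul_add, map_add, hx, hy, map_add, smul_add]
    | tmul c q =>
      rw [TensorProduct.smul_tmul', addLift_tmul, addLift_tmul, smul_eq_mul, mul_smul]
      rfl

@[simp] lemma lift_tmul (f : N →ₛₗ[algebraMap R B] M) (b : B) (x : N) :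
    lift f (b ⊗ₜ x) = b • f x := rfl

/-- semilinear map attached to a `B`-linear map out of `B ⊗ N` -/
def restr (φ : B ⊗[R] N →ₗ[B] M) : N →ₛₗ[algebraMap R B] M where
  toFun x := φ (1 ⊗ₜ x)
  map_add' x y := by rw [TensorProduct.tmul_add, map_add]
  map_smul' r x := by
    rw [← TensorProduct.smul_tmul, Algebra.smul_def, mul_one, ← map_smul, TensorProduct.smul_tmul',
      smul_eq_mul, mul_one]

@[simp] lemma restr_apply (φ : B ⊗[R] N →ₗ[B] M) (x : N) : restr φ x = φ (1 ⊗ₜ x) := rfl

lemma lift_restr (φ : B ⊗[R] N →ₗ[B] M) : lift (restr φ) = φ := by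
  refine LinearMap.ext fun z => ?_
  induction z using TensorProduct.induction_on with
  | zero => simp
  | add x y hx hy => rw [map_add, hx, hy, map_add]
  | tmul b x =>
    rw [lift_tmul, restr_apply, ← map_smul, TensorProduct.smul_tmul', smul_eq_mul, mul_one]

lemma hom_ext {φ φ' : B ⊗[R] N →ₗ[B] M} (h : ∀ x, φ (1 ⊗ₜ x) = φ' (1 ⊗ₜ x)) : φ = φ' := by
  rw [← lift_restr φ, ← lift_restr φ']
  congr 1
  ext x
  exact h x

section Ker

variable {R : Type u} {B : Type v} [CommRing R] [CommRing B] [Algebra R B]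
variable {Q : Type n} [AddCommGroup Q] [Module R Q]

/-- for `R → B` surjective with kernel `I` and `I Q ⊆ F₀`: if the class of `1 ⊗ q` vanishes in
`(B ⊗ Q) / (B ⊗ F₀)` then `q ∈ F₀` -/
lemma mem_of_one_tmul_mem_range (hs : Function.Surjective (algebraMap R B)) (F₀ : Submodule R Q)
    (hI : ∀ r : R, algebraMap R B r = 0 → ∀ q : Q, r • q ∈ F₀) (q : Q)
    (hq : (1 : B) ⊗ₜ[R] q ∈ LinearMap.range (F₀.subtype.baseChange B)) : q ∈ F₀ := by
  have hN : Module.IsTorsionBySet R (Q ⧸ F₀) (RingHom.ker (algebraMap R B)) := by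
    rintro x ⟨r, hr⟩
    obtain ⟨y, rfl⟩ := Submodule.Quotient.mk_surjective _ x
    change r • Submodule.Quotient.mk y = 0
    rw [← Submodule.Quotient.mk_smul, Submodule.Quotient.mk_eq_zero]
    exact hI r hr y
  let e : (R ⧸ RingHom.ker (algebraMap R B)) ≃+* B :=
    RingHom.quotientKerEquivOfSurjective hs
  let : Module (R ⧸ RingHom.ker (algebraMap R B)) (Q ⧸ F₀) := hN.module
  let : Module B (Q ⧸ F₀) := Module.compHom (Q ⧸ F₀) e.symm.toRingHom
  have hsm : ∀ (r : R) (x : Q ⧸ F₀), algebraMap R B r • x = r • x := by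
    intro r x
    change e.symm (algebraMap _ B r) • x = r • x
    have : e.symm (algebraMap _ B r) = Ideal.Quotient.mk _ r := by
      rw [RingEquiv.symm_apply_eq]; rfl
    rw [this]
    rfl
  let f : Q →ₛₗ[algebraMap R B] (Q ⧸ F₀) :=
    { toFun := fun q => Submodule.Quotient.mk q
      map_add' := fun x y => rfl
      map_smul' := fun r x => by rw [hsm]; rfl }
  obtain ⟨z, hz⟩ := hq
  have h1 : ∀ z : B ⊗[R] F₀, lift f (F₀.subtype.baseChange B z) = 0 := by
    intro z
    induction z using TensorProduct.induction_on with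
    | zero => simp
    | add x y hx hy => rw [map_add, map_add, hx, hy, add_zero]
    | tmul b k =>
      rw [LinearMap.baseChange_tmul, lift_tmul]
      change b • Submodule.Quotient.mk (k : Q) = _
      rw [(Submodule.Quotient.mk_eq_zero _).mpr k.2, smul_zero]
  have h2 : lift f (1 ⊗ₜ q) = 0 := by rw [← hz, h1]
  rw [lift_tmul, one_smul] at h2
  change Submodule.Quotient.mk q = 0 at h2
  rwa [Submodule.Quotient.mk_eq_zero] at h2

/-- version for a submodule `K` of `N` and `F₀ ≤ N` -/
lemma mem_of_one_tmul_mem_range' (hs : Function.Surjective (algebraMap R B)) (K F₀ : Submodule R Q)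
    (hI : ∀ r : R, algebraMap R B r = 0 → ∀ q ∈ K, r • q ∈ F₀) (q : K)
    (hq : (1 : B) ⊗ₜ[R] q ∈ LinearMap.range ((F₀.comap K.subtype).subtype.baseChange B)) :
    (q : Q) ∈ F₀ :=
  mem_of_one_tmul_mem_range hs (F₀.comap K.subtype) (fun r hr q => hI r hr q q.2) q hq

end Ker

end K694.Semi
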