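import Groth.Agent.DefT.K694.TrivLoc
import Mathlib.Algebra.MvPolynomial.Division
import Mathlib.RingTheory.MvPolynomial.Ideal

/-!
# Relations between the variables `X_i - c_i` of a polynomial ring in any number of variables are trivial
-/

universe u v w t

noncomputable section

namespace K694.TrivX

open Koszul1

section General

variable {S : Type u} [CommRing S] {σ : Type v} (g : σ → S)

/-- relations of a family each of whose members is a non-zero-divisor modulo any finite set of the others -/
theorem ker_le_triv_finset
    (hreg : ∀ (s : Finset σ) (i : σ) (a : S), i ∉ s → a * g i ∈ Ideal.span (g '' s) →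
      a ∈ Ideal.span (g '' s)) :
    LinearMap.ker (Finsupp.linearCombination S g) ≤ Triv g := by
  classical
  have key : ∀ (s : Finset σ) (f : σ →₀ S), f.support ⊆ s →
      Finsupp.linearCombination S g f = 0 → f ∈ Triv g := by
    intro s
    induction s using Finset.induction_on with
    | empty =>
      intro f hf _
      have : f = 0 := by
        rw [← Finsupp.support_eq_empty]
        exact Finset.subset_empty.mp hf
      rw [this]; exact Submodule.zero_mem _
    | insert i0 s hi0 ih =>
      intro f hf h0
      have hsplit : f = Finsupp.single i0 (f i0) + f.erase i0 := (Finsupp.single_add_erase i0 f).symm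
      have hmem : f i0 * g i0 ∈ Ideal.span (g '' s) := by
        have h1 : f i0 * g i0 = - Finsupp.linearCombination S g (f.erase i0) := by
          rw [eq_neg_iff_add_eq_zero]
          rw [hsplit, map_add, Finsupp.linearCombination_single, smul_eq_mul] at h0
          exact h0
        rw [h1]
        refine Submodule.neg_mem _ ?_
        rw [Finsupp.linearCombination_apply, Finsupp.sum]
        refine Submodule.sum_mem _ fun j hj => ?_
        rw [smul_eq_mul]
        refine Ideal.mul_mem_left _ _ (Ideal.subset_span ⟨j, ?_, rfl⟩)
        rw [Finsupp.support_erase, Finset.mem_erase] at hj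
        exact (Finset.mem_insert.mp (hf hj.2)).resolve_left hj.1
      have hc := hreg s i0 (f i0) hi0 hmem
      obtain ⟨d, hd, hd'⟩ : ∃ d : σ →₀ S, d.support ⊆ s ∧
          Finsupp.linearCombination S g d = f i0 := by
        rw [Ideal.span, Finsupp.mem_span_image_iff_linearCombination] at hc
        obtain ⟨d, hd, hd'⟩ := hc
        exact ⟨d, fun i hi => hd hi, hd'⟩
      have hdi0 : d i0 = 0 := by
        by_contra h
        exact hi0 (hd (Finsupp.mem_support_iff.mpr h))
      have h5 := mem_triv g d (Finsupp.single i0 1)
      rw [Finsupp.linearCombination_single, one_smul, hd'] at h5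
      have h6 : f - (f i0 • Finsupp.single i0 1 - g i0 • d) ∈ Triv g := by
        apply ih
        · intro i hi
          rw [Finsupp.mem_support_iff] at hi
          by_contra his
          apply hi
          by_cases hii : i = i0
          · subst hii
            simp [hdi0]
          · have h7 : d i = 0 := by
              by_contra h; exact his (hd (Finsupp.mem_support_iff.mpr h))
            have h8 : f i = 0 := by
              by_contra h
              exact his ((Finset.mem_insert.mp (hf (Finsupp.mem_support_iff.mpr h))).resolve_left hii)
            simp [h7, h8, Ne.symm hii]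
        · rw [map_sub, map_sub, map_smul, map_smul, Finsupp.linearCombination_single, one_smul, hd',
            h0, smul_eq_mul, smul_eq_mul, mul_comm, sub_self, sub_zero]
      have h9 := Submodule.add_mem _ h6 h5
      rwa [sub_add_cancel] at h9
  intro f hf
  exact key f.support f (Finset.Subset.refl _) hf

variable {g}

/-- functoriality of the trivial relations in the ring -/
lemma map_mem_triv {S' : Type w} [CommRing S'] (e : S →+* S') {x : σ →₀ S} (hx : x ∈ Triv g) :
    Finsupp.mapRange e (map_zero e) x ∈ Triv (fun s => e (g s)) := by
  have hlin : ∀ f : σ →₀ S, Finsupp.linearCombination S' (fun s => e (g s))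
      (Finsupp.mapRange e (map_zero e) f) = e (Finsupp.linearCombination S g f) := by
    intro f
    induction f using Finsupp.induction_linear with
    | zero => simp
    | add f g hf hg =>
      rw [Finsupp.mapRange_add (map_add e), map_add, hf, hg, map_add, map_add]
    | single s r =>
      rw [Finsupp.mapRange_single, Finsupp.linearCombination_single,
        Finsupp.linearCombination_single, smul_eq_mul, smul_eq_mul, map_mul]
  induction hx using Submodule.span_induction with
  | mem x hx =>
    obtain ⟨a, b, rfl⟩ := hx
    have h2 := mem_triv (fun s => e (g s)) (Finsupp.mapRange e (map_zero e) a)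
      (Finsupp.mapRange e (map_zero e) b)
    rw [hlin, hlin] at h2
    convert h2 using 1
    ext s
    simp
  | zero => simp
  | add x y _ _ hx hy =>
    rw [Finsupp.mapRange_add (map_add e)]
    exact Submodule.add_mem _ hx hy
  | smul r x _ hx =>
    have : Finsupp.mapRange e (map_zero e) (r • x) = e r • Finsupp.mapRange e (map_zero e) x := by
      ext s
      simp
    rw [this]
    exact Submodule.smul_mem _ _ hx

/-- transport along an isomorphism -/
lemma ker_le_triv_of_ringEquiv {S' : Type w} [CommRing S'] (e : S ≃+* S')
    (h : LinearMap.ker (Finsupp.linearCombination S' fun s => e (g s)) ≤ Triv fun s => e (g s)) :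
    LinearMap.ker (Finsupp.linearCombination S g) ≤ Triv g := by
  intro q hq
  have h1 : Finsupp.mapRange e (map_zero e) q ∈ Triv fun s => e (g s) := by
    apply h
    rw [LinearMap.mem_ker] at hq ⊢
    have : Finsupp.linearCombination S' (fun s => e (g s)) (Finsupp.mapRange e (map_zero e) q) =
        e (Finsupp.linearCombination S g q) := by
      clear hq
      induction q using Finsupp.induction_linear with
      | zero => simp
      | add f g hf hg =>
        rw [Finsupp.mapRange_add (map_add e), map_add, hf, hg, map_add, map_add]
      | single s r =>
        rw [Finsupp.mapRange_single, Finsupp.linearCombination_single,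
          Finsupp.linearCombination_single, smul_eq_mul, smul_eq_mul, map_mul]
    rw [this, hq, map_zero]
  have h2 := map_mem_triv (e.symm : S' →+* S) h1
  convert h2 using 1
  · ext s
    simp
  · ext s
    simp

end General

section X

variable {C : Type u} [CommRing C] {ι : Type v}

lemma ker_le_triv_X : LinearMap.ker (Finsupp.linearCombination (MvPolynomial ι C)
    (fun i : ι => (MvPolynomial.X i : MvPolynomial ι C))) ≤
      Triv (fun i : ι => (MvPolynomial.X i : MvPolynomial ι C)) := by
  classical
  apply ker_le_triv_finset
  intro s i a his ha
  rw [show ((fun i : ι => (MvPolynomial.X i : MvPolynomial ι C)) '' s) =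
    (MvPolynomial.X '' (s : Set ι) : Set (MvPolynomial ι C)) from rfl,
    MvPolynomial.mem_ideal_span_X_image] at ha ⊢
  intro m hm
  obtain ⟨j, hj, hj'⟩ := ha (m + Finsupp.single i 1) (by
    rw [MvPolynomial.mem_support_iff] at hm ⊢
    rwa [MvPolynomial.coeff_mul_X])
  refine ⟨j, hj, ?_⟩
  have hne : i ≠ j := fun h => his (h ▸ hj)
  rwa [Finsupp.add_apply, Finsupp.single_eq_of_ne hne.symm, add_zero] at hj'

/-- the translation `X_i ↦ X_i + c_i` -/
def transl (c : ι → C) : MvPolynomial ι C →ₐ[C] MvPolynomial ι C :=
  MvPolynomial.aeval fun i => MvPolynomial.X i + MvPolynomial.C (c i)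

lemma transl_X (c : ι → C) (i : ι) :
    transl c (MvPolynomial.X i) = MvPolynomial.X i + MvPolynomial.C (c i) :=
  MvPolynomial.aeval_X _ _

/-- translations are automorphisms -/
def translEquiv (c : ι → C) : MvPolynomial ι C ≃ₐ[C] MvPolynomial ι C :=
  AlgEquiv.ofAlgHom (transl c) (transl fun i => - c i)
    (by
      ext i : 1
      rw [AlgHom.comp_apply, transl_X, map_add, transl_X]
      change _ + transl c (algebraMap C _ _) = _
      rw [AlgHom.commutes]
      change MvPolynomial.X i + MvPolynomial.C (c i) + MvPolynomial.C (- c i) = _
      rw [add_assoc, ← map_add, add_neg_cancel, map_zero, add_zero]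
      rfl)
    (by
      ext i : 1
      rw [AlgHom.comp_apply, transl_X, map_add, transl_X]
      change _ + transl _ (algebraMap C _ _) = _
      rw [AlgHom.commutes]
      change MvPolynomial.X i + MvPolynomial.C (- c i) + MvPolynomial.C (c i) = _
      rw [add_assoc, ← map_add, neg_add_cancel, map_zero, add_zero]
      rfl)

lemma ker_le_triv_X_sub_C (c : ι → C) : LinearMap.ker (Finsupp.linearCombination (MvPolynomial ι C)
    (fun i : ι => (MvPolynomial.X i - MvPolynomial.C (c i) : MvPolynomial ι C))) ≤
      Triv (fun i : ι => (MvPolynomial.X i - MvPolynomial.C (c i) : MvPolynomial ι C)) := by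
  apply ker_le_triv_of_ringEquiv (translEquiv c).toRingEquiv
  have : (fun i : ι => (translEquiv c).toRingEquiv (MvPolynomial.X i - MvPolynomial.C (c i))) =
      fun i : ι => (MvPolynomial.X i : MvPolynomial ι C) := by
    ext1 i
    change transl c _ = _
    rw [map_sub, transl_X]
    change _ - transl c (algebraMap C _ _) = _
    rw [AlgHom.commutes]
    change MvPolynomial.X i + MvPolynomial.C (c i) - MvPolynomial.C (c i) = _
    rw [add_sub_cancel_right]
  rw [this]
  exact ker_le_triv_X

lemma ker_aeval (c : ι → C) : RingHom.ker (MvPolynomial.aeval c : MvPolynomial ι C →ₐ[C] C) =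
    Ideal.span (Set.range fun i : ι => (MvPolynomial.X i - MvPolynomial.C (c i) : MvPolynomial ι C)) := by
  apply le_antisymm
  · have key : ∀ p : MvPolynomial ι C, p - MvPolynomial.C (MvPolynomial.aeval c p) ∈
        Ideal.span (Set.range fun i : ι => (MvPolynomial.X i - MvPolynomial.C (c i) : MvPolynomial ι C)) := by
      intro p
      induction p using MvPolynomial.induction_on with
      | C a => simp
      | add p q hp hq =>
        have := Ideal.add_mem _ hp hq
        convert this using 1
        rw [map_add, map_add]
        ring
      | mul_X p i hp =>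
        have h1 : (MvPolynomial.X i - MvPolynomial.C (c i) : MvPolynomial ι C) ∈
          Ideal.span (Set.range fun i : ι => (MvPolynomial.X i - MvPolynomial.C (c i) : MvPolynomial ι C)) :=
          Ideal.subset_span ⟨i, rfl⟩
        have := Ideal.add_mem _ (Ideal.mul_mem_left _ p h1) (Ideal.mul_mem_right (MvPolynomial.C (c i)) _ hp)
        convert this using 1
        rw [map_mul, MvPolynomial.aeval_X, map_mul]
        ring
    intro p hp
    have h := key p
    rw [RingHom.mem_ker] at hp
    have h2 : MvPolynomial.aeval c p = 0 := hp
    rwa [h2, map_zero, sub_zero] at h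
  · rw [Ideal.span_le]
    rintro _ ⟨i, rfl⟩
    change MvPolynomial.aeval c (MvPolynomial.X i - MvPolynomial.C (c i)) = 0
    rw [map_sub, MvPolynomial.aeval_X, MvPolynomial.aeval_C]
    exact sub_self _

end X

end K694.TrivX
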